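/-
`SL_n(F)` is generated by three conjugate regular unipotent elements, `n ≥ 3`.
-/
import Mathlib
import Cfsg.Agent.Lib.Classical.SL

namespace Cfsg.Agent.RegUnipotentGen

open Matrix

variable {ι : Type*} [Fintype ι] [DecidableEq ι] {F : Type*} [Field F]

/-- The transvection `1 + a φ`. -/
def tv (a φ : ι → F) (h : φ ⬝ᵥ a = 0) : SpecialLinearGroup ι F :=
  ⟨1 + vecMulVec a φ, by
    rw [vecMulVec_eq Unit, det_one_add_replicateCol_mul_replicateRow, h, add_zero]⟩

theorem sl_ext {A B : SpecialLinearGroup ι F} (h : (A : Matrix ι ι F) = (B : Matrix ι ι F)) : A = B :=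
  Subtype.ext h

theorem tv_val (a φ : ι → F) (h : φ ⬝ᵥ a = 0) : (tv a φ h).1 = 1 + vecMulVec a φ := rfl

/-- `G` contains the transvection given by `a, φ`. -/
def InG (G : Subgroup (SpecialLinearGroup ι F)) (a φ : ι → F) : Prop :=
  ∃ h : φ ⬝ᵥ a = 0, tv a φ h ∈ G

variable {G : Subgroup (SpecialLinearGroup ι F)}

theorem tv_mul_apply (a φ c ψ : ι → F) :
    vecMulVec a φ * vecMulVec c ψ = (φ ⬝ᵥ c) • vecMulVec a ψ := by
  rw [vecMulVec_mul_vecMulVec, vecMulVec_smul]

theorem InG.zero (φ : ι → F) : InG G 0 φ := by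
  refine ⟨dotProduct_zero φ, ?_⟩
  convert one_mem G
  exact sl_ext (by simp [tv_val])

theorem InG.add {a b φ : ι → F} (ha : InG G a φ) (hb : InG G b φ) : InG G (a + b) φ := by
  obtain ⟨ha0, ha⟩ := ha
  obtain ⟨hb0, hb⟩ := hb
  refine ⟨by rw [dotProduct_add, ha0, hb0, add_zero], ?_⟩
  convert mul_mem ha hb
  apply sl_ext
  change (tv _ φ _).1 = (tv a φ ha0).1 * (tv b φ hb0).1
  rw [tv_val, tv_val, tv_val, add_vecMulVec, add_mul, one_mul, mul_add, mul_one,
    tv_mul_apply, hb0, zero_smul, add_zero, add_comm (vecMulVec a φ), add_assoc]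

theorem InG.neg {a φ : ι → F} (ha : InG G a φ) : InG G (-a) φ := by
  obtain ⟨ha0, ha⟩ := ha
  refine ⟨by rw [dotProduct_neg, ha0, neg_zero], ?_⟩
  convert inv_mem ha
  symm
  apply inv_eq_of_mul_eq_one_left
  apply sl_ext
  change (tv _ φ _).1 * (tv a φ ha0).1 = 1
  rw [tv_val, tv_val, neg_vecMulVec, add_mul,
    one_mul, mul_add, mul_one, neg_mul, tv_mul_apply, ha0]
  simp

theorem InG.conj {a φ : ι → F} (ha : InG G a φ) {g : SpecialLinearGroup ι F} (hg : g ∈ G) :
    InG G (g.1 *ᵥ a) (φ ᵥ* (g⁻¹).1) := by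
  obtain ⟨ha0, ha⟩ := ha
  have hg1 : (g⁻¹).1 * g.1 = 1 := congrArg Subtype.val (inv_mul_cancel g)
  refine ⟨by rw [← dotProduct_mulVec, mulVec_mulVec, hg1, one_mulVec, ha0], ?_⟩
  convert mul_mem (mul_mem hg ha) (inv_mem hg)
  apply sl_ext
  change (tv _ _ _).1 = g.1 * (tv a φ ha0).1 * (g⁻¹).1
  rw [tv_val, tv_val, mul_add, mul_one, add_mul,
    show g.1 * (g⁻¹).1 = 1 from congrArg Subtype.val (mul_inv_cancel g), mul_vecMulVec, vecMulVec_mul]

theorem InG.comm {a φ c ψ : ι → F} (h1 : InG G a φ) (h2 : InG G c ψ) (hψa : ψ ⬝ᵥ a = 0) :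
    InG G ((φ ⬝ᵥ c) • a) ψ := by
  obtain ⟨ha0, ha⟩ := h1
  have hc := h2.conj ha
  have hinv : ((tv a φ ha0)⁻¹).1 = 1 + vecMulVec (-a) φ := by
    have : tv a φ ha0 * tv (-a) φ (by rw [dotProduct_neg, ha0, neg_zero]) = 1 := by
      apply sl_ext
      change (tv a φ ha0).1 * (tv _ φ _).1 = 1
      rw [tv_val, tv_val, neg_vecMulVec, add_mul,
        one_mul, mul_add, mul_one, mul_neg, tv_mul_apply, ha0]
      simp
    rw [inv_eq_of_mul_eq_one_right this]
    rfl
  have e1 : (ψ ᵥ* ((tv a φ ha0)⁻¹).1) = ψ := by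
    rw [hinv, vecMul_add, vecMul_one, vecMul_vecMulVec, dotProduct_neg, hψa, neg_zero, zero_smul, add_zero]
  have e2 : (tv a φ ha0).1 *ᵥ c + -c = (φ ⬝ᵥ c) • a := by
    rw [tv_val, add_mulVec, one_mulVec, vecMulVec_mulVec]
    ext i
    simp [mul_comm]
  rw [e1] at hc
  have h4 := hc.add h2.neg
  rwa [e2] at h4

/-- All transvections with a given functional lie in `G`. -/
def FullAt (G : Subgroup (SpecialLinearGroup ι F)) (ψ : ι → F) : Prop :=
  ∀ a, ψ ⬝ᵥ a = 0 → InG G a ψ

theorem FullAt.smul {ψ : ι → F} (h : FullAt G ψ) (c : F) : FullAt G (c • ψ) := by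
  intro a ha
  by_cases hc : c = 0
  · subst hc
    refine ⟨ha, ?_⟩
    convert one_mem G
    exact sl_ext (by simp [tv_val])
  · rw [smul_dotProduct, smul_eq_zero] at ha
    obtain ⟨h1, h2⟩ := h (c • a) (by rw [dotProduct_smul, ha.resolve_left hc, smul_zero])
    refine ⟨by rw [smul_dotProduct, ha.resolve_left hc, smul_zero], ?_⟩
    convert h2 using 1
    exact sl_ext (by simp [tv_val, vecMulVec_smul, smul_vecMulVec])

theorem FullAt.conj {ψ : ι → F} (h : FullAt G ψ) {g : SpecialLinearGroup ι F} (hg : g ∈ G) :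
    FullAt G (ψ ᵥ* g.1) := by
  intro a ha
  have hg1 : (g⁻¹).1 * g.1 = 1 := congrArg Subtype.val (inv_mul_cancel g)
  have := (h (g.1 *ᵥ a) (by rw [dotProduct_mulVec]; exact ha)).conj (inv_mem hg)
  rwa [mulVec_mulVec, hg1, one_mulVec, inv_inv] at this

theorem FullAt.add {ψ χ : ι → F} (hψ : FullAt G ψ) (hχ : FullAt G χ) : FullAt G (ψ + χ) := by
  by_cases h : ∃ c, χ ⬝ᵥ c = 0 ∧ ψ ⬝ᵥ c = 1
  · obtain ⟨c, hc0, hc1⟩ := h
    obtain ⟨h0, hm⟩ := hχ c hc0
    have := hψ.conj hm
    rwa [tv_val, vecMul_add, vecMul_one, vecMul_vecMulVec, hc1, one_smul] at this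
  · push Not at h
    -- `ψ` is a multiple of `χ`
    by_cases hc : χ = 0
    · rwa [hc, add_zero]
    obtain ⟨c0, hc0⟩ : ∃ c0, χ ⬝ᵥ c0 = 1 := by
      obtain ⟨i, hi⟩ := Function.ne_iff.1 hc
      exact ⟨Pi.single i (χ i)⁻¹, by rw [dotProduct_single, mul_inv_cancel₀ hi]⟩
    have : ψ = (ψ ⬝ᵥ c0) • χ := by
      ext i
      by_contra hne
      set d := Pi.single i (1 : F) - χ i • c0 with hd
      have hd0 : χ ⬝ᵥ d = 0 := by
        rw [hd, dotProduct_sub, dotProduct_single, dotProduct_smul, hc0]; simp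
      have hd1 : ψ ⬝ᵥ d ≠ 0 := by
        rw [hd, dotProduct_sub, dotProduct_single, dotProduct_smul, mul_one, smul_eq_mul, sub_ne_zero,
          mul_comm]
        exact hne
      exact h ((ψ ⬝ᵥ d)⁻¹ • d) (by rw [dotProduct_smul, hd0, smul_zero])
        (by rw [dotProduct_smul, smul_eq_mul, inv_mul_cancel₀ hd1])
    rw [this, show (ψ ⬝ᵥ c0) • χ + χ = (ψ ⬝ᵥ c0 + 1) • χ by rw [add_smul, one_smul]]
    exact hχ.smul _

theorem eq_top_of_fullAt [Nontrivial ι] (h : ∀ j : ι, FullAt G (Pi.single j 1)) : G = ⊤ := by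
  rw [eq_top_iff, ← Cfsg.Agent.ClassicalSL.closure_elemTransvections, Subgroup.closure_le]
  rintro g ⟨i, j, hij, c, rfl⟩
  obtain ⟨h0, hm⟩ := h j (Pi.single i c) (by simp [Pi.single_apply, hij])
  have e : SpecialLinearGroup.transvection hij c = tv (Pi.single i c) (Pi.single j 1) h0 := by
    apply sl_ext
    rw [SpecialLinearGroup.transvection_coe, tv_val]
    ext x y
    simp only [Matrix.add_apply, vecMulVec_apply]
    congr 1
    by_cases hx : x = i
    · subst hx
      by_cases hy : y = j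
      · subst hy; simp
      · rw [Pi.single_eq_of_ne hy, mul_zero, Matrix.single_apply, if_neg (fun e => hy e.2.symm)]
    · rw [Pi.single_eq_of_ne hx, zero_mul, Matrix.single_apply, if_neg (fun e => hx e.1.symm)]
  rw [SetLike.mem_coe, e]
  exact hm

section chain

variable {n : ℕ}

/-- The upper shift. -/
def upperN (n : ℕ) (F : Type*) [Field F] : Matrix (Fin n) (Fin n) F :=
  of fun i j => if (j : ℕ) = i + 1 then 1 else 0

theorem upperN_mulVec (x : Fin n → F) (i : Fin n) :
    (upperN n F *ᵥ x) i = if h : (i : ℕ) + 1 < n then x ⟨i + 1, h⟩ else 0 := by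
  by_cases h : (i : ℕ) + 1 < n
  · rw [dif_pos h]
    simp only [upperN, mulVec, dotProduct, of_apply]
    rw [Finset.sum_eq_single ⟨i + 1, h⟩]
    · simp
    · intro j _ hj
      have : (j : ℕ) ≠ i + 1 := fun e => hj (Fin.ext e)
      simp [this]
    · simp
  · rw [dif_neg h]
    simp only [upperN, mulVec, dotProduct, of_apply]
    refine Finset.sum_eq_zero fun j _ => ?_
    have : (j : ℕ) ≠ i + 1 := by omega
    simp [this]

theorem upperN_pow (k : ℕ) : ∀ (x : Fin n → F) (i : Fin n),
    (upperN n F ^ k *ᵥ x) i = if h : (i : ℕ) + k < n then x ⟨i + k, h⟩ else 0 := by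
  induction k with
  | zero => intro x i; simp
  | succ k ih =>
    intro x i
    rw [pow_succ, ← mulVec_mulVec, ih]
    by_cases h : (i : ℕ) + k < n
    · rw [dif_pos h, upperN_mulVec]
      simp only [add_assoc]
    · rw [dif_neg h, dif_neg (by omega)]

theorem upperN_blockTriangular : (1 + upperN n F).BlockTriangular id := by
  intro i j hij
  have hij' : j < i := hij
  have : (j : ℕ) ≠ i + 1 := by have := hij'; omega
  simp [upperN, hij'.ne', this]

/-- A regular unipotent element. -/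
def regU (n : ℕ) (F : Type*) [Field F] : SpecialLinearGroup (Fin n) F :=
  ⟨1 + upperN n F, by
    rw [det_of_upperTriangular upperN_blockTriangular]
    simp [upperN]⟩

theorem regU_spec (hn : 1 ≤ n) : IsNilpotent ((regU n F).1 - 1) ∧ ((regU n F).1 - 1) ^ (n - 1) ≠ 0 := by
  simp only [regU, add_sub_cancel_left]
  constructor
  · refine ⟨n, ext_of_mulVec_single fun j => ?_⟩
    ext i
    rw [upperN_pow, dif_neg (by omega), zero_mulVec]
    rfl
  · intro h
    have h1 := congrFun (congrArg (· *ᵥ Pi.single (⟨n - 1, by omega⟩ : Fin n) (1 : F)) h) ⟨0, by omega⟩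
    simp only [zero_mulVec, upperN_pow, zero_add, Pi.zero_apply] at h1
    rw [dif_pos (by omega)] at h1
    simp at h1

/-- The lower left entry of the inverse of a lower bidiagonal element. -/
theorem last_row_inv_ne_zero (m : ℕ) (v : SpecialLinearGroup (Fin (m + 3)) F)
    (b : Fin (m + 3) → F) (hb : ∀ k, b k ≠ 0)
    (hv1 : ∀ k : Fin (m + 3), v.1 *ᵥ Pi.single k 1 = Pi.single k 1 +
      (if h : (k : ℕ) + 1 < m + 3 then b k • Pi.single ⟨k + 1, h⟩ 1 else 0)) :
    ((Pi.single (Fin.last (m + 2)) (1 : F)) ᵥ* (v⁻¹).1) 0 ≠ 0 := by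
  set L := Fin.last (m + 2) with hL
  set e : Fin (m + 3) → (Fin (m + 3) → F) := fun k => Pi.single k 1 with he
  set β := (e L ᵥ* (v⁻¹).1) 0 with hβ
  have hvv : v.1 * (v⁻¹).1 = 1 := congrArg Subtype.val (mul_inv_cancel v)
  intro h0
  set y := (v⁻¹).1 *ᵥ e 0 with hy
  have hvy : v.1 *ᵥ y = e 0 := by rw [hy, mulVec_mulVec, hvv, one_mulVec]
  have hyL : y L = 0 := by
    rw [← h0, hβ, hy]
    simp [he]
  have hentry : ∀ i k : Fin (m + 3), v.1 i k =
      (if i = k then 1 else 0) + (if (i : ℕ) = k + 1 then b k else 0) := by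
    intro i k
    have := congrFun (hv1 k) i
    simp only [mulVec_single_one, col_apply, Pi.add_apply] at this
    rw [this, Pi.single_apply]
    congr 1
    split_ifs with h1 h2 h3
    · have : i = ⟨k + 1, h1⟩ := Fin.ext h2
      subst this; simp
    · have : i ≠ ⟨k + 1, h1⟩ := fun e => h2 (by simp [e])
      simp [this]
    · omega
    · simp
  have hstep : ∀ (i : ℕ) (hi : i + 1 < m + 3),
      y ⟨i + 1, hi⟩ + b ⟨i, by omega⟩ * y ⟨i, by omega⟩ = 0 := by
    intro i hi
    have h1 := congrFun hvy ⟨i + 1, hi⟩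
    simp only [mulVec, dotProduct, hentry, add_mul, ite_mul, one_mul, zero_mul, Finset.sum_add_distrib,
      Finset.sum_ite_eq, Finset.mem_univ, if_true] at h1
    rw [Finset.sum_eq_single ⟨i, by omega⟩ (fun k _ hk => if_neg (fun e => hk (Fin.ext (by have e' : i + 1 = k.val + 1 := e; simp; omega))))
      (by simp), if_pos rfl] at h1
    rw [h1]
    simp [he, Fin.ext_iff]
  have hall : ∀ j : ℕ, ∀ hj : j < m + 3, y ⟨m + 2 - j, by omega⟩ = 0 := by
    intro j
    induction j with
    | zero => intro _; exact hyL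
    | succ j ih =>
      intro hj
      have h1 := hstep (m + 2 - (j + 1)) (by omega)
      have h2 := ih (by omega)
      have h3 : (⟨m + 2 - (j + 1) + 1, by omega⟩ : Fin (m + 3)) = ⟨m + 2 - j, by omega⟩ := Fin.ext (by simp; omega)
      rw [h3, h2, zero_add] at h1
      exact (mul_eq_zero.1 h1).resolve_left (hb _)
  have hy0 : y = 0 := by
    ext i
    have hi := hall (m + 2 - i) (by omega)
    have : (⟨m + 2 - (m + 2 - i), by omega⟩ : Fin (m + 3)) = i := Fin.ext (by simp; omega)
    rw [this] at hi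
    exact hi
  rw [hy0, mulVec_zero] at hvy
  simpa [he] using congrFun hvy 0

/-- The chain argument. -/
theorem eq_top_of_chain (m : ℕ) (G : Subgroup (SpecialLinearGroup (Fin (m + 3)) F))
    (u v : SpecialLinearGroup (Fin (m + 3)) F) (hu : u ∈ G) (hv : v ∈ G) (hu1 : u.1 = 1 + upperN (m + 3) F)
    (b : Fin (m + 3) → F) (hb : ∀ k, b k ≠ 0)
    (hv1 : ∀ k : Fin (m + 3), v.1 *ᵥ Pi.single k 1 = Pi.single k 1 +
      (if h : (k : ℕ) + 1 < m + 3 then b k • Pi.single ⟨k + 1, h⟩ 1 else 0))
    (x : F) (hx : ∀ S : Subring F,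
      ((Pi.single (Fin.last (m + 2)) (1 : F)) ᵥ* (v⁻¹).1) 0 * b 0 * x ∈ S → S = ⊤)
    (hxne : x ≠ 0) (hx0 : InG G (x • Pi.single 0 1) (Pi.single (Fin.last (m + 2)) 1)) : G = ⊤ := by
  set L := Fin.last (m + 2) with hL
  set e : Fin (m + 3) → (Fin (m + 3) → F) := fun k => Pi.single k 1 with he
  set β := (e L ᵥ* (v⁻¹).1) 0 with hβ
  have hvv : v.1 * (v⁻¹).1 = 1 := congrArg Subtype.val (mul_inv_cancel v)
  have hβ0 : β ≠ 0 := last_row_inv_ne_zero m v b hb hv1
  have hLdot : ∀ a : Fin (m + 3) → F, e L ⬝ᵥ a = a L := fun a => by simp [he]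
  have hstep : ∀ (k : Fin (m + 3)) (h : (k : ℕ) + 1 < m + 3), v.1 *ᵥ e k = e k + b k • e ⟨k + 1, h⟩ := by
    intro k h; rw [hv1 k, dif_pos h]
  -- moving down with `v`
  have down : ∀ (k : Fin (m + 3)) (h : (k : ℕ) + 1 < m + 2) (s t : F), InG G (s • e k) (e L) →
      InG G (t • e 0) (e L) →
      InG G ((β * t * s) • (e k + b k • e ⟨k + 1, by omega⟩)) (e L) := by
    intro k h s t hs ht
    have h1 := hs.conj hv
    rw [mulVec_smul, hstep k (by omega)] at h1
    have h2 := h1.comm ht (by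
      rw [hLdot]
      have hLv : (L : ℕ) = m + 2 := rfl
      have n1 : (Pi.single k (1 : F) : Fin (m + 3) → F) L = 0 :=
        Pi.single_eq_of_ne (fun h' => by have := congrArg Fin.val h'; omega) 1
      have n2 : (Pi.single (⟨k + 1, by omega⟩ : Fin (m + 3)) (1 : F) : Fin (m + 3) → F) L = 0 :=
        Pi.single_eq_of_ne (fun h' => by have := congrArg Fin.val h'; simp only [hLv] at this; omega) 1
      simp only [he, Pi.smul_apply, Pi.add_apply, n1, n2, smul_zero, add_zero])
    rw [dotProduct_smul, smul_smul] at h2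
    convert h2 using 2
    rw [smul_eq_mul, hβ, he]
    simp only [dotProduct_single, mul_one]
    ring
  -- the scalars available on the first root
  have fix0 : ∀ a : F, InG G (a • e 0) (e L) → ∀ c : F, InG G (c • e 0) (e L) →
      InG G ((β * b 0 * c * a) • e 0) (e L) := by
    intro a ha c hc
    have h1 := down 0 (by simp) a c ha hc
    have h2 := h1.conj hu
    have hfix : e L ᵥ* (u⁻¹).1 = e L := by
      have hu2 : e L ᵥ* u.1 = e L := by
        rw [hu1, vecMul_add, vecMul_one, he]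
        simp only [single_one_vecMul, add_eq_left]
        ext j
        have : (j : ℕ) ≠ m + 3 := by omega
        simp [upperN, hL, Matrix.row, this]
      conv_lhs => rw [← hu2, vecMul_vecMul, show u.1 * (u⁻¹).1 = 1 from congrArg Subtype.val (mul_inv_cancel u),
        vecMul_one]
    rw [hfix] at h2
    replace h2 := h2.add h1.neg
    convert h2 using 2
    rw [mulVec_smul, mulVec_add, mulVec_smul, hu1, add_mulVec, add_mulVec, one_mulVec, one_mulVec]
    have n0 : upperN (m + 3) F *ᵥ e 0 = 0 := by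
      ext i
      rw [upperN_mulVec]
      split_ifs with h
      · have hne : (⟨i + 1, h⟩ : Fin (m + 3)) ≠ 0 := fun e0 => by simpa using congrArg Fin.val e0
        rw [he]; exact Pi.single_eq_of_ne hne 1
      · rfl
    have n1 : upperN (m + 3) F *ᵥ e ⟨(0 : Fin (m+3)).val + 1, by simp⟩ = e 0 := by
      ext i
      rw [upperN_mulVec]
      split_ifs with h
      · rw [he]
        by_cases hi : i = 0
        · subst hi; simp
        · have h1 : (⟨i + 1, h⟩ : Fin (m + 3)) ≠ ⟨(0 : Fin (m + 3)).val + 1, by simp⟩ := fun e0 =>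
            hi (Fin.ext (by have := congrArg Fin.val e0; simp at this; simpa using this))
          change (Pi.single _ (1 : F) : Fin (m + 3) → F) _ = (Pi.single 0 (1 : F) : Fin (m + 3) → F) _
          rw [Pi.single_eq_of_ne h1, Pi.single_eq_of_ne hi]
      · have hi : i ≠ 0 := fun e0 => by subst e0; simp at h
        change (0 : F) = (Pi.single 0 (1 : F) : Fin (m + 3) → F) i
        rw [Pi.single_eq_of_ne hi]
    rw [n0, n1]
    module
  have hall0 : ∀ s : F, InG G (s • e 0) (e L) := by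
    let γ := β * b 0
    let T : AddSubgroup F :=
      { carrier := {t | InG G ((t / γ) • e 0) (e L)}
        zero_mem' := by simp only [Set.mem_setOf_eq, zero_div, zero_smul]; exact InG.zero _
        add_mem' := fun {s t} hs ht => by
          simp only [Set.mem_setOf_eq, add_div, add_smul] at hs ht ⊢; exact hs.add ht
        neg_mem' := fun {s} hs => by
          simp only [Set.mem_setOf_eq, neg_div, neg_smul] at hs ⊢; exact hs.neg }
    have hγ : γ ≠ 0 := mul_ne_zero hβ0 (hb 0)
    let N : Subring F :=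
      { carrier := {t | ∀ s ∈ T, t * s ∈ T}
        one_mem' := fun s hs => by rwa [one_mul]
        mul_mem' := fun {p q} hp hq s hs => by rw [mul_assoc]; exact hp _ (hq _ hs)
        zero_mem' := fun s _ => by rw [zero_mul]; exact T.zero_mem
        add_mem' := fun {p q} hp hq s hs => by rw [add_mul]; exact T.add_mem (hp _ hs) (hq _ hs)
        neg_mem' := fun {p} hp s hs => by rw [neg_mul]; exact T.neg_mem (hp _ hs) }
    have hN : γ * x ∈ N := by
      intro s hs
      change InG G ((γ * x * s / γ) • e 0) (e L)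
      have := fix0 _ hs x hx0
      convert this using 2
      congr 1
      field_simp
      ring
    have hNtop : N = ⊤ := hx N hN
    intro s
    have hxT : γ * x ∈ T := by
      change InG G ((γ * x / γ) • e 0) (e L)
      rwa [mul_div_cancel_left₀ _ hγ]
    have hmem : (s / x) * (γ * x) ∈ T := (hNtop ▸ Subring.mem_top (s / x) : s / x ∈ N) _ hxT
    have e1 : (s / x) * (γ * x) / γ = s := by field_simp
    have := hmem
    change InG G (((s / x) * (γ * x) / γ) • e 0) (e L) at this
    rwa [e1] at this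
  -- all roots in the last column
  have hallk : ∀ (k : ℕ) (h : k < m + 2) (s : F), InG G (s • e ⟨k, by omega⟩) (e L) := by
    intro k
    induction k with
    | zero => intro _ s; exact hall0 s
    | succ k ih =>
      intro h s
      have hbk := hb ⟨k, by omega⟩
      have h1 := (down ⟨k, by omega⟩ (by simpa using h) (s / (β * b ⟨k, by omega⟩)) 1 (ih (by omega) _)
        (hall0 1)).add (ih (by omega) (-(s / b ⟨k, by omega⟩)))
      convert h1 using 2
      rw [smul_add, smul_smul, neg_smul]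
      have : β * 1 * (s / (β * b ⟨k, by omega⟩)) = s / b ⟨k, by omega⟩ := by field_simp
      rw [this, div_mul_cancel₀ _ hbk]
      abel
  have hfullL : FullAt G (e L) := by
    intro a ha
    rw [hLdot] at ha
    have hsum : a = ∑ k, a k • e k := by ext i; simp [he, Finset.sum_apply, Pi.single_apply]
    rw [hsum]
    refine Finset.sum_induction _ (fun z => InG G z (e L)) (fun p q hp hq => hp.add hq) (InG.zero _) ?_
    intro k _
    by_cases hk : (k : ℕ) < m + 2
    · exact hallk k hk (a k)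
    · have : k = L := Fin.ext (by simp [hL]; omega)
      rw [this, ha, zero_smul]; exact InG.zero _
  -- all functionals
  refine eq_top_of_fullAt fun j => ?_
  suffices ∀ d : ℕ, ∀ j : Fin (m + 3), (j : ℕ) + d = m + 2 → FullAt G (e j) from
    this (m + 2 - j) j (by omega)
  intro d
  induction d with
  | zero => intro j hj; rwa [show j = L from Fin.ext (by simp [hL]; omega)]
  | succ d ih =>
    intro j hj
    have hnext := ih ⟨j + 1, by omega⟩ (by simp; omega)
    have h1 := ((hnext.conj hv).add (hnext.smul (-1))).smul (b j)⁻¹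
    convert h1 using 1
    ext k
    have hvk : v.1 ⟨j + 1, by omega⟩ k = (v.1 *ᵥ e k) ⟨j + 1, by omega⟩ := by simp [he]
    simp only [he, Pi.smul_apply, Pi.add_apply, single_one_vecMul, row_apply, smul_eq_mul]
    rw [hvk]
    simp only [he]
    rw [hv1 k]
    by_cases hk : k = j
    · subst hk
      rw [dif_pos (by omega)]
      simp [Pi.single_apply, Fin.ext_iff, inv_mul_cancel₀ (hb k)]
    · have hk' : (k : ℕ) ≠ j := fun e => hk (Fin.ext e)
      by_cases h : (k : ℕ) + 1 < m + 3
      · rw [dif_pos h]; simp [Pi.single_apply, Fin.ext_iff, hk', Ne.symm hk']; right; split_ifs <;> first | omega | simp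
      · rw [dif_neg h]; simp [Pi.single_apply, Fin.ext_iff, hk', Ne.symm hk']; right; split_ifs <;> first | omega | simp

end chain

end Cfsg.Agent.RegUnipotentGen
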