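/-
`SL₃(F)` is generated by two conjugate regular unipotent elements: fields with at most four elements.
-/
import Mathlib
import Cfsg.Agent.Lib.Classical.SL

namespace Cfsg.Agent.SL3Small

open Matrix

variable {F : Type*} [Field F]

/-- upper element -/
def uM (R : Type*) [Zero R] [One R] : Matrix (Fin 3) (Fin 3) R := !![1, 1, 0; 0, 1, 1; 0, 0, 1]

/-- lower element -/
def vM {R : Type*} [Zero R] [One R] (r : R) : Matrix (Fin 3) (Fin 3) R := !![1, 0, 0; 1, 1, 0; r, 1, 1]

/-- the conjugating element -/
def wM {R : Type*} [Zero R] [One R] [Neg R] (r : R) : Matrix (Fin 3) (Fin 3) R := !![0, 0, -1; 0, -1, 0; -1, -r, 0]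

def uS (F : Type*) [Field F] : SpecialLinearGroup (Fin 3) F := ⟨uM F, by simp [uM, det_fin_three]⟩
def vS (r : F) : SpecialLinearGroup (Fin 3) F := ⟨vM r, by simp [vM, det_fin_three]⟩
def wS (r : F) : SpecialLinearGroup (Fin 3) F := ⟨wM r, by simp [wM, det_fin_three]⟩

theorem uS_spec : IsNilpotent ((uS F).1 - 1) ∧ ((uS F).1 - 1) ^ (3 - 1) ≠ 0 := by
  refine ⟨⟨3, ?_⟩, fun h => ?_⟩
  · ext i j
    fin_cases i <;> fin_cases j <;> simp [uS, uM, pow_succ, Matrix.mul_apply, Fin.sum_univ_three]
  · have := congrFun (congrFun h 0) 2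
    simp [uS, uM, pow_two, Matrix.mul_apply, Fin.sum_univ_three] at this

theorem conj_eq (r : F) : wS r * uS F * (wS r)⁻¹ = vS r := by
  rw [mul_inv_eq_iff_eq_mul]
  apply Subtype.ext
  change wM r * uM F = vM r * wM r
  ext i j
  fin_cases i <;> fin_cases j <;> simp [wM, uM, vM, Matrix.mul_apply, Fin.sum_univ_three]

/-- the value of a word -/
def wordVal (r : F) (l : List Bool) : SpecialLinearGroup (Fin 3) F :=
  (l.map fun b => cond b (vS r) (uS F)).prod

theorem wordVal_mem (r : F) (l : List Bool) :
    wordVal r l ∈ Subgroup.closure ({uS F, vS r} : Set (SpecialLinearGroup (Fin 3) F)) :=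
  Subgroup.list_prod_mem _ fun x hx => by
    obtain ⟨b, -, rfl⟩ := List.mem_map.1 hx
    exact Subgroup.subset_closure (by cases b <;> simp)

theorem top_of (r : F) (S : Set F) (hS : AddSubgroup.closure S = ⊤)
    (h : ∀ i j : Fin 3, ∀ _ : i ≠ j, ∀ c ∈ S, ∃ l, (wordVal r l).1 = transvection i j c) :
    Subgroup.closure ({uS F, vS r} : Set (SpecialLinearGroup (Fin 3) F)) = ⊤ := by
  set G := Subgroup.closure ({uS F, vS r} : Set (SpecialLinearGroup (Fin 3) F))
  rw [eq_top_iff, ← Cfsg.Agent.ClassicalSL.closure_elemTransvections, Subgroup.closure_le]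
  rintro g ⟨i, j, hij, c, rfl⟩
  have h0 : SpecialLinearGroup.transvection hij (0 : F) = 1 :=
    Subtype.ext (by rw [SpecialLinearGroup.transvection_coe]; simp)
  have hadd : ∀ x y : F, SpecialLinearGroup.transvection hij (x + y) =
      SpecialLinearGroup.transvection hij x * SpecialLinearGroup.transvection hij y := fun x y =>
    Subtype.ext (by
      simp [SpecialLinearGroup.transvection_coe, mul_add, add_mul, single_mul_single_of_ne _ _ _ _ hij.symm,
        Matrix.single_add, add_assoc, add_comm]
      try abel)
  have hc : c ∈ AddSubgroup.closure S := hS ▸ AddSubgroup.mem_top c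
  induction hc using AddSubgroup.closure_induction with
  | mem x hx =>
    obtain ⟨l, hl⟩ := h i j hij x hx
    have : SpecialLinearGroup.transvection hij x = wordVal r l := Subtype.ext (by
      rw [hl, SpecialLinearGroup.transvection_coe]; rfl)
    rw [this]; exact wordVal_mem r l
  | zero => rw [h0]; exact one_mem _
  | add x y _ _ hx hy => rw [hadd]; exact mul_mem hx hy
  | neg x _ hx =>
    have : SpecialLinearGroup.transvection hij (-x) = (SpecialLinearGroup.transvection hij x)⁻¹ :=
      eq_inv_of_mul_eq_one_left (by rw [← hadd, neg_add_cancel, h0])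
    rw [this]; exact inv_mem hx

theorem wordVal_val (r : F) (l : List Bool) :
    (wordVal r l).1 = (l.map fun b => cond b (vM r) (uM F)).prod := by
  induction l with
  | nil => rfl
  | cons b l ih =>
    rw [List.map_cons, List.prod_cons, ← ih]
    cases b <;> rfl

/-- Certificates over the prime field: the root `(i,j)` with a word. -/
def table2 : List (Fin 3 × Fin 3 × ℕ × List Bool) := [
    (0, 1, 1, [true, false, true, false, false, true]),
    (0, 2, 1, [false, false]),
    (1, 0, 1, [false, true, true, false, true, false]),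
    (1, 2, 1, [true, false, false, true, false, true]),
    (2, 0, 1, [true, true]),
    (2, 1, 1, [false, true, false, true, true, false])]

/-- Certificates over the prime field: the root `(i,j)` with a word. -/
def table3 : List (Fin 3 × Fin 3 × ℕ × List Bool) := [
    (0, 1, 1, [false, true, false, true, false, true, false, false, true, true, false, false, true, true, false, true]),
    (0, 2, 1, [true, false, false, true, false, true, false, true, false, true, true, false, false, true, false, true, true, false, true]),
    (1, 0, 1, [false, true, false, false, true, true, false, false, true, true, false, true, false, true, false, true]),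
    (1, 2, 1, [true, false, true, true, false, false, true, true, false, false, true, false, true, false, true, false]),
    (2, 0, 1, [false, true, false, false, true, false, true, true, false, false, true, false, true, false, true, false, true, true, false]),
    (2, 1, 1, [true, false, true, false, true, false, true, true, false, false, true, true, false, false, true, false])]

theorem prime_case [Fintype F] (p : ℕ) [Fact p.Prime] (hp : Fintype.card F = p)
    (T : List (Fin 3 × Fin 3 × ℕ × List Bool))
    (hcov : ∀ i j : Fin 3, i ≠ j → ∃ e ∈ T, e.1 = i ∧ e.2.1 = j ∧ e.2.2.1 = 1)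
    (hT : ∀ e ∈ T, ((e.2.2.2.map fun b => cond b (vM (0 : ZMod p)) (uM (ZMod p))).prod) =
      transvection e.1 e.2.1 (e.2.2.1 : ZMod p)) :
    Subgroup.closure ({uS F, vS (0 : F)} : Set (SpecialLinearGroup (Fin 3) F)) = ⊤ := by
  have : CharP F p := charP_of_card_eq_prime hp
  refine top_of 0 {1} ?_ fun i j hij c hc => ?_
  · rw [eq_top_iff]
    intro x _
    obtain ⟨z, rfl⟩ := (ZMod.castHom_bijective F hp).2 x
    rw [← ZMod.natCast_zmod_val z, map_natCast, ← nsmul_one]
    exact nsmul_mem (AddSubgroup.subset_closure (Set.mem_singleton 1)) _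
  · obtain ⟨e, he, rfl, rfl, he1⟩ := hcov i j hij
    obtain rfl := hc
    have := congrArg ((ZMod.castHom dvd_rfl F).mapMatrix) (hT e he)
    refine ⟨e.2.2.2, ?_⟩
    rw [wordVal_val]
    rw [map_list_prod, List.map_map, he1, Nat.cast_one] at this
    convert this using 1
    · congr 1
      refine List.map_congr_left fun b _ => ?_
      cases b <;> (ext k l; fin_cases k <;> fin_cases l <;> simp [uM, vM])
    · ext k l
      simp [transvection, Matrix.one_apply, Matrix.single_apply]
      split_ifs <;> simp

/-- sums in the field with four elements -/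
def add4 : Fin 4 → Fin 4 → Fin 4 := ![![0, 1, 2, 3], ![1, 0, 3, 2], ![2, 3, 0, 1], ![3, 2, 1, 0]]

/-- products in the field with four elements -/
def mul4 : Fin 4 → Fin 4 → Fin 4 := ![![0, 0, 0, 0], ![0, 1, 2, 3], ![0, 2, 3, 1], ![0, 3, 1, 2]]

abbrev M4 := Fin 3 → Fin 3 → Fin 4

def mm4 (A B : M4) : M4 := fun i j =>
  add4 (add4 (mul4 (A i 0) (B 0 j)) (mul4 (A i 1) (B 1 j))) (mul4 (A i 2) (B 2 j))

def val4 : List Bool → M4
  | [] => ![![1, 0, 0], ![0, 1, 0], ![0, 0, 1]]
  | false :: l => mm4 ![![1, 1, 0], ![0, 1, 1], ![0, 0, 1]] (val4 l)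
  | true :: l => mm4 ![![1, 0, 0], ![1, 1, 0], ![2, 1, 1]] (val4 l)

/-- Certificates over the field with four elements. -/
def table4 : List (Fin 3 × Fin 3 × Fin 4 × List Bool) := [
    (0, 1, 1, [false, true, true, false, true, false, true, false, true, true, false, true, true, true, false, true]),
    (0, 1, 2, [true, false, true, false, true, true, true, false, true, true, false, true, false, false, true]),
    (0, 2, 1, [false, false]),
    (0, 2, 2, [false, false, false, true, true, false, false, true, false, false, true, true]),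
    (1, 0, 1, [false, true, true, false, false, false, true, true, false, true, true, false, false, false]),
    (1, 0, 2, [false, false, true, true, false, false, true, false, true, false, true, true, false, true, false, false, true, true, false]),
    (1, 2, 1, [true, false, true, true, true, false, true, true, false, true, false, true, false, true, true, false]),
    (1, 2, 2, [true, false, false, true, false, true, true, false, true, true, true, false, true, false, true]),
    (2, 0, 1, [true, true]),
    (2, 0, 2, [false, false, true, true, false, false, false, true, true, false, false, true]),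
    (2, 1, 1, [false, false, false, true, true, false, true, true, false, false, false, true, true, false]),
    (2, 1, 2, [false, true, true, false, false, false, true, true, false, false, true, false, true, false, true, true, false, true, false])]

theorem table2_cov : ∀ i j : Fin 3, i ≠ j → ∃ e ∈ table2, e.1 = i ∧ e.2.1 = j ∧ e.2.2.1 = 1 := by
  decide +kernel

theorem table3_cov : ∀ i j : Fin 3, i ≠ j → ∃ e ∈ table3, e.1 = i ∧ e.2.1 = j ∧ e.2.2.1 = 1 := by
  decide +kernel

theorem table2_ok : ∀ e ∈ table2, ((e.2.2.2.map fun b => cond b (vM (0 : ZMod 2)) (uM (ZMod 2))).prod) =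
    transvection e.1 e.2.1 (e.2.2.1 : ZMod 2) := by
  decide +kernel

theorem table3_ok : ∀ e ∈ table3, ((e.2.2.2.map fun b => cond b (vM (0 : ZMod 3)) (uM (ZMod 3))).prod) =
    transvection e.1 e.2.1 (e.2.2.1 : ZMod 3) := by
  decide +kernel

theorem table4_cov : ∀ i j : Fin 3, i ≠ j → ∀ c : Fin 4, c = 1 ∨ c = 2 →
    ∃ e ∈ table4, e.1 = i ∧ e.2.1 = j ∧ e.2.2.1 = c := by
  decide +kernel

theorem table4_ok : ∀ e ∈ table4, ∀ k l : Fin 3, val4 e.2.2.2 k l =
    if k = l then 1 else if k = e.1 ∧ l = e.2.1 then e.2.2.1 else 0 := by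
  decide +kernel

theorem four_case [Fintype F] (h4 : Fintype.card F = 4) :
    ∃ r : F, Subgroup.closure ({uS F, vS r} : Set (SpecialLinearGroup (Fin 3) F)) = ⊤ := by
  classical
  have : CharP F 2 := by
    obtain ⟨p, hp⟩ := CharP.exists F
    obtain ⟨n, hpr, hn⟩ := FiniteField.card F p
    have h2 : p ∣ 2 := hpr.dvd_of_dvd_pow (n := 2) (show p ∣ 2 ^ 2 by
      rw [show (2 : ℕ) ^ 2 = p ^ (n : ℕ) by rw [← hn, h4]; norm_num]; exact dvd_pow_self p n.ne_zero)
    rwa [(Nat.prime_dvd_prime_iff_eq hpr Nat.prime_two).1 h2] at hp
  obtain ⟨w, hw0, hw1⟩ : ∃ w : F, w ≠ 0 ∧ w ≠ 1 := by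
    by_contra h
    push Not at h
    have : (Finset.univ : Finset F) ⊆ {0, 1} := fun x _ => by
      by_cases hx : x = 0
      · simp [hx]
      · simp [h x hx]
    have := (Finset.card_le_card this).trans Finset.card_le_two
    rw [Finset.card_univ] at this; omega
  have h3 : w ^ 3 = 1 := by
    have := FiniteField.pow_card_sub_one_eq_one w hw0
    rwa [h4] at this
  have hw2 : w * w = w + 1 := by
    have h : (w - 1) * (w * w + w + 1) = 0 := by linear_combination h3
    have := (mul_eq_zero.1 h).resolve_left (sub_ne_zero.2 hw1)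
    linear_combination this - (w + 1) * (CharTwo.two_eq_zero (R := F))
  have hw1' : w + 1 ≠ 0 := by rwa [Ne, add_eq_zero_iff_eq_neg, CharTwo.neg_eq]
  set φ : Fin 4 → F := ![0, 1, w, w + 1] with hφ
  have hadd : ∀ a b, φ (add4 a b) = φ a + φ b := by
    intro a b
    fin_cases a <;> fin_cases b <;> simp [φ, add4] <;>
      linear_combination (norm := ring_nf) 0 <;> simp [CharTwo.two_eq_zero]
  have hmul : ∀ a b, φ (mul4 a b) = φ a * φ b := by
    intro a b
    fin_cases a <;> fin_cases b <;> simp [φ, mul4] <;>
      first | linear_combination - hw2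
            | linear_combination hw2 - (w + 1) * (CharTwo.two_eq_zero (R := F))
            | linear_combination -hw2 - w * (CharTwo.two_eq_zero (R := F))
            | linear_combination -hw2 + w * (CharTwo.two_eq_zero (R := F))
            | linear_combination -hw2 - (w + 1) * (CharTwo.two_eq_zero (R := F))
            | linear_combination -hw2 + (w + 1) * (CharTwo.two_eq_zero (R := F))
            | linear_combination hw2
  have hval : ∀ l, (wordVal w l).1 = Matrix.of fun k m => φ (val4 l k m) := by
    intro l
    induction l with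
    | nil =>
      ext k m
      fin_cases k <;> fin_cases m <;> simp [wordVal, val4, φ]
    | cons b l ih =>
      rw [wordVal_val, List.map_cons, List.prod_cons, ← wordVal_val, ih]
      cases b <;>
      · ext k m
        simp only [val4, mm4, hadd, hmul, Matrix.mul_apply, Fin.sum_univ_three, cond_true, cond_false]
        fin_cases k <;> simp [uM, vM, φ]
  refine ⟨w, top_of w {1, w} ?_ fun i j hij c hc => ?_⟩
  · rw [eq_top_iff]
    intro x _
    have hinj : Function.Injective φ := by
      intro a b
      fin_cases a <;> fin_cases b <;> simp [φ, hw0, hw1, hw0.symm, hw1.symm, hw1', hw1'.symm, eq_comm]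
    obtain ⟨k, rfl⟩ := ((Fintype.bijective_iff_injective_and_card φ).2 ⟨hinj, by simp [h4]⟩).2 x
    have h1 : (1 : F) ∈ AddSubgroup.closure ({1, w} : Set F) := AddSubgroup.subset_closure (by simp)
    have h2 : w ∈ AddSubgroup.closure ({1, w} : Set F) := AddSubgroup.subset_closure (by simp)
    fin_cases k
    · exact zero_mem _
    · exact h1
    · exact h2
    · exact add_mem h2 h1
  · obtain ⟨k, hk, rfl⟩ : ∃ k : Fin 4, (k = 1 ∨ k = 2) ∧ φ k = c := by
      rcases hc with rfl | rfl
      · exact ⟨1, Or.inl rfl, rfl⟩
      · exact ⟨2, Or.inr rfl, rfl⟩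
    obtain ⟨e, he, rfl, rfl, rfl⟩ := table4_cov i j hij k hk
    refine ⟨e.2.2.2, ?_⟩
    rw [hval]
    ext a b
    rw [Matrix.of_apply, table4_ok e he]
    by_cases hab : a = b
    · subst hab
      have : ¬(e.1 = a ∧ e.2.1 = a) := fun h => hij (h.1.trans h.2.symm)
      simp [transvection, Matrix.one_apply, Matrix.single_apply, this, φ]
    · by_cases h : a = e.1 ∧ b = e.2.1
      · simp [transvection, Matrix.one_apply, Matrix.single_apply, h.1, h.2, hij]
      · have : ¬(e.1 = a ∧ e.2.1 = b) := fun h' => h ⟨h'.1.symm, h'.2.symm⟩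
        simp [transvection, Matrix.one_apply, Matrix.single_apply, hab, h, this, φ]

theorem main [Fintype F] (hq : Fintype.card F ≤ 4) :
    ∃ u g : SpecialLinearGroup (Fin 3) F, IsNilpotent (u.1 - 1) ∧ (u.1 - 1) ^ (3 - 1) ≠ 0 ∧
      Subgroup.closure ({u, g * u * g⁻¹} : Set (SpecialLinearGroup (Fin 3) F)) = ⊤ := by
  classical
  have h1 := Fintype.one_lt_card (α := F)
  obtain ⟨r, hr⟩ : ∃ r : F, Subgroup.closure ({uS F, vS r} : Set (SpecialLinearGroup (Fin 3) F)) = ⊤ := by
    rcases (show Fintype.card F = 2 ∨ Fintype.card F = 3 ∨ Fintype.card F = 4 by omega) with h | h | h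
    · exact ⟨0, prime_case 2 h table2 table2_cov table2_ok⟩
    · exact ⟨0, prime_case 3 h table3 table3_cov table3_ok⟩
    · exact four_case h
  exact ⟨uS F, wS r, uS_spec.1, uS_spec.2, by rw [conj_eq]; exact hr⟩

end Cfsg.Agent.SL3Small
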