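/-
`SL₃(F)` is generated by two conjugate regular unipotent elements: finite fields with more than four elements.
-/
import Mathlib
import Cfsg.Agent.Lib.Generation.RegularUnipotent

namespace Cfsg.Agent.SL3Two

open Matrix Cfsg.Agent.RegUnipotentGen

variable {F : Type*} [Field F]

theorem ing_smul {G : Subgroup (SpecialLinearGroup (Fin 3) F)} {a φ : Fin 3 → F} {t : F}
    (ht : t ≠ 0) (h : InG G a (t • φ)) : InG G (t • a) φ := by
  obtain ⟨h0, hm⟩ := h
  rw [smul_dotProduct, smul_eq_zero] at h0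
  refine ⟨by rw [dotProduct_smul, h0.resolve_left ht, smul_zero], ?_⟩
  convert hm using 1
  exact sl_ext (by simp [tv_val, vecMulVec_smul, smul_vecMulVec])

theorem subring_closure_eq_top [Fintype F] (hq : 4 < Fintype.card F) {r : F} (hr : r ≠ 0)
    (hord : Fintype.card F - 1 ≤ 3 * orderOf r) : Subring.closure {r} = ⊤ := by
  classical
  set S := Subring.closure ({r} : Set F) with hS
  by_contra hne
  obtain ⟨x, hx⟩ : ∃ x, x ∉ S := by
    by_contra h
    push Not at h
    exact hne (eq_top_iff.2 fun x _ => h x)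
  have hinv : ∀ s ∈ S, s ≠ 0 → s⁻¹ ∈ S := fun s hs h0 => by
    have : s⁻¹ = s ^ (Fintype.card F - 2) := by
      apply inv_eq_of_mul_eq_one_right
      rw [← pow_succ', show Fintype.card F - 2 + 1 = Fintype.card F - 1 by omega,
        FiniteField.pow_card_sub_one_eq_one s h0]
    rw [this]; exact S.pow_mem hs _
  let Sf : Finset F := Finset.univ.filter (· ∈ S)
  have hsq : Sf.card * Sf.card ≤ Fintype.card F := by
    rw [← Finset.card_product, ← Finset.card_univ]
    refine Finset.card_le_card_of_injOn (fun st => st.1 + st.2 * x) (fun _ _ => Finset.mem_univ _) ?_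
    intro p hp p' hp' e
    simp only [Sf, Finset.coe_product, Set.mem_prod, Finset.coe_filter, Finset.mem_univ, true_and,
      Set.mem_setOf_eq] at hp hp'
    change p.1 + p.2 * x = p'.1 + p'.2 * x at e
    by_cases h2 : p.2 = p'.2
    · exact Prod.ext (by rw [h2] at e; exact add_right_cancel e) h2
    · exfalso; apply hx
      have h3 : p.2 - p'.2 ≠ 0 := sub_ne_zero.2 h2
      have : x = (p'.1 - p.1) * (p.2 - p'.2)⁻¹ := by
        field_simp
        linear_combination e
      rw [this]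
      exact S.mul_mem (S.sub_mem hp'.1 hp.1) (hinv _ (S.sub_mem hp.2 hp'.2) h3)
  have hle : orderOf r ≤ Sf.card - 1 := by
    have h0 : (0 : F) ∈ Sf := by simp [Sf]
    rw [← Finset.card_erase_of_mem h0]
    refine le_trans (le_of_eq (Finset.card_range _).symm)
      (Finset.card_le_card_of_injOn (fun i => r ^ i) (fun i _ => ?_) ?_)
    · simp [Sf, hr, S.pow_mem (Subring.subset_closure (Set.mem_singleton r))]
    · intro i hi k hk e
      exact pow_injOn_Iio_orderOf (Finset.mem_range.1 hi) (Finset.mem_range.1 hk) e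
  have h2 : 2 ≤ Sf.card :=
    Finset.one_lt_card.2 ⟨0, by simp [Sf], 1, by simp [Sf], zero_ne_one⟩
  rcases Nat.lt_or_ge Sf.card 3 with h3 | h3
  · have : Sf.card = 2 := by omega
    omega
  · have : 3 * Sf.card ≤ Sf.card * Sf.card := Nat.mul_le_mul_right _ h3
    omega

section params

variable (L a : F)

/-- the parameters -/
def B : F := 3 / (L ^ 2 + L + 1)
def C : F := 3 - a - B L
def Y : F := a * B L + B L * C L a + C L a * a - 3
def Z : F := 1 - a * (B L * C L a - Y L a)
def K : F := a * C L a * (L - (L⁻¹) ^ 2) - 3 * L + 3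

def uMat : Matrix (Fin 3) (Fin 3) F := !![a, 0, Z L a; 1, B L, Y L a; 0, 1, C L a]

def uInv : Matrix (Fin 3) (Fin 3) F :=
  !![B L * C L a - Y L a, Z L a, -(Z L a * B L);
     -C L a, a * C L a, Z L a - a * Y L a;
     1, -a, a * B L]

def gMat : Matrix (Fin 3) (Fin 3) F := !![L, 0, K L a; 0, (L⁻¹) ^ 2, 0; 0, 0, L]

def vMat : Matrix (Fin 3) (Fin 3) F :=
  !![L * (B L * C L a - Y L a), (L⁻¹) ^ 2 * Z L a, K L a * (B L * C L a - Y L a) - L * (Z L a * B L);
     -(L * C L a), (L⁻¹) ^ 2 * (a * C L a), -(K L a * C L a) + L * (Z L a - a * Y L a);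
     L, -((L⁻¹) ^ 2 * a), K L a + L * (a * B L)]

def uFrame : Matrix (Fin 3) (Fin 3) F :=
  !![-((a - 1) ^ 2), -(a - 1), -1; -(a + B L - 2), -1, 0; -1, 0, 0]

def vCol : Fin 3 → F := ![B L * C L a - Y L a - L⁻¹, -C L a, 1]

def vFrame : Matrix (Fin 3) (Fin 3) F :=
  !![((vMat L a - 1) *ᵥ vCol L a) 0, vCol L a 0, L⁻¹;
     ((vMat L a - 1) *ᵥ vCol L a) 1, vCol L a 1, 0;
     ((vMat L a - 1) *ᵥ vCol L a) 2, vCol L a 2, 0]

def jMat : Matrix (Fin 3) (Fin 3) F := !![1, 1, 0; 0, 1, 1; 0, 0, 1]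

theorem u_mul_uInv : uMat L a * uInv L a = 1 := by
  ext i j
  fin_cases i <;> fin_cases j <;>
    simp [uMat, uInv, Matrix.mul_apply, Fin.sum_univ_three, Z, Y, C] <;> ring

theorem det_uMat : (uMat L a).det = 1 := by
  simp [uMat, det_fin_three, Z]; ring

theorem u_frame : uMat L a * uFrame L a = uFrame L a * jMat := by
  ext i j
  fin_cases i <;> fin_cases j <;>
    simp [uMat, uFrame, jMat, Matrix.mul_apply, Fin.sum_univ_three, Z, Y, C] <;> ring

theorem det_uFrame : (uFrame L a).det = 1 := by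
  simp [uFrame, det_fin_three]

theorem v_eq (hL : L ≠ 0) : uMat L a * vMat L a = gMat L a := by
  ext i j
  fin_cases i <;> fin_cases j <;>
    simp [uMat, vMat, gMat, Matrix.mul_apply, Fin.sum_univ_three, Z, Y, C] <;> field_simp <;> ring

variable {L a}

theorem det_vMat (hL : L ≠ 0) : (vMat L a).det = 1 := by
  have h := congrArg Matrix.det (v_eq L a hL)
  rw [det_mul, det_uMat, one_mul] at h
  rw [h]
  simp [gMat, det_fin_three]
  field_simp

theorem v_frame (hL : L ≠ 0) (hD : L ^ 2 + L + 1 ≠ 0) : vMat L a * vFrame L a = vFrame L a * jMat := by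
  have hb : B L * (L ^ 2 + L + 1) = 3 := div_mul_cancel₀ _ hD
  ext i j
  fin_cases i <;> fin_cases j <;>
    simp [vMat, vFrame, vCol, jMat, Matrix.mul_apply, Matrix.mulVec, dotProduct, Fin.sum_univ_three,
      Matrix.one_apply, K, Z, Y, C]
  all_goals generalize B L = b at hb ⊢
  all_goals field_simp
  all_goals grind

theorem det_vFrame (hL : L ≠ 0) (hD : L ^ 2 + L + 1 ≠ 0) : (vFrame L a).det = 1 := by
  simp [vMat, vFrame, vCol, det_fin_three, Matrix.mulVec, dotProduct, Fin.sum_univ_three,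
      Matrix.one_apply, K, Z, Y, C, B]
  field_simp
  ring

theorem gMat_pow (hL : L ≠ 0) (n : ℕ) : gMat L a ^ n =
    !![L ^ n, 0, (n : F) * K L a * L ^ n / L; 0, ((L⁻¹) ^ 2) ^ n, 0; 0, 0, L ^ n] := by
  induction n with
  | zero => ext i j; fin_cases i <;> fin_cases j <;> simp
  | succ n ih =>
    rw [pow_succ, ih]
    ext i j
    fin_cases i <;> fin_cases j <;>
      simp [gMat, Matrix.mul_apply, Fin.sum_univ_three, pow_succ] <;> field_simp <;> ring

end params

theorem main [Fintype F] (hq : 4 < Fintype.card F) :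
    ∃ u g : SpecialLinearGroup (Fin 3) F, IsNilpotent (u.1 - 1) ∧ (u.1 - 1) ^ (3 - 1) ≠ 0 ∧
      Subgroup.closure ({u, g * u * g⁻¹} : Set (SpecialLinearGroup (Fin 3) F)) = ⊤ := by
  classical
  obtain ⟨l, hl⟩ := IsCyclic.exists_generator (α := Fˣ)
  set L : F := (l : F) with hLdef
  have hL : L ≠ 0 := l.ne_zero
  have hordL : orderOf L = Fintype.card F - 1 := by
    rw [hLdef, orderOf_units, orderOf_eq_card_of_forall_mem_zpowers hl, Nat.card_eq_fintype_card, Fintype.card_units]
  have hpow : ∀ n, 0 < n → n < Fintype.card F - 1 → L ^ n ≠ 1 := fun n h0 h1 e => by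
    have := Nat.le_of_dvd h0 (orderOf_dvd_of_pow_eq_one e)
    omega
  have hL3 : L ^ 3 ≠ 1 := hpow 3 (by omega) (by omega)
  have hL1 : L ≠ 1 := fun e => hL3 (by rw [e, one_pow])
  have hLm : L ≠ -1 := fun e => hpow 2 (by omega) (by omega) (by rw [e]; ring)
  have hD : L ^ 2 + L + 1 ≠ 0 := fun e => hL3 (by linear_combination (L - 1) * e)
  obtain ⟨a, ha, hK⟩ : ∃ a : F, a ≠ 0 ∧ K L a ≠ 0 := by
    by_cases h3 : (3 : F) = 0
    · refine ⟨1, one_ne_zero, ?_⟩
      have : (L⁻¹) ^ 2 - L ≠ 0 := by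
        intro e
        apply hL3
        field_simp at e
        linear_combination -e
      simpa [K, C, B, h3] using this
    · refine ⟨3 - B L, ?_, ?_⟩
      · intro e
        have hb : B L * (L ^ 2 + L + 1) = 3 := div_mul_cancel₀ _ hD
        have h : (3 : F) * (L * (L + 1)) = 0 := by linear_combination hb + (L ^ 2 + L + 1) * e
        rcases mul_eq_zero.1 ((mul_eq_zero.1 h).resolve_left h3) with h' | h'
        · exact hL h'
        · exact hLm (eq_neg_of_add_eq_zero_left h')
      · have : C L (3 - B L) = 0 := by simp [C]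
        rw [K, this, mul_zero, zero_mul, zero_sub, neg_add_eq_sub, sub_ne_zero]
        intro e
        exact hL1 (mul_left_cancel₀ h3 (by linear_combination -e))
  set u : SpecialLinearGroup (Fin 3) F := ⟨uMat L a, det_uMat L a⟩ with hu
  set v : SpecialLinearGroup (Fin 3) F := ⟨vMat L a, det_vMat hL⟩ with hv
  set P : SpecialLinearGroup (Fin 3) F := ⟨uFrame L a, det_uFrame L a⟩ with hP
  set Q : SpecialLinearGroup (Fin 3) F := ⟨vFrame L a, det_vFrame hL hD⟩ with hQ
  set J : SpecialLinearGroup (Fin 3) F := ⟨jMat, by simp [jMat, det_fin_three]⟩ with hJ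
  have huJ : u = P * J * P⁻¹ := by rw [eq_mul_inv_iff_mul_eq]; exact Subtype.ext (u_frame L a)
  have hvJ : v = Q * J * Q⁻¹ := by rw [eq_mul_inv_iff_mul_eq]; exact Subtype.ext (v_frame hL hD)
  have hconj : Q * P⁻¹ * u * (Q * P⁻¹)⁻¹ = v := by rw [huJ, hvJ]; group
  have huP : u.1 - 1 = P.1 * (jMat - 1) * (P⁻¹).1 := by
    rw [huJ, mul_sub, sub_mul, mul_one, show P.1 * (P⁻¹).1 = 1 from congrArg Subtype.val (mul_inv_cancel P)]
    rfl
  have hP1 : (P⁻¹).1 * P.1 = 1 := congrArg Subtype.val (inv_mul_cancel P)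
  have hN3 : (jMat - 1 : Matrix (Fin 3) (Fin 3) F) ^ 3 = 0 := by
    ext i j
    fin_cases i <;> fin_cases j <;> simp [jMat, pow_succ, Matrix.mul_apply, Fin.sum_univ_three]
  have hpw : ∀ n, (u.1 - 1) ^ n = P.1 * (jMat - 1) ^ n * (P⁻¹).1 := fun n => by
    induction n with
    | zero => rw [pow_zero, pow_zero, mul_one]; exact (congrArg Subtype.val (mul_inv_cancel P)).symm
    | succ n ih =>
      rw [pow_succ, ih, huP, pow_succ]
      simp only [mul_assoc]
      rw [← mul_assoc (P⁻¹).1 P.1, hP1, one_mul]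
  refine ⟨u, Q * P⁻¹, ⟨3, by rw [hpw, hN3, mul_zero, zero_mul]⟩, fun h => ?_, ?_⟩
  · have := congrArg (fun M => (P⁻¹).1 * M * P.1) h
    rw [hpw] at this
    simp only [mul_zero, zero_mul, mul_assoc] at this
    rw [hP1, mul_one, ← mul_assoc, hP1, one_mul] at this
    have h02 := congrFun (congrFun this 0) 2
    simp [jMat, pow_two, Matrix.mul_apply, Fin.sum_univ_three] at h02
  rw [hconj]
  set G := Subgroup.closure ({u, v} : Set (SpecialLinearGroup (Fin 3) F)) with hG
  have huG : u ∈ G := Subgroup.subset_closure (by simp)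
  have hvG : v ∈ G := Subgroup.subset_closure (by simp)
  set g := u * v with hg
  have hgG : g ∈ G := mul_mem huG hvG
  have hgv : ∀ n, (g ^ n).1 = gMat L a ^ n := fun n => by
    induction n with
    | zero => rfl
    | succ n ih =>
      rw [pow_succ g, pow_succ (gMat L a), ← ih]
      exact congrArg ((g ^ n).1 * ·) (v_eq L a hL)
  set q := Fintype.card F with hqdef
  have hqF : (q : F) = 0 := FiniteField.cast_card_eq_zero F
  have hLq : L ^ q = L := FiniteField.pow_card L
  have hLq1 : L ^ (q - 1) = 1 := FiniteField.pow_card_sub_one_eq_one L hL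
  have hMq : ((L⁻¹) ^ 2) ^ q = (L⁻¹) ^ 2 := FiniteField.pow_card _
  have hMq1 : ((L⁻¹) ^ 2) ^ (q - 1) = 1 := FiniteField.pow_card_sub_one_eq_one _ (by simp [hL])
  set τ := -(K L a) / L with hτ
  have hτ0 : τ ≠ 0 := div_ne_zero (neg_ne_zero.2 hK) hL
  -- the transvection
  have hT : InG G ![τ, 0, 0] ![0, 0, 1] := by
    refine ⟨by simp [dotProduct, Fin.sum_univ_three], ?_⟩
    convert pow_mem hgG (q - 1) using 1
    apply sl_ext
    rw [tv_val, hgv, gMat_pow hL, hLq1, hMq1, Nat.cast_sub (by omega), hqF]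
    ext i j
    fin_cases i <;> fin_cases j <;> simp [vecMulVec_apply, hτ, Matrix.one_apply]
  -- the semisimple element
  have hh : (g ^ q).1 = !![L, 0, 0; 0, (L⁻¹) ^ 2, 0; 0, 0, L] := by
    rw [hgv, gMat_pow hL, hLq, hMq, hqF]; simp
  set r := (L⁻¹) ^ 3 with hr
  have hscale : ∀ s0 s1 : F, InG G ![s0, s1, 0] ![0, 0, 1] → InG G ![s0, r * s1, 0] ![0, 0, 1] := by
    intro s0 s1 hs
    have h1 := hs.conj (pow_mem hgG q)
    have he : (![0, 0, 1] : Fin 3 → F) ᵥ* (g ^ q).1 = L • ![0, 0, 1] := by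
      rw [hh]; funext j; fin_cases j <;> simp [vecMul, dotProduct, Fin.sum_univ_three]
    have he' : (![0, 0, 1] : Fin 3 → F) ᵥ* ((g ^ q)⁻¹).1 = L⁻¹ • ![0, 0, 1] := by
      have := congrArg (fun w => w ᵥ* ((g ^ q)⁻¹).1) he
      simp only [vecMul_vecMul, smul_vecMul] at this
      rw [show (g ^ q).1 * ((g ^ q)⁻¹).1 = 1 from congrArg Subtype.val (mul_inv_cancel (g ^ q)), vecMul_one] at this
      conv_rhs => rw [this, smul_smul, inv_mul_cancel₀ hL, one_smul]
    rw [he', hh] at h1
    convert ing_smul (inv_ne_zero hL) h1 using 1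
    funext j
    fin_cases j <;> simp [Matrix.mulVec, dotProduct, Fin.sum_univ_three, hr, hL] <;> field_simp
  have hu' : (u⁻¹).1 = uInv L a :=
    left_inv_eq_right_inv (congrArg Subtype.val (inv_mul_cancel u)) (u_mul_uInv L a)
  have h1 : InG G ![τ * a, τ, 0] ![1, -a, a * B L] := by
    have := hT.conj huG
    rw [hu'] at this
    convert this using 1 <;> funext j <;> fin_cases j <;>
      simp [hu, uMat, uInv, Matrix.mulVec, vecMul, dotProduct, Fin.sum_univ_three, mul_comm]
  have hA : InG G ![τ ^ 2 * a, τ ^ 2, 0] ![0, 0, 1] := by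
    have := h1.comm hT (by simp [dotProduct, Fin.sum_univ_three])
    convert this using 1
    funext j
    fin_cases j <;> simp [dotProduct, Fin.sum_univ_three] <;> ring
  -- the root group of `e₁`
  let S1 : AddSubgroup F :=
    { carrier := {s | InG G ![0, s, 0] ![0, 0, 1]}
      zero_mem' := by
        change InG G _ _
        convert InG.zero (G := G) (![0, 0, 1] : Fin 3 → F) using 1
        funext j; fin_cases j <;> rfl
      add_mem' := fun {s t} hs ht => by
        change InG G _ _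
        convert InG.add (G := G) hs ht using 1
        funext j; fin_cases j <;> simp
      neg_mem' := fun {s} hs => by
        change InG G _ _
        convert InG.neg (G := G) hs using 1
        funext j; fin_cases j <;> simp }
  have hr0 : r ≠ 0 := by simp [hr, hL]
  have hr1 : r ≠ 1 := fun e => hL3 (by rw [hr, inv_pow, inv_eq_one] at e; exact e)
  have hσ : (r - 1) * τ ^ 2 ∈ S1 := by
    change InG G _ _
    convert (hscale _ _ hA).add hA.neg using 1
    funext j; fin_cases j <;> simp <;> ring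
  let N : Subring F :=
    { carrier := {t | ∀ s ∈ S1, t * s ∈ S1}
      one_mem' := fun s hs => by rwa [one_mul]
      mul_mem' := fun {x y} hx hy s hs => by rw [mul_assoc]; exact hx _ (hy _ hs)
      zero_mem' := fun s _ => by rw [zero_mul]; exact S1.zero_mem
      add_mem' := fun {x y} hx hy s hs => by rw [add_mul]; exact S1.add_mem (hx _ hs) (hy _ hs)
      neg_mem' := fun {x} hx s hs => by rw [neg_mul]; exact S1.neg_mem (hx _ hs) }
  have hN : N = ⊤ := by
    rw [eq_top_iff, ← subring_closure_eq_top hq hr0 ?_, Subring.closure_le, Set.singleton_subset_iff]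
    · exact fun s hs => hscale 0 s hs
    · rw [show r = (((l ^ 3)⁻¹ : Fˣ) : F) by simp [hr, hLdef], orderOf_units, orderOf_inv, ← orderOf_units,
        Units.val_pow_eq_pow_val, ← hLdef, orderOf_pow' L (by omega), hordL]
      have h1 : Nat.gcd (q - 1) 3 ≤ 3 := Nat.le_of_dvd (by omega) (Nat.gcd_dvd_right _ _)
      have h2 := Nat.div_mul_cancel (Nat.gcd_dvd_left (q - 1) 3)
      calc q - 1 = (q - 1) / Nat.gcd (q - 1) 3 * Nat.gcd (q - 1) 3 := h2.symm
        _ ≤ (q - 1) / Nat.gcd (q - 1) 3 * 3 := Nat.mul_le_mul_left _ h1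
        _ = _ := mul_comm _ _
  have hS1 : ∀ s, InG G ![0, s, 0] ![0, 0, 1] := by
    intro s
    have h0 : (r - 1) * τ ^ 2 ≠ 0 := mul_ne_zero (sub_ne_zero.2 hr1) (pow_ne_zero _ hτ0)
    have := (hN ▸ Subring.mem_top (s / ((r - 1) * τ ^ 2)) : s / ((r - 1) * τ ^ 2) ∈ N) _ hσ
    rwa [div_mul_cancel₀ _ h0] at this
  have hS0 : ∀ s, InG G ![s, 0, 0] ![0, 0, 1] := by
    intro s
    have h2 := h1.comm (hS1 (-(s / (a * (τ * a))))) (by simp [dotProduct, Fin.sum_univ_three])
    have h3 := h2.add (hS1 (-(a * (s / (a * (τ * a))) * τ)))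
    convert h3 using 1
    funext j
    fin_cases j <;> simp [dotProduct, Fin.sum_univ_three] <;> field_simp
  have hfull : FullAt G ![0, 0, 1] := fun w hw => by
    have h2 : w 2 = 0 := by simpa [dotProduct, Fin.sum_univ_three] using hw
    convert (hS0 (w 0)).add (hS1 (w 1)) using 1
    funext j; fin_cases j <;> simp [h2]
  have hf1 : FullAt G ![0, 1, 0] := by
    convert (hfull.conj huG).add (hfull.smul (-C L a)) using 1
    funext j; fin_cases j <;> simp [hu, uMat, vecMul, dotProduct, Fin.sum_univ_three]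
  have hf0 : FullAt G ![1, 0, 0] := by
    convert ((hf1.conj huG).add (hf1.smul (-B L))).add (hfull.smul (-Y L a)) using 1
    funext j; fin_cases j <;> simp [hu, uMat, vecMul, dotProduct, Fin.sum_univ_three]
  refine eq_top_of_fullAt fun j => ?_
  fin_cases j
  · convert hf0 using 1; funext i; fin_cases i <;> simp
  · convert hf1 using 1; funext i; fin_cases i <;> simp
  · convert hfull using 1; funext i; fin_cases i <;> simp

end Cfsg.Agent.SL3Two
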