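/-
Coordinates for a unitary frame in dimension three, unipotent elements, and a criterion for a subgroup
to contain the special unitary group by transvection groups at three points.
-/
import Cfsg.Agent.Lib.Classical.UnitaryGen

set_option autoImplicit false

namespace Cfsg.Agent.SU3Regular

open scoped Matrix
open Matrix Cfsg.Agent.Transvec Cfsg.Agent.Transvec.Herm Cfsg.Agent.UnitaryGen

variable {F : Type*} [Field F]

local notation "V3" => (Fin 3 → F)

variable {σ : F ≃+* F} {f : (Fin 3 → F) → (Fin 3 → F) → F} (hf : Geo.IsUnitaryForm σ f)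
variable {e d v : Fin 3 → F} (hfr : Frame3 f e d v)

/-- A vector with given frame coordinates. -/
def vec (e d v : V3) (a b c : F) : V3 := a • e + b • v + c • d

include hf hfr in
theorem f_vec (a b c a' b' c' : F) :
    f (vec e d v a b c) (vec e d v a' b' c') = a * σ c' + b * σ b' + c * σ a' := by
  simp only [vec, hf.add_left, add_right hf, hf.smul_left, smul_right hf, hfr.ee, hfr.dd, hfr.vv,
    hfr.ed, hfr.de, hfr.ev, hfr.ve, hfr.dv, hfr.vd, mul_zero, mul_one, add_zero, zero_add]

include hf hfr in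
/-- Complete an isotropic pair to a frame. -/
theorem frame_ne : e ≠ 0 ∧ d ≠ 0 := by
  constructor <;> intro h <;> have := hfr.ed <;>
    simp [h, zero_left hf, zero_right hf] at this

include hf in
theorem exists_frame_of_pair [Finite F] {e d : V3} (hee : f e e = 0) (hdd : f d d = 0) (hed : f e d = 1) :
    ∃ v, Frame3 f e d v := by
  have hn : Module.finrank F V3 = 3 := by rw [Module.finrank_pi, Fintype.card_fin]
  obtain ⟨hP, hP2⟩ := nondeg_pair hf hee hdd hed
  set P := Submodule.span F ({e, d} : Set V3)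
  have hO : Module.finrank F ↥(orth hf P) = 1 := by
    have := finrank_orth_add hf hP
    omega
  obtain ⟨w, hw, hww⟩ := exists_anisotropic hf (nondeg_orth hf hP)
    (fun h => by rw [h, finrank_bot] at hO; omega)
  obtain ⟨a, ha⟩ := exists_norm hf.ne_refl hf.involutive (f w w)⁻¹
    (by rw [map_inv₀, self_fixed hf])
  set v := a • w with hv
  have hvv : f v v = 1 := by
    rw [hv, hf.smul_left, smul_right hf, ← mul_assoc, ha, inv_mul_cancel₀ hww]
  have hvO : v ∈ orth hf P := Submodule.smul_mem _ _ hw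
  have hev : f e v = 0 := hvO e (Submodule.subset_span (Set.mem_insert _ _))
  have hdv : f d v = 0 := hvO d (Submodule.subset_span (Set.mem_insert_of_mem _ rfl))
  have hve : f v e = 0 := (f_eq_zero_comm hf).1 hev
  have hvd : f v d = 0 := (f_eq_zero_comm hf).1 hdv
  have hde : f d e = 1 := by rw [hf.herm, hed, map_one]
  refine ⟨v, ⟨hee, hdd, hvv, hed, hde, hev, hve, hdv, hvd, fun x => ?_⟩⟩
  obtain ⟨p, hp, y, hy, hxy⟩ :=
    Submodule.mem_sup.1 ((sup_orth hf hP).symm ▸ Submodule.mem_top : x ∈ P ⊔ orth hf P)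
  obtain ⟨r, s, rfl⟩ := Submodule.mem_span_pair.1 hp
  have hv0 : (⟨v, hvO⟩ : orth hf P) ≠ 0 := fun h => by
    have : v = 0 := congrArg Subtype.val h
    rw [this, zero_left hf] at hvv
    exact zero_ne_one hvv
  obtain ⟨c, hc⟩ := exists_smul_eq_of_finrank_eq_one hO hv0 ⟨y, hy⟩
  have hc' : c • v = y := congrArg Subtype.val hc
  subst hc'
  subst hxy
  simp [hf.add_left, hf.smul_left, hee, hdd, hvv, hed, hde, hev, hve, hdv, hvd]

/-- The unipotent element fixing e, sending d to d + a v + b e. -/
noncomputable def uni (hf : Geo.IsUnitaryForm σ f) (hfr : Frame3 f e d v) (a b : F) : GL (Fin 3) F :=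
  tv (a • v + b • e) (formH hf e) (by
    rw [formH_apply, hf.add_left, hf.smul_left, hf.smul_left, hfr.ve, hfr.ee, mul_zero, mul_zero, add_zero]) *
  tv e ((-σ a) • formH hf v) (by rw [LinearMap.smul_apply, formH_apply, hfr.ev, smul_zero])

include hf hfr in
theorem uni_vec (a b p r c : F) :
    mv (uni hf hfr a b) (vec e d v p r c) = vec e d v (p + c * b - r * σ a) (r + c * a) c := by
  rw [uni, mv_mul, mv_tv, mv_tv]
  simp only [LinearMap.smul_apply, formH_apply, smul_eq_mul, vec, hf.add_left, hf.smul_left,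
    hfr.ee, hfr.dd, hfr.vv, hfr.ed, hfr.de, hfr.ev, hfr.ve, hfr.dv, hfr.vd, mul_zero, mul_one,
    add_zero, zero_add]
  match_scalars <;> ring

include hf hfr in
theorem exists_vec (x : V3) : ∃ a b c, x = vec e d v a b c :=
  ⟨f x d, f x v, f x e, (hfr.decomp x).trans (by rw [vec]; abel)⟩

include hf hfr in
theorem uni_mem (a b : F) (h : b + σ b + a * σ a = 0) :
    uni hf hfr a b ∈ preserving (Units.coeHom (Matrix (Fin 3) (Fin 3) F)) f ⊓ Geo.specialLinear (Fin 3) F := by
  refine ⟨?_, Subgroup.mul_mem _ (tv_mem_specialLinear _) (tv_mem_specialLinear _)⟩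
  show ∀ x y, f (mv (uni hf hfr a b) x) (mv (uni hf hfr a b) y) = f x y
  intro x y
  obtain ⟨a1, b1, c1, rfl⟩ := exists_vec hf hfr x
  obtain ⟨a2, b2, c2, rfl⟩ := exists_vec hf hfr y
  rw [uni_vec hf hfr, uni_vec hf hfr, f_vec hf hfr, f_vec hf hfr]
  simp only [map_sub, map_add, map_mul, hf.involutive]
  linear_combination (c1 * σ c2) * h

include hf hfr in
theorem uni_ext {g h : GL (Fin 3) F} (H : ∀ p r c, mv g (vec e d v p r c) = mv h (vec e d v p r c)) :
    g = h :=
  ext_mv fun x => by obtain ⟨p, r, c, rfl⟩ := exists_vec hf hfr x; exact H p r c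

include hf hfr in
theorem uni_mul (a b a' b' : F) :
    uni hf hfr a b * uni hf hfr a' b' = uni hf hfr (a + a') (b + b' - a' * σ a) := by
  refine uni_ext hf hfr fun p r c => ?_
  rw [mv_mul, uni_vec hf hfr, uni_vec hf hfr, uni_vec hf hfr, map_add]
  congr 1 <;> ring

include hf hfr in
theorem uni_zero : uni hf hfr 0 0 = 1 := by
  refine uni_ext hf hfr fun p r c => ?_
  rw [uni_vec hf hfr, mv_one]
  simp

include hf hfr in
theorem uni_zero_eq_htv (b : F) : uni hf hfr 0 b = htv hf e hfr.ee b := by
  refine uni_ext hf hfr fun p r c => ?_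
  rw [uni_vec hf hfr, mv_htv]
  simp only [vec, hf.add_left, hf.smul_left, hfr.ee, hfr.de, hfr.ve, map_zero, mul_zero, mul_one,
    add_zero, zero_add, sub_zero]
  match_scalars <;> ring

include hf hfr in
theorem uni_inv (a b : F) (h : b + σ b + a * σ a = 0) : (uni hf hfr a b)⁻¹ = uni hf hfr (-a) (σ b) := by
  apply inv_eq_of_mul_eq_one_right
  rw [uni_mul hf hfr, add_neg_cancel, show b + σ b - -a * σ a = 0 by linear_combination h, uni_zero hf hfr]

/-- `v` is an isotropic vector all whose transvections lie in M. -/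
def Full (M : Subgroup (GL (Fin 3) F)) (hf : Geo.IsUnitaryForm σ f) (w : V3) : Prop :=
  ∃ h : f w w = 0, ∀ c, σ c = -c → htv hf w h c ∈ M

theorem Full.smul {M : Subgroup (GL (Fin 3) F)} {w : V3} (h : Full M hf w) (l : F) :
    Full M hf (l • w) := by
  obtain ⟨h0, h1⟩ := h
  refine ⟨by rw [hf.smul_left, smul_right hf, h0, mul_zero, mul_zero], fun c hc => ?_⟩
  rw [htv_smul hf w h0 l c]
  exact h1 _ (by rw [map_mul, map_mul, hf.involutive, hc]; ring)

theorem Full.conj {M : Subgroup (GL (Fin 3) F)} {w : V3} (h : Full M hf w) {g : GL (Fin 3) F}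
    (hg : g ∈ M) (hgf : ∀ x y, f (mv g x) (mv g y) = f x y) : Full M hf (mv g w) := by
  obtain ⟨h0, h1⟩ := h
  refine ⟨(hgf w w).trans h0, fun c hc => ?_⟩
  rw [← htv_conj hf hgf w h0 c]
  exact M.mul_mem (M.mul_mem hg (h1 c hc)) (M.inv_mem hg)

theorem Full.of_eq {M : Subgroup (GL (Fin 3) F)} {w w' : V3} (h : Full M hf w) (he : w = w') :
    Full M hf w' := he ▸ h

variable [Finite F]

include hf hfr in
/-- Full transvection groups at two opposite points and one point off their line give everything. -/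
theorem su_le_of_frame (hq : 3 ≤ Nat.card (fixedField σ)) {M : Subgroup (GL (Fin 3) F)}
    (he : Full M hf e) (hd : Full M hf d) {a₀ b₀ : F} (ha₀ : a₀ ≠ 0)
    (h₀ : Full M hf (vec e d v b₀ a₀ 1)) :
    preserving (Units.coeHom (Matrix (Fin 3) (Fin 3) F)) f ⊓ Geo.specialLinear (Fin 3) F ≤ M := by
  obtain ⟨hee, heF⟩ := he
  obtain ⟨hdd, hdF⟩ := hd
  have iso : ∀ a b : F, f (vec e d v b a 1) (vec e d v b a 1) = b + σ b + a * σ a := fun a b => by
    rw [f_vec hf hfr, map_one]; ring
  set R : F → Prop := fun a => ∀ b, b + σ b + a * σ a = 0 → Full M hf (vec e d v b a 1) with hR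
  have move : ∀ a b, Full M hf (vec e d v b a 1) → R a := by
    intro a b hb b' hb'
    have hb0 := hb.fst
    rw [iso] at hb0
    have hc : σ (b' - b) = -(b' - b) := by rw [map_sub]; linear_combination hb' - hb0
    refine (hb.conj hf (heF _ hc) (htv_mem hf e hee hc)).of_eq hf ?_
    rw [mv_htv]
    simp only [vec, hf.add_left, hf.smul_left, hfr.ee, hfr.de, hfr.ve, mul_zero, mul_one, add_zero, zero_add]
    match_scalars <;> ring
  have step : ∀ a z : F, a ≠ 0 → σ z ≠ z → R a → R (z * a) := by
    intro a z ha hz hRa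
    have hz0 : z ≠ 0 := fun h => hz (by rw [h, map_zero])
    have hσz0 : σ z ≠ 0 := fun h => hz0 ((map_eq_zero_iff σ σ.injective).1 h)
    have hσa : σ a ≠ 0 := fun h => ha ((map_eq_zero_iff σ σ.injective).1 h)
    set r := 1 / z - 1 with hr
    set c := (σ r - r) / (a * σ a) with hc
    have hrne : σ r - r ≠ 0 := by
      intro h
      apply hz
      rw [hr, map_sub, map_one, map_div₀, map_one] at h
      field_simp at h
      linear_combination -h
    have hc0 : c ≠ 0 := div_ne_zero hrne (mul_ne_zero ha hσa)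
    have hσc : σ c = -c := by
      rw [hc, map_div₀, map_sub, map_mul, hf.involutive, hf.involutive]
      field_simp
      ring
    have hb : r / c + σ (r / c) + a * σ a = 0 := by
      rw [map_div₀, hσc, hc]
      field_simp
      ring
    have h1 := ((hRa _ hb).conj hf (hdF _ hσc) (htv_mem hf d hdd hσc)).smul hf z
    refine move (z * a) (z * (r / c)) (h1.of_eq hf ?_)
    rw [mv_htv]
    simp only [vec, hf.add_left, hf.smul_left, hfr.ed, hfr.dd, hfr.vd, mul_zero, mul_one, add_zero]
    have : z * (1 + c * (r / c)) = 1 := by rw [mul_div_cancel₀ _ hc0, hr]; field_simp; ring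
    match_scalars
    · ring
    · ring
    · linear_combination this
  obtain ⟨w, hw⟩ : ∃ w, σ w ≠ w := by
    by_contra h
    push Not at h
    exact hf.ne_refl (RingEquiv.ext h)
  have all : ∀ a, R a := by
    intro a
    by_cases ha : a = 0
    · subst ha
      exact move 0 0 (Full.of_eq hf ⟨hdd, hdF⟩ (by simp [vec]))
    have h0 : R a₀ := move a₀ b₀ h₀
    set z := a / a₀ with hz
    have hz0 : z ≠ 0 := div_ne_zero ha ha₀
    have haz : a = z * a₀ := by rw [hz, div_mul_cancel₀ _ ha₀]
    by_cases hzf : σ z = z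
    · have hw0 : w ≠ 0 := fun h => hw (by rw [h, map_zero])
      have hwi : σ (z / w) ≠ z / w := by
        intro h
        rw [map_div₀, hzf, div_eq_mul_inv, div_eq_mul_inv] at h
        exact hw (inv_injective (mul_left_cancel₀ hz0 h))
      have := step (w * a₀) (z / w) (mul_ne_zero hw0 ha₀) hwi (step a₀ w ha₀ hw h0)
      rw [← mul_assoc, div_mul_cancel₀ _ hw0, ← haz] at this
      exact this
    · rw [haz]; exact step a₀ z ha₀ hzf h0
  refine su3_le hf (Fintype.card_fin 3) hq fun x hx c hc => ?_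
  suffices h : Full M hf x from h.2 c hc
  obtain ⟨p, r, s, rfl⟩ := exists_vec hf hfr x
  by_cases hs : s = 0
  · subst hs
    rw [f_vec hf hfr, map_zero] at hx
    have hr : r = 0 := by
      have : r * σ r = 0 := by linear_combination hx
      rcases mul_eq_zero.1 this with h | h
      · exact h
      · exact (map_eq_zero_iff σ σ.injective).1 h
    subst hr
    refine (Full.smul hf ⟨hee, heF⟩ p).of_eq hf ?_
    simp [vec]
  · have hiso : p / s + σ (p / s) + r / s * σ (r / s) = 0 := by
      rw [f_vec hf hfr] at hx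
      have hσs : σ s ≠ 0 := fun h => hs ((map_eq_zero_iff σ σ.injective).1 h)
      rw [map_div₀, map_div₀]
      field_simp
      linear_combination hx
    refine ((all (r / s) (p / s) hiso).smul hf s).of_eq hf ?_
    simp only [vec]
    match_scalars <;> field_simp

include hf in
/-- Full transvection groups at three independent points, two of which are not orthogonal to the first. -/
theorem su_le_of_three (hq : 3 ≤ Nat.card (fixedField σ)) {M : Subgroup (GL (Fin 3) F)} {x y z : V3}
    (hx : Full M hf x) (hy : Full M hf y) (hz : Full M hf z) (hxy : f x y ≠ 0) (hzx : f z x ≠ 0)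
    (hspan : ∀ α β : F, z ≠ α • x + β • y) :
    preserving (Units.coeHom (Matrix (Fin 3) (Fin 3) F)) f ⊓ Geo.specialLinear (Fin 3) F ≤ M := by
  set k := σ (f x y)⁻¹ with hk
  have hd : Full M hf (k • y) := hy.smul hf k
  have hed : f x (k • y) = 1 := by rw [smul_right hf, hk, hf.involutive, inv_mul_cancel₀ hxy]
  obtain ⟨v, hfr⟩ := exists_frame_of_pair hf hx.fst hd.fst hed
  obtain ⟨a, b, c, hzv⟩ := exists_vec hf hfr z
  have hc : c = f z x := by
    rw [hzv, vec, hf.add_left, hf.add_left, hf.smul_left, hf.smul_left, hf.smul_left, hfr.ee, hfr.ve, hfr.de]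
    ring
  have hc0 : c ≠ 0 := hc ▸ hzx
  have hb : b ≠ 0 := by
    intro hb
    apply hspan a (c * k)
    rw [hzv, hb, vec, zero_smul, add_zero, smul_smul]
  refine su_le_of_frame hf hfr hq hx hd (div_ne_zero hb hc0) (b₀ := a / c) ?_
  refine (hz.smul hf c⁻¹).of_eq hf ?_
  rw [hzv]
  simp only [vec]
  match_scalars <;> field_simp

end Cfsg.Agent.SU3Regular
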