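/-
The SL_2 over the fixed field spanned by two opposite unitary transvection groups.
-/
import Cfsg.Agent.Lib.Generation.SU3Frame
import Cfsg.Agent.Lib.Classical.DicksonPair

set_option autoImplicit false

namespace Cfsg.Agent.SU3Regular

open scoped Matrix
open Matrix Cfsg.Agent.Transvec Cfsg.Agent.Transvec.Herm PStable

variable {F : Type*} [Field F]

local notation "V3" => (Fin 3 → F)

/-- The embedding of 2×2 matrices given by a partial inverse pair of matrices. -/
noncomputable def embed2 {K : Type*} [CommRing K] (i : K →+* F) (U : Matrix (Fin 3) (Fin 2) F)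
    (W : Matrix (Fin 2) (Fin 3) F) (hWU : W * U = 1) :
    Matrix.SpecialLinearGroup (Fin 2) K →* GL (Fin 3) F :=
  MonoidHom.toHomUnits
    { toFun := fun X => 1 + U * (X.1.map i - 1) * W
      map_one' := by simp
      map_mul' := fun X Y => by
        have h : ∀ A B : Matrix (Fin 2) (Fin 2) F, U * A * W * (U * B * W) = U * (A * B) * W := fun A B => by
          rw [show U * A * W * (U * B * W) = U * (A * ((W * U) * B)) * W by simp only [Matrix.mul_assoc],
            hWU, Matrix.one_mul]
        rw [Matrix.SpecialLinearGroup.coe_mul, Matrix.map_mul, mul_add, add_mul, add_mul, one_mul, mul_one,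
          one_mul, h]
        simp only [Matrix.mul_sub, Matrix.sub_mul, Matrix.mul_one, Matrix.one_mul]
        abel }

theorem mv_embed2 {K : Type*} [CommRing K] (i : K →+* F) (U : Matrix (Fin 3) (Fin 2) F)
    (W : Matrix (Fin 2) (Fin 3) F) (hWU : W * U = 1) (X : Matrix.SpecialLinearGroup (Fin 2) K) (w : V3) :
    mv (embed2 i U W hWU X) w = w + U *ᵥ ((X.1.map i - 1) *ᵥ (W *ᵥ w)) := by
  show (1 + U * (X.1.map i - 1) * W) *ᵥ w = _
  rw [Matrix.add_mulVec, Matrix.one_mulVec, Matrix.mulVec_mulVec, Matrix.mulVec_mulVec, Matrix.mul_assoc]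

variable {σ : F ≃+* F} {f : (Fin 3 → F) → (Fin 3 → F) → F} (hf : Geo.IsUnitaryForm σ f)

/-- The scaling of y making the pair standard. -/
def pk (f : (Fin 3 → F) → (Fin 3 → F) → F) (x y : Fin 3 → F) (t : F) : F := (t * f y x)⁻¹

/-- The columns: the scaled y and x. -/
def pU (f : (Fin 3 → F) → (Fin 3 → F) → F) (x y : Fin 3 → F) (t : F) : Matrix (Fin 3) (Fin 2) F :=
  Matrix.of fun i j => ![pk f x y t * y i, x i] j

/-- The coordinate functionals. -/
noncomputable def pW (hf : Geo.IsUnitaryForm σ f) (x y : Fin 3 → F) (t : F) : Matrix (Fin 2) (Fin 3) F :=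
  LinearMap.toMatrix' (LinearMap.pi ![t • formH hf x, (-t) • formH hf (pk f x y t • y)])

include hf in
theorem pW_mulVec (x y : V3) (t : F) (w : V3) :
    pW hf x y t *ᵥ w = ![t * f w x, -t * f w (pk f x y t • y)] := by
  rw [pW, LinearMap.toMatrix'_mulVec]
  funext j
  fin_cases j <;> rfl

omit hf in
theorem pU_mulVec (x y : V3) (t : F) (c : Fin 2 → F) :
    pU f x y t *ᵥ c = (c 0 * pk f x y t) • y + c 1 • x := by
  funext i
  simp [pU, Matrix.mulVec, dotProduct, Fin.sum_univ_two]
  ring

include hf in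
theorem pW_pU {x y : V3} {t : F} (hx : f x x = 0) (hy : f y y = 0) (hxy : f y x ≠ 0) (ht : σ t = -t)
    (ht0 : t ≠ 0) : pW hf x y t * pU f x y t = 1 := by
  refine Matrix.ext_of_mulVec_single fun j => ?_
  have hσf : σ (f y x) ≠ 0 := fun h => hxy ((map_eq_zero_iff σ σ.injective).1 h)
  rw [← Matrix.mulVec_mulVec, pU_mulVec, pW_mulVec, Matrix.one_mulVec]
  funext i
  fin_cases i <;> fin_cases j <;>
    simp [hf.add_left, hf.smul_left, smul_right hf, hx, hy, pk, hf.herm x y, ht] <;> field_simp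

/-- The embedding of SL₂ of the fixed field attached to the pair. -/
noncomputable def pairHom (hf : Geo.IsUnitaryForm σ f) {x y : Fin 3 → F} {t : F} (hx : f x x = 0)
    (hy : f y y = 0) (hxy : f y x ≠ 0) (ht : σ t = -t) (ht0 : t ≠ 0) :
    Matrix.SpecialLinearGroup (Fin 2) (fixedField σ) →* GL (Fin 3) F :=
  embed2 (fixedField σ).subtype (pU f x y t) (pW hf x y t) (pW_pU hf hx hy hxy ht ht0)

variable {x y : Fin 3 → F} {t : F} (hx : f x x = 0) (hy : f y y = 0) (hxy : f y x ≠ 0)
  (ht : σ t = -t) (ht0 : t ≠ 0)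

include hf in
theorem pairHom_low (c : fixedField σ) : pairHom hf hx hy hxy ht ht0 (low c) = htv hf x hx ((c : F) * t) := by
  refine ext_mv fun w => ?_
  rw [pairHom, mv_embed2, pW_mulVec, pU_mulVec, mv_htv]
  simp [low_val, Matrix.mulVec, dotProduct, Fin.sum_univ_two, mul_assoc]

include hf in
theorem pairHom_upp (c : fixedField σ) :
    pairHom hf hx hy hxy ht ht0 (upp c) = htv hf y hy ((c : F) / (t * (f y x * σ (f y x)))) := by
  have hσf : σ (f y x) ≠ 0 := fun h => hxy ((map_eq_zero_iff σ σ.injective).1 h)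
  refine ext_mv fun w => ?_
  rw [pairHom, mv_embed2, pW_mulVec, pU_mulVec, mv_htv]
  simp [upp_val, Matrix.mulVec, dotProduct, Fin.sum_univ_two, smul_right hf, pk, ht]
  congr 1
  field_simp

variable [Finite F]

include hf in
/-- Two opposite transvections with a generating invariant give a full transvection group. -/
theorem full_of_pair (p : ℕ) [Fact p.Prime] [CharP F p] (hp : p ≠ 2) {M : Subgroup (GL (Fin 3) F)}
    {x y : V3} {t t' : F} (hx : f x x = 0) (hy : f y y = 0) (hxy : f y x ≠ 0) (ht : σ t = -t)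
    (ht0 : t ≠ 0) (hxM : htv hf x hx t ∈ M) (hyM : htv hf y hy t' ∈ M) (lam : fixedField σ)
    (hlam : (lam : F) = t * t' * (f y x * σ (f y x))) (hl0 : lam ≠ 0)
    (hgen : Subfield.closure ({lam} : Set (fixedField σ)) = ⊤)
    (hexc : p = 3 → Nat.card (fixedField σ) = 9 → lam ^ 2 ≠ -1) :
    Full M hf x ∧ Full M hf y := by
  have : CharP (fixedField σ) p :=
    (RingHom.charP_iff (fixedField σ).subtype Subtype.val_injective p).mpr ‹_›
  set φ := pairHom hf hx hy hxy ht ht0 with hφ
  set H := M.comap φ with hH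
  have hσf : σ (f y x) ≠ 0 := fun h => hxy ((map_eq_zero_iff σ σ.injective).1 h)
  have h1 : low 1 ∈ H := by
    show φ (low 1) ∈ M
    rw [hφ, pairHom_low, OneMemClass.coe_one, one_mul]
    exact hxM
  have h2 : upp lam ∈ H := by
    show φ (upp lam) ∈ M
    rw [hφ, pairHom_upp, hlam, show t * t' * (f y x * σ (f y x)) / (t * (f y x * σ (f y x))) = t' by
      field_simp]
    exact hyM
  have htop : H.map PSL2Inv.pr = ⊤ := by
    rcases Dickson.pair_cases p hp hl0 hgen (Subgroup.mem_map_of_mem PSL2Inv.pr h1)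
      (Subgroup.mem_map_of_mem PSL2Inv.pr h2) with h | ⟨h3, h9, hl, -⟩
    · exact h
    · exact absurd hl (hexc h3 h9)
  have hsq : ∀ g, g * g ∈ H := by
    intro g
    have : PSL2Inv.pr g ∈ H.map PSL2Inv.pr := htop ▸ Subgroup.mem_top _
    obtain ⟨h, hh, he⟩ := this
    rcases PSL2Inv.pr_eq_iff.1 he with he | he
    · rw [he]; exact H.mul_mem hh hh
    · rw [he, show SL2Inv.negOne * h * (SL2Inv.negOne * h) = SL2Inv.negOne * SL2Inv.negOne * (h * h) by
          rw [mul_assoc, ← mul_assoc h, ← SL2Inv.negOne_comm, mul_assoc, ← mul_assoc],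
        SL2Inv.negOne_mul_self, one_mul]
      exact H.mul_mem hh hh
  have h2' : (2 : fixedField σ) ≠ 0 := Ring.two_ne_zero (by
    rw [ringChar.eq (fixedField σ) p]; exact hp)
  have : NeZero (2 : fixedField σ) := ⟨h2'⟩
  refine ⟨⟨hx, fun c hc => ?_⟩, ⟨hy, fun c hc => ?_⟩⟩
  · let c' : fixedField σ := ⟨c / t, mem_fixedField.2 (by rw [map_div₀, hc, ht, neg_div_neg_eq])⟩
    have := hsq (low (c' / 2))
    rw [low_mul, add_halves] at this
    have h : φ (low c') ∈ M := this
    rw [hφ, pairHom_low, show ((c' : F)) * t = c from div_mul_cancel₀ c ht0] at h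
    exact h
  · let c' : fixedField σ := ⟨c * (t * (f y x * σ (f y x))), mem_fixedField.2 (by
      rw [map_mul, map_mul, map_mul, hc, ht, hf.involutive]; ring)⟩
    have := hsq (upp (c' / 2))
    rw [upp_mul, add_halves] at this
    have h : φ (upp c') ∈ M := this
    rw [hφ, pairHom_upp, show ((c' : F)) / (t * (f y x * σ (f y x))) = c from
      mul_div_cancel_right₀ c (mul_ne_zero ht0 (mul_ne_zero hxy hσf))] at h
    exact h

end Cfsg.Agent.SU3Regular
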