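/-
Characteristic two: two conjugate regular unipotent elements generate SU_3.
-/
import Cfsg.Agent.Lib.Generation.SU3Pair
import Cfsg.Agent.Lib.Classical.SL

set_option autoImplicit false

namespace Cfsg.Agent.SU3Regular

open scoped Matrix
open Matrix Cfsg.Agent.Transvec Cfsg.Agent.Transvec.Herm Cfsg.Agent.UnitaryGen PStable

section sl2

variable {K : Type*} [Field K] [Finite K] [CharP K 2]

local notation "SL2" => Matrix.SpecialLinearGroup (Fin 2) K
local notation "M2" => Matrix (Fin 2) (Fin 2) K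

/-- Three transvections of which two span a split torus generate SL₂ in characteristic two. -/
theorem sl2_top {ρ : Kˣ} (hρ : ∀ x : Kˣ, x ∈ Subgroup.zpowers ρ) {lam : K}
    (hlam : lam = (ρ : K) + (ρ : K)⁻¹) (hl0 : lam ≠ 0) {H : Subgroup (Matrix.SpecialLinearGroup (Fin 2) K)}
    (h1 : low 1 ∈ H) (h2 : upp lam ∈ H) {J : Matrix.SpecialLinearGroup (Fin 2) K} (hJ : J ∈ H)
    (hJd : J.1 0 0 = J.1 1 1) (hJ1 : J ≠ 1) (htr : ((low 1 * upp lam * J : SL2) : M2).trace ≠ 0) :
    H = ⊤ := by
  classical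
  have : Fintype K := Fintype.ofFinite K
  have h20 : (2 : K) = 0 := CharTwo.two_eq_zero
  set r : K := (ρ : K) with hr
  have hr0 : r ≠ 0 := ρ.ne_zero
  let Pm : M2 := !![lam, lam; r + 1, r⁻¹ + 1]
  have hdet : Pm.det ≠ 0 := by
    rw [show Pm.det = lam * lam by
      simp only [Pm, Matrix.det_fin_two_of]
      rw [hlam]
      linear_combination (-(r + r⁻¹) * r) * h20]
    exact mul_ne_zero hl0 hl0
  let P : GL (Fin 2) K := GeneralLinearGroup.mkOfDetNeZero Pm hdet
  let C : SL2 →* SL2 :=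
    { toFun := fun x => ⟨(P⁻¹).1 * x.1 * P.1, by
        rw [det_mul, det_mul, mul_comm _ x.1.det, x.2, one_mul, ← det_mul, Units.inv_mul, Matrix.det_one]⟩
      map_one' := Subtype.ext (by simp)
      map_mul' := fun x y => Subtype.ext (by
        show (P⁻¹).1 * (x.1 * y.1) * P.1 = (P⁻¹).1 * x.1 * P.1 * ((P⁻¹).1 * y.1 * P.1)
        rw [Matrix.mul_assoc ((P⁻¹).1 * x.1) P.1, ← Matrix.mul_assoc P.1, ← Matrix.mul_assoc P.1,
          Units.mul_inv, Matrix.one_mul]
        simp only [Matrix.mul_assoc]) }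
  have hCinj : Function.Injective C := fun x y h => Subtype.ext (by
    have h' : (P⁻¹).1 * x.1 * P.1 = (P⁻¹).1 * y.1 * P.1 := congrArg Subtype.val h
    exact P⁻¹.isUnit.mul_left_cancel (P.isUnit.mul_right_cancel h'))
  have hC : ∀ (x : SL2) (D : M2), x.1 * Pm = Pm * D → (C x).1 = D := fun x D h => by
    show (P⁻¹).1 * x.1 * P.1 = D
    rw [Matrix.mul_assoc, show x.1 * P.1 = P.1 * D from h, ← Matrix.mul_assoc, Units.inv_mul, Matrix.one_mul]
  have hX : (C (low 1)).1 = !![0, 1; 1, 0] := hC _ _ (by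
    simp only [Pm, low_val, Matrix.mul_fin_two]
    refine ext2 ?_ ?_ ?_ ?_ <;> simp [hlam]
    · linear_combination r * h20
    · linear_combination r⁻¹ * h20)
  have hY : (C (low 1 * upp lam)).1 = !![r, 0; 0, r⁻¹] := hC _ _ (by
    simp only [Pm, Matrix.SpecialLinearGroup.coe_mul, low_val, upp_val, Matrix.mul_fin_two]
    refine ext2 ?_ ?_ ?_ ?_ <;> simp [hlam] <;> field_simp
    · linear_combination (1 + r ^ 2) * h20
    · linear_combination (r + r ^ 3) * h20
    · linear_combination (r ^ 2 + r + 1) * h20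
    · linear_combination (r ^ 3 + r ^ 2 + r) * h20)
  set H' := H.map C with hH'
  set X := C (low 1) with hXdef
  set Y := C (low 1 * upp lam) with hYdef
  have hXm : X ∈ H' := Subgroup.mem_map_of_mem C h1
  have hYm : Y ∈ H' := Subgroup.mem_map_of_mem C (H.mul_mem h1 h2)
  have hXX : X * X = 1 := Subtype.ext (by
    rw [Matrix.SpecialLinearGroup.coe_mul, hX]; simp [Matrix.mul_fin_two, Matrix.one_fin_two])
  have hpow : ∀ j : ℕ, (Y ^ j).1 = !![r ^ j, 0; 0, (r ^ j)⁻¹] := by
    intro j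
    induction j with
    | zero => simp [Matrix.one_fin_two]
    | succ j ih =>
      rw [pow_succ, Matrix.SpecialLinearGroup.coe_mul, ih, hY, Matrix.mul_fin_two, pow_succ]
      simp [mul_comm]
  have hsqrt : ∀ x : K, x ≠ 0 → ∃ j : ℕ, (r ^ j) ^ 2 = x := by
    intro x hx
    obtain ⟨y, hy⟩ := (Finite.injective_iff_surjective.1 (frobenius_inj K 2)) x
    have hy0 : y ≠ 0 := by rintro rfl; exact hx (by rw [← hy]; simp [frobenius_def])
    obtain ⟨j, hj⟩ := (mem_powers_iff_mem_zpowers.2 (hρ (Units.mk0 y hy0)) :)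
    refine ⟨j, ?_⟩
    have : r ^ j = y := by
      have := congrArg Units.val hj
      simpa using this
    rw [this, ← frobenius_def, hy]
  -- one upper element gives all
  have finish : ∀ B : K, B ≠ 0 → upp B ∈ H' → H = ⊤ := by
    intro B hB hBm
    have hall : ∀ t : K, upp t ∈ H' := by
      intro t
      by_cases ht : t = 0
      · rw [ht, upp_zero]; exact one_mem _
      obtain ⟨j, hj⟩ := hsqrt (t / B) (div_ne_zero ht hB)
      convert H'.mul_mem (H'.mul_mem (H'.pow_mem hYm j) hBm) (H'.inv_mem (H'.pow_mem hYm j)) using 1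
      rw [eq_mul_inv_iff_mul_eq]
      refine Subtype.ext ?_
      rw [Matrix.SpecialLinearGroup.coe_mul, Matrix.SpecialLinearGroup.coe_mul, hpow, upp_val, upp_val,
        Matrix.mul_fin_two, Matrix.mul_fin_two]
      have hrj : r ^ j ≠ 0 := pow_ne_zero _ hr0
      have : t = (r ^ j) ^ 2 * B := by rw [hj, div_mul_cancel₀ _ hB]
      refine ext2 ?_ ?_ ?_ ?_ <;> simp [this]
      field_simp
    have hlow : ∀ t : K, low t ∈ H' := by
      intro t
      convert H'.mul_mem (H'.mul_mem hXm (hall t)) hXm using 1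
      refine Subtype.ext ?_
      rw [Matrix.SpecialLinearGroup.coe_mul, Matrix.SpecialLinearGroup.coe_mul, hX, upp_val, low_val,
        Matrix.mul_fin_two, Matrix.mul_fin_two]
      simp
    have htop : H' = ⊤ := by
      rw [eq_top_iff, ← ClassicalSL.closure_elemTransvections, Subgroup.closure_le]
      rintro g ⟨i, j, hij, c, rfl⟩
      fin_cases i <;> fin_cases j <;> first | exact absurd rfl hij | skip
      · rw [SetLike.mem_coe]
        have he : SpecialLinearGroup.transvection hij c = upp c := Subtype.ext (by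
          rw [SpecialLinearGroup.transvection_coe, upp_val]
          refine ext2 ?_ ?_ ?_ ?_ <;> simp [Matrix.single])
        exact he ▸ hall c
      · rw [SetLike.mem_coe]
        have he : SpecialLinearGroup.transvection hij c = low c := Subtype.ext (by
          rw [SpecialLinearGroup.transvection_coe, low_val]
          refine ext2 ?_ ?_ ?_ ?_ <;> simp [Matrix.single])
        exact he ▸ hlow c
    refine eq_top_iff.2 fun g _ => ?_
    have hm : C g ∈ H' := htop ▸ Subgroup.mem_top _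
    obtain ⟨h, hh, he⟩ := hm
    exact hCinj he ▸ hh
  set J' := C J with hJ'def
  have hJm : J' ∈ H' := Subgroup.mem_map_of_mem C hJ
  have hJ'1 : J' ≠ 1 := fun h => hJ1 (hCinj (by rw [map_one]; exact h))
  have htrC : ∀ x : SL2, (C x).1.trace = x.1.trace := fun x => by
    show ((P⁻¹).1 * x.1 * P.1).trace = _
    rw [Matrix.trace_mul_cycle, Units.mul_inv, Matrix.one_mul]
  have hJtr : J'.1 0 0 = J'.1 1 1 := by
    have := htrC J
    rw [← hJ'def, Matrix.trace_fin_two, Matrix.trace_fin_two, hJd] at this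
    linear_combination this + (J.1 1 1 - J'.1 1 1) * h20
  set A := J'.1 0 0 with hA
  have hA0 : A ≠ 0 := by
    intro h0
    apply htr
    rw [← htrC, map_mul, ← hYdef, ← hJ'def, Matrix.SpecialLinearGroup.coe_mul, hY, Matrix.trace_fin_two]
    simp [Matrix.mul_apply, Fin.sum_univ_two, ← hJtr, ← hA, h0]
  have hJdet : A * A - J'.1 0 1 * J'.1 1 0 = 1 := by
    have := det_one J'
    rwa [← hJtr, ← hA] at this
  by_cases hC0 : J'.1 1 0 = 0
  · have hA1 : A = 1 := by
      have : (A - 1) ^ 2 = 0 := by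
        rw [hC0] at hJdet
        linear_combination hJdet + (1 - A) * h20
      exact sub_eq_zero.1 (pow_eq_zero_iff (n := 2) (by norm_num) |>.1 this)
    have he : J' = upp (J'.1 0 1) := Subtype.ext (by
      rw [upp_val]
      refine ext2 ?_ ?_ ?_ ?_ <;> simp [hC0, ← hJtr, ← hA, hA1])
    refine finish (J'.1 0 1) (fun h => hJ'1 ?_) (he ▸ hJm)
    rw [he, h, upp_zero]
  by_cases hB0 : J'.1 0 1 = 0
  · have hA1 : A = 1 := by
      have : (A - 1) ^ 2 = 0 := by
        rw [hB0] at hJdet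
        linear_combination hJdet + (1 - A) * h20
      exact sub_eq_zero.1 (pow_eq_zero_iff (n := 2) (by norm_num) |>.1 this)
    refine finish (J'.1 1 0) hC0 ?_
    convert H'.mul_mem (H'.mul_mem hXm hJm) hXm using 1
    refine Subtype.ext ?_
    rw [Matrix.SpecialLinearGroup.coe_mul, Matrix.SpecialLinearGroup.coe_mul, hX, upp_val]
    refine ext2 ?_ ?_ ?_ ?_ <;>
      simp [Matrix.mul_apply, Matrix.vecMul, dotProduct, Fin.sum_univ_two, hB0, ← hJtr, ← hA, hA1]
  obtain ⟨j, hj⟩ := hsqrt (A / J'.1 1 0) (div_ne_zero hA0 hC0)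
  have hrj : r ^ j ≠ 0 := pow_ne_zero _ hr0
  set g := J' * Y ^ j with hg
  have hgm : g ∈ H' := H'.mul_mem hJm (H'.pow_mem hYm j)
  obtain ⟨Z, hZ⟩ : ∃ Z, Z = g * X * g⁻¹ := ⟨_, rfl⟩
  have hZg : Z * g = g * X := by rw [hZ, inv_mul_cancel_right]
  have hrow : g.1 1 0 + g.1 1 1 = 0 := by
    simp only [hg, Matrix.SpecialLinearGroup.coe_mul, hpow, Matrix.mul_apply, Fin.sum_univ_two,
      ← hJtr, ← hA]
    simp
    field_simp at hj ⊢
    linear_combination hj + A * h20
  have hgdet := det_one g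
  have hc : g.1 0 0 + g.1 0 1 ≠ 0 := fun h => by
    have : (1 : K) = 0 := by linear_combination -hgdet + g.1 1 1 * h - g.1 0 1 * hrow
    exact one_ne_zero this
  have hZg' : Z.1 * g.1 = g.1 * X.1 := congrArg Subtype.val hZg
  rw [hX] at hZg'
  have e00 := congrFun (congrFun hZg' 0) 0
  have e01 := congrFun (congrFun hZg' 0) 1
  have e10 := congrFun (congrFun hZg' 1) 0
  have e11 := congrFun (congrFun hZg' 1) 1
  simp [Matrix.mul_apply, Fin.sum_univ_two] at e00 e01 e10 e11
  have hz00 : Z.1 0 0 = 1 := mul_right_cancel₀ hc (by linear_combination e00 + e01 - Z.1 0 1 * hrow)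
  have hz10 : Z.1 1 0 = 0 := mul_right_cancel₀ hc (by linear_combination e10 + e11 + (1 - Z.1 1 1) * hrow)
  have hz11 : Z.1 1 1 = 1 := by
    have := det_one Z
    rw [hz00, hz10] at this
    linear_combination this
  have he : Z = upp (Z.1 0 1) := Subtype.ext (by
    rw [upp_val]; exact ext2 (by simp [hz00]) (by simp) (by simp [hz10]) (by simp [hz11]))
  refine finish (Z.1 0 1) (fun h => ?_) (he ▸ hZ ▸ H'.mul_mem (H'.mul_mem hgm hXm) (H'.inv_mem hgm))
  rw [h, upp_zero, hZ, mul_inv_eq_one, mul_eq_left] at he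
  have h00 := congrFun (congrFun (congrArg Subtype.val he) 0) 0
  rw [hX] at h00
  simp at h00

end sl2

variable {F : Type*} [Field F] [Finite F]

local notation "V3" => (Fin 3 → F)

variable {σ : F ≃+* F} {f : (Fin 3 → F) → (Fin 3 → F) → F} (hf : Geo.IsUnitaryForm σ f)
variable {e d v : Fin 3 → F} (hfr : Frame3 f e d v)

include hf in
theorem exists_b (hq : 4 ≤ Nat.card (fixedField σ)) [CharP F 2] :
    ∃ k : F, k ≠ 0 ∧ k / (σ k * σ k) + σ (k / (σ k * σ k)) = 1 := by
  classical
  have : Fintype F := Fintype.ofFinite F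
  set q := Nat.card (fixedField σ) with hqdef
  obtain ⟨g, hg⟩ := IsCyclic.exists_generator (α := Fˣ)
  have hog : orderOf g = q ^ 2 - 1 := by
    rw [orderOf_eq_card_of_forall_mem_zpowers hg, Nat.card_units, card_eq_sq hf.ne_refl hf.involutive]
  set k₀ : F := (g : F) with hk₀
  have h0 : k₀ ≠ 0 := g.ne_zero
  have hσ0 : σ k₀ ≠ 0 := fun h => h0 ((map_eq_zero_iff σ σ.injective).1 h)
  set A := k₀ / (σ k₀ * σ k₀) + σ (k₀ / (σ k₀ * σ k₀)) with hA
  have hA0 : A ≠ 0 := by
    intro h
    rw [hA, map_div₀, map_mul, hf.involutive] at h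
    have h3 : k₀ ^ 3 = (σ k₀) ^ 3 := by
      field_simp at h
      linear_combination h - (σ k₀) ^ 3 * (CharTwo.two_eq_zero : (2 : F) = 0)
    rw [apply_eq_pow hf.ne_refl hf.involutive, ← hqdef, ← pow_mul] at h3
    have h4 : k₀ ^ (q * 3 - 3) = 1 := by
      apply mul_right_cancel₀ (pow_ne_zero 3 h0)
      rw [one_mul, ← pow_add, Nat.sub_add_cancel (by omega), h3]
    rw [hk₀, ← Units.val_pow_eq_pow_val, ← Units.val_one, Units.val_inj] at h4
    have h5 := Nat.le_of_dvd (by omega) (orderOf_dvd_of_pow_eq_one h4)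
    rw [hog] at h5
    have : q ^ 2 ≥ 4 * q := by rw [pow_two]; exact Nat.mul_le_mul_right q hq
    omega
  have hσA : σ A = A := by rw [hA, map_add, hf.involutive, add_comm]
  refine ⟨A * k₀, mul_ne_zero hA0 h0, ?_⟩
  rw [map_mul, hσA, show A * k₀ / (A * σ k₀ * (A * σ k₀)) = (k₀ / (σ k₀ * σ k₀)) / A by field_simp,
    map_div₀, hσA, ← add_div, ← hA, div_self hA0]

/-- The frame matrix. -/
def frameQ (e d v : Fin 3 → F) : Matrix (Fin 3) (Fin 3) F := Matrix.of fun i j => ![e, d, v] j i

/-- The matrix of frame coordinates. -/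
noncomputable def frameW (hf : Geo.IsUnitaryForm σ f) (e d v : Fin 3 → F) : Matrix (Fin 3) (Fin 3) F :=
  LinearMap.toMatrix' (LinearMap.pi ![formH hf d, formH hf e, formH hf v])

omit [Finite F] in
include hf hfr in
theorem exists_frame_elem (A : Matrix (Fin 3) (Fin 3) F) (hA : A.det = 1) :
    ∃ h : GL (Fin 3) F, h ∈ Geo.specialLinear (Fin 3) F ∧ ∀ p r c, mv h (vec e d v p r c) =
      vec e d v (A 0 0 * p + A 0 1 * c + A 0 2 * r) (A 2 0 * p + A 2 1 * c + A 2 2 * r)
        (A 1 0 * p + A 1 1 * c + A 1 2 * r) := by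
  have hW : ∀ p r c, frameW hf e d v *ᵥ vec e d v p r c = ![p, c, r] := fun p r c => by
    rw [frameW, LinearMap.toMatrix'_mulVec]
    funext i
    fin_cases i <;>
      simp [formH_apply, vec, hf.add_left, hf.smul_left, hfr.ee, hfr.dd, hfr.vv, hfr.ed, hfr.de, hfr.ev,
        hfr.ve, hfr.dv, hfr.vd]
  have hQ : ∀ w : Fin 3 → F, frameQ e d v *ᵥ w = vec e d v (w 0) (w 2) (w 1) := fun w => by
    funext i
    simp [frameQ, vec, Matrix.mulVec, dotProduct, Fin.sum_univ_three]
    ring
  have hWQ : frameW hf e d v * frameQ e d v = 1 := by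
    refine Matrix.ext_of_mulVec_single fun j => ?_
    rw [← Matrix.mulVec_mulVec, hQ, hW, Matrix.one_mulVec]
    funext i
    fin_cases i <;> fin_cases j <;> simp
  have hdet : (frameQ e d v * A * frameW hf e d v).det = 1 := by
    rw [det_mul, det_mul, hA, mul_one, mul_comm, ← det_mul, hWQ, Matrix.det_one]
  refine ⟨GeneralLinearGroup.mkOfDetNeZero _ (by rw [hdet]; exact one_ne_zero),
    MonoidHom.mem_ker.2 (Units.ext hdet), fun p r c => ?_⟩
  show (frameQ e d v * A * frameW hf e d v) *ᵥ _ = _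
  rw [← Matrix.mulVec_mulVec, hW, ← Matrix.mulVec_mulVec, hQ]
  simp only [Matrix.mulVec, dotProduct, Fin.sum_univ_three]
  rfl

include hf hfr in
theorem even_generation [CharP F 2] (hq3 : 3 ≤ Nat.card (fixedField σ)) :
    ∃ b, b + σ b + 1 * σ 1 = 0 ∧
      ∃ g ∈ preserving (Units.coeHom (Matrix (Fin 3) (Fin 3) F)) f ⊓ Geo.specialLinear (Fin 3) F,
      ∀ M : Subgroup (GL (Fin 3) F), uni hf hfr 1 b ∈ M → g * uni hf hfr 1 b * g⁻¹ ∈ M →
        preserving (Units.coeHom (Matrix (Fin 3) (Fin 3) F)) f ⊓ Geo.specialLinear (Fin 3) F ≤ M := by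
  classical
  have : Fintype F := Fintype.ofFinite F
  have : Fintype (fixedField σ) := Fintype.ofFinite _
  have : CharP (fixedField σ) 2 :=
    (RingHom.charP_iff (fixedField σ).subtype Subtype.val_injective 2).mpr ‹_›
  have h20 : (2 : F) = 0 := CharTwo.two_eq_zero
  have hq4 : 4 ≤ Nat.card (fixedField σ) := by
    obtain ⟨n, -, hn⟩ := FiniteField.card (fixedField σ) 2
    rw [Nat.card_eq_fintype_card] at hq3 ⊢
    rw [hn] at hq3 ⊢
    rcases Nat.lt_or_ge (n : ℕ) 2 with h | h
    · interval_cases (n : ℕ) <;> omega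
    · exact le_trans (by norm_num) (Nat.pow_le_pow_right (by norm_num) h)
  obtain ⟨k, hk0, hk⟩ := exists_b hf hq4
  have hσk0 : σ k ≠ 0 := fun h => hk0 ((map_eq_zero_iff σ σ.injective).1 h)
  set b := k / (σ k * σ k) with hbdef
  have hb0 : b ≠ 0 := div_ne_zero hk0 (mul_ne_zero hσk0 hσk0)
  have hσb0 : σ b ≠ 0 := fun h => hb0 ((map_eq_zero_iff σ σ.injective).1 h)
  have hb' : b + σ b + 1 * σ 1 = 0 := by rw [map_one, hk]; linear_combination h20
  have hνk : b * σ b = (k * σ k)⁻¹ := by
    rw [hbdef, map_div₀, map_mul, hf.involutive]; field_simp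
  set ν := b * σ b with hνdef
  have hν0 : ν ≠ 0 := mul_ne_zero hb0 hσb0
  have hσν : σ ν = ν := by rw [hνdef, map_mul, hf.involutive, mul_comm]
  -- a generator of the fixed field
  obtain ⟨ρ, hρ⟩ := IsCyclic.exists_generator (α := (fixedField σ)ˣ)
  set rK : fixedField σ := (ρ : fixedField σ) with hrK
  set lam : fixedField σ := rK + rK⁻¹ with hlam
  have hρne : rK ≠ 1 := fun h => by
    have hone : ρ = 1 := Units.ext h
    have : Nat.card (fixedField σ)ˣ = 1 := by
      rw [← orderOf_eq_card_of_forall_mem_zpowers hρ, hone, orderOf_one]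
    rw [Nat.card_units] at this
    omega
  have hρ0 : rK ≠ 0 := ρ.ne_zero
  have hl0 : lam ≠ 0 := fun h => hρne (by
    have h2 : (rK - 1) ^ 2 = 0 := by
      rw [hlam] at h
      field_simp at h
      linear_combination h - rK * (CharTwo.two_eq_zero : (2 : fixedField σ) = 0)
    exact sub_eq_zero.1 (pow_eq_zero_iff (n := 2) (by norm_num) |>.1 h2))
  obtain ⟨τK, hτK⟩ := (Finite.injective_iff_surjective.1 (frobenius_inj (fixedField σ) 2)) lam
  rw [frobenius_def] at hτK
  set τ : F := (τK : F) with hτ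
  have hστ : σ τ = τ := τK.2
  have hτ0 : τ ≠ 0 := fun h => hl0 (by
    rw [← hτK, show τK = 0 from Subtype.ext h]; simp)
  have hτν : τ * ν ≠ 1 := by
    intro h
    set ω := b / σ b with hω
    have hω0 : ω ≠ 0 := div_ne_zero hb0 hσb0
    have hσω : σ ω = ω⁻¹ := by rw [hω, map_div₀, hf.involutive, inv_div]
    have hτω : τ = ω + ω⁻¹ := by
      have h1 : ω + ω⁻¹ = 1 / ν := by
        rw [hω, hνdef, inv_div]
        field_simp
        linear_combination (b + σ b + 1) * hk - b * σ b * h20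
      rw [h1, eq_div_iff hν0, h]
    have hr0 : (rK : F) ≠ 0 := fun h => hρ0 (Subtype.ext h)
    have h2 : (rK : F) + (rK : F)⁻¹ = ω ^ 2 + (ω ^ 2)⁻¹ := by
      have h3 := congrArg Subtype.val hτK
      rw [SubmonoidClass.coe_pow, hlam, Subfield.coe_add, Subfield.coe_inv, ← hτ, hτω] at h3
      rw [← h3, CharTwo.add_sq, inv_pow]
    have hfix : σ (rK : F) = (rK : F) := rK.2
    have h4 : ((rK : F) - ω ^ 2) * ((rK : F) * ω ^ 2 - 1) = 0 := by
      field_simp at h2
      linear_combination h2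
    have h5 : (rK : F) * (rK : F) = 1 := by
      rcases mul_eq_zero.1 h4 with h5 | h5
      · have h6 := sub_eq_zero.1 h5
        have h7 := congrArg σ h6
        rw [hfix, map_pow, hσω] at h7
        nth_rw 1 [h6]
        rw [h7, ← mul_pow, mul_inv_cancel₀ hω0, one_pow]
      · have h6 : (rK : F) = (ω ^ 2)⁻¹ := eq_inv_of_mul_eq_one_left (sub_eq_zero.1 h5)
        have h7 := congrArg σ h6
        rw [hfix, map_inv₀, map_pow, hσω, inv_pow, inv_inv] at h7
        nth_rw 1 [h6]
        rw [h7, inv_mul_cancel₀ (pow_ne_zero _ hω0)]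
    apply hρne
    have h8 : ((rK : F) - 1) ^ 2 = 0 := by linear_combination h5 + (1 - (rK : F)) * h20
    exact Subtype.ext (sub_eq_zero.1 (pow_eq_zero_iff (n := 2) (by norm_num) |>.1 h8))
  -- the conjugating elements
  set r := τ * ν + 1 with hr
  have hσr : σ r = r := by rw [hr, map_add, map_mul, hστ, hσν, map_one]
  obtain ⟨a₂, ha₂⟩ := exists_trace hf.ne_refl hf.involutive r hσr
  obtain ⟨b₂, hb₂⟩ := exists_trace hf.ne_refl hf.involutive (-(a₂ * σ a₂))
    (by rw [map_neg, map_mul, hf.involutive, mul_comm])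
  set g₀ := uni hf hfr a₂ b₂ with hg₀
  have hg₀S := uni_mem hf hfr a₂ b₂ (by linear_combination hb₂)
  set m := σ k / k with hm
  obtain ⟨h, hhdet, hh⟩ := exists_frame_elem hf hfr !![0, (σ k)⁻¹, 0; k, 0, 0; 0, 0, m] (by
    rw [Matrix.det_fin_three]
    simp [hm]
    field_simp
    linear_combination (-(1 : F)) * h20)
  simp at hh
  set S := preserving (Units.coeHom (Matrix (Fin 3) (Fin 3) F)) f ⊓ Geo.specialLinear (Fin 3) F with hS
  have hhS : h ∈ S := by
    refine ⟨?_, hhdet⟩
    show ∀ x y, f (mv h x) (mv h y) = f x y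
    intro x y
    obtain ⟨a1, b1, c1, rfl⟩ := exists_vec hf hfr x
    obtain ⟨a2, b2, c2, rfl⟩ := exists_vec hf hfr y
    rw [hh, hh, f_vec hf hfr, f_vec hf hfr]
    simp only [map_mul, map_inv₀, map_div₀, hm, hf.involutive]
    field_simp
    ring
  set u := uni hf hfr 1 b with hudef
  have huS : u ∈ S := uni_mem hf hfr 1 b hb'
  refine ⟨b, hb', h * g₀, S.mul_mem hhS hg₀S, fun M hu hv => ?_⟩
  set v2 := h * g₀ * u * (h * g₀)⁻¹ with hv2
  have hv2S : v2 ∈ S :=
    S.mul_mem (S.mul_mem (S.mul_mem hhS hg₀S) huS) (S.inv_mem (S.mul_mem hhS hg₀S))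
  have hgu : g₀ * u * g₀⁻¹ = uni hf hfr 1 (b + r) := by
    rw [mul_inv_eq_iff_eq_mul, hg₀, hudef, uni_mul hf hfr, uni_mul hf hfr, map_one]
    congr 1
    · ring
    · linear_combination ha₂ + (-σ a₂) * h20
  have hu2 : u * u = htv hf e hfr.ee 1 := by
    rw [hudef, uni_mul hf hfr, ← uni_zero_eq_htv hf hfr, map_one]
    congr 1
    · linear_combination h20
    · linear_combination (b - 1) * h20
  have hg₀f : ∀ x y, f (mv g₀ x) (mv g₀ y) = f x y := fun x y => hg₀S.1 x y
  have hhf : ∀ x y, f (mv h x) (mv h y) = f x y := fun x y => hhS.1 x y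
  have huf : ∀ x y, f (mv u x) (mv u y) = f x y := fun x y => huS.1 x y
  have hv2f : ∀ x y, f (mv v2 x) (mv v2 y) = f x y := fun x y => hv2S.1 x y
  have hge : mv g₀ e = e := by
    have := uni_vec hf hfr a₂ b₂ 1 0 0
    simpa [vec, hg₀] using this
  have hhe : mv h e = k • d := by
    have := hh 1 0 0
    simpa [vec] using this
  set t : F := ν⁻¹ with ht
  have ht0 : t ≠ 0 := inv_ne_zero hν0
  have hσt : σ t = -t := by rw [ht, map_inv₀, hσν]; linear_combination ν⁻¹ * h20
  have hσ1 : σ (1 : F) = -1 := by rw [map_one]; linear_combination h20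
  have hdM : htv hf d hfr.dd t ∈ M := by
    have h1 : v2 * v2 ∈ M := M.mul_mem hv hv
    rw [hv2, show h * g₀ * u * (h * g₀)⁻¹ * (h * g₀ * u * (h * g₀)⁻¹) = h * g₀ * (u * u) * (h * g₀)⁻¹ by group,
      hu2, show h * g₀ * htv hf e hfr.ee 1 * (h * g₀)⁻¹ = h * (g₀ * htv hf e hfr.ee 1 * g₀⁻¹) * h⁻¹ by group,
      htv_conj hf hg₀f] at h1
    simp only [hge] at h1
    rw [htv_conj hf hhf] at h1
    simp only [hhe] at h1
    rw [htv_smul hf d hfr.dd k 1, mul_one, ← inv_inv (k * σ k), ← hνk] at h1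
    exact h1
  -- the three centres
  set x := mv u d with hx
  have hxv : x = vec e d v b 1 1 := by
    have hd : mv u d = mv u (vec e d v 0 0 1) := by simp [vec]
    rw [hx, hd, hudef, uni_vec hf hfr]
    congr 1 <;> simp [vec]
  have hx0 : f x x = 0 := (huf d d).trans hfr.dd
  have hxM : htv hf x hx0 t ∈ M := by
    rw [← htv_conj hf huf d hfr.dd t]
    exact M.mul_mem (M.mul_mem hu hdM) (M.inv_mem hu)
  set y := mv v2 e with hy
  have hy0 : f y y = 0 := (hv2f e e).trans hfr.ee
  have hyM : htv hf y hy0 1 ∈ M := by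
    rw [← htv_conj hf hv2f e hfr.ee 1]
    exact M.mul_mem (M.mul_mem hv (hu2 ▸ M.mul_mem hu hu)) (M.inv_mem hv)
  have hyv : y = vec e d v 1 (1 / b) (1 / b + τ) := by
    have hinv : mv h⁻¹ e = vec e d v 0 0 (σ k) := by
      rw [mv_eq_iff, inv_inv, hh]
      simp [vec, hσk0]
    rw [hy, hv2, show h * g₀ * u * (h * g₀)⁻¹ = h * (g₀ * u * g₀⁻¹) * h⁻¹ by group, hgu, mv_mul, mv_mul,
      hinv, uni_vec hf hfr, hh]
    have hkk : k * σ k = ν⁻¹ := by rw [hνk, inv_inv]
    congr 1
    · simp [hσk0]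
    · simp only [zero_add, zero_mul, mul_one, hm, hbdef]
      field_simp
    · simp only [mul_zero, sub_zero, zero_add, hr]
      rw [show k * (σ k * (b + (τ * ν + 1)) - 0 * σ 1) = (k * σ k) * (b + τ * ν + 1) by ring, hkk]
      rw [hνdef]
      field_simp
      linear_combination hk - σ b * h20 + h20
  have hyx : f y x = τ * σ b := by
    rw [hyv, hxv, f_vec hf hfr, map_one]
    field_simp
    linear_combination hk + h20
  have hyx0 : f y x ≠ 0 := hyx ▸ mul_ne_zero hτ0 hσb0
  set φ := pairHom hf hx0 hy0 hyx0 hσt ht0 with hφ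
  set H := M.comap φ with hH
  set n : fixedField σ := ⟨t, mem_fixedField.2 (by rw [ht, map_inv₀, hσν])⟩ with hn
  have hτK0 : τK ≠ 0 := fun h => hτ0 (congrArg Subtype.val h)
  let J : Matrix.SpecialLinearGroup (Fin 2) (fixedField σ) :=
    ⟨!![1 + n / τK, n; n / (τK * τK), 1 + n / τK], by
      rw [Matrix.det_fin_two_of]
      field_simp
      linear_combination (n * τK) * (CharTwo.two_eq_zero : (2 : fixedField σ) = 0)⟩
  have h1 : low 1 ∈ H := by
    show φ (low 1) ∈ M
    rw [hφ, pairHom_low, OneMemClass.coe_one, one_mul]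
    exact hxM
  have hτ2 : (lam : F) = τ * τ := by rw [← hτK, SubmonoidClass.coe_pow, ← hτ, pow_two]
  have h2 : upp lam ∈ H := by
    show φ (upp lam) ∈ M
    rw [hφ, pairHom_upp, hτ2, hyx, map_mul, hf.involutive, hστ, ht,
      show τ * τ / (ν⁻¹ * (τ * σ b * (τ * b))) = 1 by rw [hνdef]; field_simp]
    exact hyM
  have hpk : pk f x y t = b / τ := by
    rw [pk, hyx, ht, hνdef]; field_simp
  have hdz : d = (1 / b) • ((b / τ) • y) + (1 / (b * τ)) • x := by
    rw [hyv, hxv]
    simp only [vec, smul_add, smul_smul]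
    match_scalars <;> field_simp <;>
      first | ring1 | linear_combination (-1 : F) * h20 | linear_combination (1 : F) * h20 |
        linear_combination b * h20 | linear_combination -b * h20 | linear_combination -(b * τ) * h20 |
        linear_combination τ * h20 | linear_combination -τ * h20
  have hJ : J ∈ H := by
    show φ J ∈ M
    convert hdM using 1
    refine ext_mv fun w => ?_
    rw [hφ, pairHom, mv_embed2, pW_mulVec, pU_mulVec, mv_htv]
    have hwd : f w d = σ (1 / b) * (σ (b / τ) * f w y) + σ (1 / (b * τ)) * f w x := by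
      conv_lhs => rw [hdz, add_right hf, smul_right hf, smul_right hf, smul_right hf]
    rw [hpk, hwd]
    conv_rhs => rw [hdz]
    simp [J, Matrix.mulVec, dotProduct, Fin.sum_univ_two, Matrix.one_apply]
    simp only [smul_right hf, map_div₀, hστ, hn, ht, hνdef, ← hτ]
    match_scalars <;> field_simp <;>
      first | ring1 | linear_combination (f w y * σ b) * h20 | linear_combination (f w y) * h20 |
        linear_combination -(f w y * σ b) * h20 | linear_combination -(f w y) * h20
  have htop : H = ⊤ := by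
    refine sl2_top hρ hlam hl0 h1 h2 hJ rfl (fun h => ?_) ?_
    · have h01 := congrFun (congrFun (congrArg Subtype.val h) 0) 1
      simp [J] at h01
      exact ht0 (congrArg Subtype.val h01)
    · intro h0
      apply hτν
      rw [Matrix.SpecialLinearGroup.coe_mul, Matrix.SpecialLinearGroup.coe_mul, Matrix.trace_fin_two] at h0
      simp [J, Matrix.mul_apply, Matrix.vecMul, dotProduct, Fin.sum_univ_two, low_val, upp_val] at h0
      have h0' : lam * (1 + n / τK) = 0 := by
        rw [← hτK] at h0 ⊢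
        field_simp at h0 ⊢
        apply mul_left_cancel₀ hτK0
        linear_combination h0 - (τK + n + n * τK) * (CharTwo.two_eq_zero : (2 : fixedField σ) = 0)
      have h1' := (mul_eq_zero.1 h0').resolve_left hl0
      have h2' : 1 + t / τ = 0 := congrArg Subtype.val h1'
      rw [ht] at h2'
      field_simp at h2'
      linear_combination h2' - h20
  have hxF : Full M hf x := ⟨hx0, fun c hc => by
    let c' : fixedField σ := ⟨c / t, mem_fixedField.2 (by rw [map_div₀, hc, hσt, neg_div_neg_eq])⟩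
    have h : φ (low c') ∈ M := (htop ▸ Subgroup.mem_top (low c') : low c' ∈ H)
    rw [hφ, pairHom_low, show (c' : F) * t = c from div_mul_cancel₀ c ht0] at h
    exact h⟩
  have hdF : Full M hf d :=
    (hxF.conj hf (M.inv_mem hu) fun x y => (S.inv_mem huS).1 x y).of_eq hf (by rw [hx, mv_inv_mv])
  have heM : htv hf e hfr.ee 1 ∈ M := hu2 ▸ M.mul_mem hu hu
  have hD := hdF.conj hf heM (htv_mem hf e hfr.ee hσ1)
  refine su_le_of_three hf hq3 hdF hxF hD ?_ ?_ ?_
  · rw [hxv]
    simpa [vec, add_right hf, smul_right hf, hfr.de, hfr.dd, hfr.dv] using hσb0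
  · rw [mv_htv, hf.add_left, hf.smul_left, hfr.de, hfr.ed, hfr.dd]; simp
  · intro α β hab
    rw [mv_htv, hfr.de, hxv] at hab
    have he := congrArg (fun x => f x d) hab
    have hv1 := congrArg (fun x => f x v) hab
    simp [vec, hf.add_left, hf.smul_left, hfr.ee, hfr.dd, hfr.ed, hfr.ev, hfr.ve, hfr.dv,
      hfr.vd, hfr.vv] at he hv1
    simp [← hv1] at he

end Cfsg.Agent.SU3Regular
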