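/-
Odd characteristic: two conjugate regular unipotent elements generate SU_3.
-/
import Cfsg.Agent.Lib.Generation.SU3Pair

set_option autoImplicit false

namespace Cfsg.Agent.SU3Regular

open scoped Matrix
open Matrix Cfsg.Agent.Transvec Cfsg.Agent.Transvec.Herm Cfsg.Agent.UnitaryGen

variable {F : Type*} [Field F] [Finite F]

local notation "V3" => (Fin 3 → F)

variable {σ : F ≃+* F} {f : (Fin 3 → F) → (Fin 3 → F) → F} (hf : Geo.IsUnitaryForm σ f)

include hf in
theorem exists_eta (hodd : Odd (Nat.card (fixedField σ))) :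
    ∃ η : F, η ≠ 0 ∧ σ η = -η⁻¹ ∧ orderOf (η ^ 2) = Nat.card (fixedField σ) + 1 := by
  classical
  have : Fintype F := Fintype.ofFinite F
  set q := Nat.card (fixedField σ) with hq
  have hq1 : 1 < q := Finite.one_lt_card
  obtain ⟨g, hg⟩ := IsCyclic.exists_generator (α := Fˣ)
  have hog : orderOf g = q ^ 2 - 1 := by
    rw [orderOf_eq_card_of_forall_mem_zpowers hg, Nat.card_units, card_eq_sq hf.ne_refl hf.involutive]
  obtain ⟨m, hm⟩ := hodd
  have hprod : q ^ 2 - 1 = m * (2 * (q + 1)) := by
    have : q ^ 2 = m * (2 * (q + 1)) + 1 := by rw [hm]; ring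
    omega
  have hm0 : m ≠ 0 := by omega
  have ho : orderOf (g ^ m) = 2 * (q + 1) := by
    rw [orderOf_pow_of_dvd hm0 (by rw [hog, hprod]; exact dvd_mul_right m _), hog, hprod,
      Nat.mul_div_cancel_left _ (by omega)]
  set e := g ^ m with he
  refine ⟨(e : F), Units.ne_zero _, ?_, ?_⟩
  · have h2 : e ^ (q + 1) ≠ 1 := fun h => by
      have := orderOf_dvd_of_pow_eq_one h
      rw [ho] at this
      have := Nat.le_of_dvd (by omega) this
      omega
    have h3 : ((e : F) ^ (q + 1)) ^ 2 = 1 := by
      rw [← pow_mul, mul_comm, ← ho, ← Units.val_pow_eq_pow_val, pow_orderOf_eq_one, Units.val_one]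
    rcases sq_eq_one_iff.1 h3 with h | h
    · exact absurd (Units.ext (by rw [Units.val_pow_eq_pow_val, h, Units.val_one])) h2
    · rw [apply_eq_pow hf.ne_refl hf.involutive, ← hq, neg_inv]
      refine eq_inv_of_mul_eq_one_left ?_
      rw [mul_neg, ← pow_succ, h, neg_neg]
  · rw [← Units.val_pow_eq_pow_val, orderOf_units, orderOf_pow_of_dvd (by norm_num) (by rw [ho]; exact dvd_mul_right 2 _),
      ho, Nat.mul_div_cancel_left _ (by norm_num)]

include hf in
theorem norm_one_ne {ω : F} (ho : orderOf ω = Nat.card (fixedField σ) + 1) {a : F} (ha : σ a = a)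
    (hω : σ ω = ω⁻¹) : ω ≠ a := by
  intro h
  subst h
  have h1 : 1 < Nat.card (fixedField σ) := Finite.one_lt_card
  have hω0 : ω ≠ 0 := fun h0 => by
    rw [h0, orderOf_eq_zero_iff'.2 (fun n hn => by simp [zero_pow hn.ne'])] at ho
    omega
  have h2 : ω ^ 2 = 1 := by
    rw [ha] at hω
    rw [pow_two]
    nth_rw 2 [hω]
    exact mul_inv_cancel₀ hω0
  have := Nat.le_of_dvd (by norm_num) (orderOf_dvd_of_pow_eq_one h2)
  omega

include hf in
/-- A subfield containing the trace of an element of order q+1 is everything. -/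
theorem eq_top_of_trace_mem (p : ℕ) [Fact p.Prime] [CharP F p] {ω : F}
    (ho : orderOf ω = Nat.card (fixedField σ) + 1) {e : fixedField σ} (he : (e : F) = ω + ω⁻¹)
    (R : Subfield (fixedField σ)) (hR : e ∈ R) : R = ⊤ := by
  classical
  have : Fintype R := Fintype.ofFinite R
  have : Fintype (fixedField σ) := Fintype.ofFinite _
  have : CharP (fixedField σ) p :=
    (RingHom.charP_iff (fixedField σ).subtype Subtype.val_injective p).mpr ‹_›
  have : CharP R p := (RingHom.charP_iff R.subtype Subtype.val_injective p).mpr ‹_›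
  obtain ⟨j, -, hj⟩ := FiniteField.card R p
  set r := Fintype.card R with hr
  have hω0 : ω ≠ 0 := fun h0 => by
    rw [h0, orderOf_eq_zero_iff'.2 (fun n hn => by simp [zero_pow hn.ne'])] at ho
    omega
  have hpw : (e : F) ^ r = e := by
    have := congrArg (fun x : R => ((x : fixedField σ) : F)) (FiniteField.pow_card (⟨e, hR⟩ : R))
    exact this
  rw [he, hj, add_pow_char_pow, inv_pow, ← hj] at hpw
  have hwr : ω ^ r ≠ 0 := pow_ne_zero _ hω0
  have hle : Nat.card (fixedField σ) ≤ r := by
    have h : (ω ^ r - ω) * (ω ^ r * ω - 1) = 0 := by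
      field_simp at hpw
      linear_combination hpw
    rcases mul_eq_zero.1 h with h | h
    · have h1 : ω ^ (r - 1) = 1 := by
        apply mul_left_cancel₀ hω0
        rw [mul_one, ← pow_succ', Nat.sub_add_cancel Fintype.card_pos, ← hr, sub_eq_zero.1 h]
      have h2 : 1 < r := Fintype.one_lt_card
      have := Nat.le_of_dvd (by omega) (orderOf_dvd_of_pow_eq_one h1)
      omega
    · have h1 : ω ^ (r + 1) = 1 := by rw [pow_succ]; exact sub_eq_zero.1 h
      have := Nat.le_of_dvd (by omega) (orderOf_dvd_of_pow_eq_one h1)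
      omega
  rw [eq_top_iff]
  rintro x -
  have hb : Function.Bijective (R.subtype : R → fixedField σ) := by
    refine (Fintype.bijective_iff_injective_and_card _).2 ⟨Subtype.val_injective, le_antisymm ?_ ?_⟩
    · exact Fintype.card_le_of_injective _ Subtype.val_injective
    · rwa [← Nat.card_eq_fintype_card]
  obtain ⟨y, rfl⟩ := hb.2 x
  exact y.2

variable {e d v : Fin 3 → F} (hfr : Frame3 f e d v)

include hf hfr in
theorem htv_sq (h2 : (2 : F) ≠ 0) (b s : F) (hb : b + σ b = -1) (hs : σ s = -s) (hsn : s * s * (b * σ b) = 4)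
    {c' z : V3} (hc : c' = vec e d v (σ b) (-1) 1) (hz : z = (s * σ b) • d + (2 : F) • c')
    (hc0 : f c' c' = 0) (hz0 : f z z = 0) :
    (htv hf d hfr.dd s * htv hf c' hc0 (-s)) * (htv hf d hfr.dd s * htv hf c' hc0 (-s)) =
      htv hf z hz0 (s / 2) := by
  refine ext_mv fun w => ?_
  have hcd : f c' d = σ b := by
    simp [hc, vec, hf.add_left, hf.smul_left, hfr.ed, hfr.vd, hfr.dd, neg_left hf]
  have hdc : f d c' = b := by rw [hf.herm, hcd, hf.involutive]
  have hwz : f w z = -(s * b) * f w d + 2 * f w c' := by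
    rw [hz, add_right hf, smul_right hf, smul_right hf, map_mul, hs, hf.involutive, map_ofNat]
    ring
  simp only [mv_mul, mv_htv, hwz]
  subst hz
  simp only [hf.add_left, hf.smul_left, hcd, hdc, hc0, hfr.dd, mul_zero, add_zero]
  match_scalars <;> field_simp <;>
    first | ring1 | linear_combination (f w c' * s) * hsn | linear_combination -(f w c' * s) * hsn |
      linear_combination (f w c') * hsn | linear_combination -(f w c') * hsn |
      linear_combination (-(s * f w d) + 2 * s ^ 2 * f w c' * σ b) * hsn |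
      linear_combination (-(f w d) + 2 * s * f w c' * σ b) * hsn

include hf hfr in
theorem odd_generation (p : ℕ) [Fact p.Prime] [CharP F p] (hp : p ≠ 2) :
    ∃ b, b + σ b + 1 * σ 1 = 0 ∧ ∃ s, σ s = -s ∧
      ∀ M : Subgroup (GL (Fin 3) F), uni hf hfr 1 b ∈ M →
        htv hf d hfr.dd s * uni hf hfr 1 b * (htv hf d hfr.dd s)⁻¹ ∈ M →
        preserving (Units.coeHom (Matrix (Fin 3) (Fin 3) F)) f ⊓ Geo.specialLinear (Fin 3) F ≤ M := by
  classical
  have hpp : p.Prime := Fact.out
  have : CharP (fixedField σ) p :=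
    (RingHom.charP_iff (fixedField σ).subtype Subtype.val_injective p).mpr ‹_›
  have hodd : Odd (Nat.card (fixedField σ)) := by
    have := Fintype.ofFinite (fixedField σ)
    obtain ⟨n, -, hn⟩ := FiniteField.card (fixedField σ) p
    rw [Nat.card_eq_fintype_card, hn]
    exact (hpp.odd_of_ne_two hp).pow
  have hq3 : 3 ≤ Nat.card (fixedField σ) := by
    have : 1 < Nat.card (fixedField σ) := Finite.one_lt_card
    obtain ⟨m, hm⟩ := hodd
    omega
  have h2 : (2 : F) ≠ 0 := Ring.two_ne_zero (by rw [ringChar.eq F p]; exact hp)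
  obtain ⟨η, hη0, hση, ho⟩ := exists_eta hf hodd
  set ω := η ^ 2 with hω
  have hω0 : ω ≠ 0 := pow_ne_zero _ hη0
  have hσω : σ ω = ω⁻¹ := by rw [hω, map_pow, hση, neg_sq, inv_pow]
  have hne : ∀ a : F, σ a = a → ω ≠ a := fun a ha => norm_one_ne hf ho ha hσω
  have h1ω : 1 + ω ≠ 0 := fun h => hne (-1) (by rw [map_neg, map_one]) (by linear_combination h)
  have h1η : 1 + η ^ 2 ≠ 0 := h1ω
  have h1ω' : ω + 1 ≠ 0 := by rwa [add_comm]
  have h1η' : η ^ 2 + 1 ≠ 0 := h1ω'
  set b := -1 / (1 + ω) with hbdef
  have hσb : σ b = -ω / (1 + ω) := by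
    rw [hbdef, map_div₀, map_neg, map_add, map_one, hσω]; field_simp; ring
  have hb : b + σ b = -1 := by rw [hσb, hbdef, ← add_div, div_eq_iff h1ω]; ring
  set s := 2 * (1 + ω) / η with hsdef
  have hσs : σ s = -s := by
    rw [hsdef, map_div₀, map_mul, map_add, map_one, map_ofNat, hσω, hση, hω]; field_simp; ring
  have hsn : s * s * (b * σ b) = 4 := by
    rw [hσb, hbdef, hsdef, hω]; field_simp; ring
  have hb' : b + σ b + 1 * σ 1 = 0 := by rw [map_one]; linear_combination hb
  refine ⟨b, hb', s, hσs, fun M hu hv => ?_⟩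
  set u := uni hf hfr 1 b with hudef
  set S := preserving (Units.coeHom (Matrix (Fin 3) (Fin 3) F)) f ⊓ Geo.specialLinear (Fin 3) F
  have huS : u ∈ S := uni_mem hf hfr 1 b hb'
  have huf : ∀ x y, f (mv u x) (mv u y) = f x y := fun x y => huS.1 x y
  have huf' : ∀ x y, f (mv u⁻¹ x) (mv u⁻¹ y) = f x y := fun x y => (S.inv_mem huS).1 x y
  have huinv : u⁻¹ = uni hf hfr (-1) (σ b) := uni_inv hf hfr 1 b hb'
  set c' := mv u⁻¹ d with hcdef
  have hc : c' = vec e d v (σ b) (-1) 1 := by
    have hd : mv u⁻¹ d = mv u⁻¹ (vec e d v 0 0 1) := by simp [vec]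
    rw [hcdef, hd, huinv, uni_vec hf hfr]
    congr 1 <;> simp [vec] <;> ring
  have hc0 : f c' c' = 0 := (huf' d d).trans hfr.dd
  set z := (s * σ b) • d + (2 : F) • c' with hzdef
  have hz : z = vec e d v (2 * σ b) (-2) (2 - 2 * η) := by
    rw [hzdef, hc]
    simp only [vec]
    match_scalars
    · rw [hσb, hsdef, hω]; field_simp; ring
    · ring
    · ring
  have hz0 : f z z = 0 := by
    rw [hz, f_vec hf hfr, map_sub, map_mul, map_mul, map_neg, map_ofNat, hf.involutive, hση, hσb, hbdef, hω]
    field_simp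
    ring
  set t := s / 2 with htdef
  have hσt : σ t = -t := by rw [htdef, map_div₀, hσs, map_ofNat, neg_div]
  have ht : t = (1 + ω) / η := by rw [htdef, hsdef]; field_simp
  have ht0 : t ≠ 0 := ht ▸ div_ne_zero h1ω hη0
  -- the transvection
  have hzM : htv hf z hz0 t ∈ M := by
    have hinv : (htv hf d hfr.dd s)⁻¹ = htv hf d hfr.dd (-s) :=
      inv_eq_of_mul_eq_one_right (by rw [htv_add, add_neg_cancel, htv_zero])
    have hx : u⁻¹ * (htv hf d hfr.dd s * u * (htv hf d hfr.dd s)⁻¹) =
        htv hf c' hc0 s * htv hf d hfr.dd (-s) := by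
      rw [hinv, ← htv_conj hf huf' d hfr.dd s, inv_inv]
      group
    have hxM := hx ▸ M.mul_mem (M.inv_mem hu) hv
    have hxM' := M.inv_mem hxM
    rw [_root_.mul_inv_rev, ← hinv, inv_inv, show (htv hf c' hc0 s)⁻¹ = htv hf c' hc0 (-s) from
      inv_eq_of_mul_eq_one_right (by rw [htv_add, add_neg_cancel, htv_zero])] at hxM'
    rw [htdef, ← htv_sq hf hfr h2 b s hb hσs hsn hc hzdef hc0 hz0]
    exact M.mul_mem hxM' hxM'
  set y := mv u z with hydef
  have hy0 : f y y = 0 := (huf z z).trans hz0
  have hyM : htv hf y hy0 t ∈ M := by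
    rw [← htv_conj hf huf z hz0 t]
    exact M.mul_mem (M.mul_mem hu hzM) (M.inv_mem hu)
  have hy : y = vec e d v (2 * σ b + (2 - 2 * η) * b - (-2) * σ 1) (-2 + (2 - 2 * η) * 1) (2 - 2 * η) := by
    rw [hydef, hz, uni_vec hf hfr]
  set φ := f y z with hφdef
  have hφ : φ = 4 * η * (3 + ω) / (1 + ω) := by
    rw [hφdef, hy, hz, f_vec hf hfr, map_sub, map_mul, map_mul, map_neg, map_one, map_ofNat, hf.involutive,
      hση, hσb, hbdef, hω]
    field_simp
    ring
  have hσφ : σ φ = -4 * (3 * ω + 1) / (η * (1 + ω)) := by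
    rw [hφ, map_div₀, map_mul, map_mul, map_add, map_add, map_one, map_ofNat, map_ofNat, hσω, hση, hω]
    field_simp
    ring
  have hk3 : σ (3 : F) = 3 := map_ofNat σ 3
  have hn1 : 3 + ω ≠ 0 := fun h => hne (-3) (by rw [map_neg, hk3]) (by linear_combination h)
  have hn2 : 3 * ω + 1 ≠ 0 := by
    intro h
    by_cases h3 : (3 : F) = 0
    · rw [h3, zero_mul, zero_add] at h
      exact one_ne_zero h
    · exact hne (-(1 / 3)) (by rw [map_neg, map_div₀, map_one, hk3]) (by field_simp; linear_combination h)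
  have h4 : (4 : F) ≠ 0 := by rw [show (4 : F) = 2 * 2 by norm_num]; exact mul_ne_zero h2 h2
  have hφ0 : φ ≠ 0 := by rw [hφ]; exact div_ne_zero (mul_ne_zero (mul_ne_zero h4 hη0) hn1) h1ω
  set ee : fixedField σ := ⟨ω + ω⁻¹, mem_fixedField.2 (by rw [map_add, map_inv₀, hσω, inv_inv, add_comm])⟩
    with hee
  set E : fixedField σ := ee + 2 with hE
  have hEv : (E : F) = (1 + ω) ^ 2 / ω := by
    rw [hE, Subfield.coe_add, hee]
    show ω + ω⁻¹ + ((2 : fixedField σ) : F) = _
    rw [show ((2 : fixedField σ) : F) = 2 from map_ofNat (fixedField σ).subtype 2]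
    field_simp
    ring
  have hgenE : ∀ R : Subfield (fixedField σ), E ∈ R → R = ⊤ := fun R hR =>
    eq_top_of_trace_mem hf p ho (e := ee) rfl R (by
      have := R.sub_mem hR (natCast_mem R 2)
      rwa [hE, Nat.cast_ofNat, add_sub_cancel_right] at this)
  obtain ⟨hz', hy'⟩ : Full M hf z ∧ Full M hf y := by
    by_cases hp3 : p = 3
    · subst hp3
      have h30 : (3 : F) = 0 := by exact_mod_cast CharP.cast_eq_zero F 3
      have h30' : (3 : fixedField σ) = 0 := by exact_mod_cast CharP.cast_eq_zero (fixedField σ) 3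
      have hu3 : u * (u * u) = 1 := by
        rw [hudef, uni_mul hf hfr, uni_mul hf hfr, ← uni_zero hf hfr, map_one]
        congr 1
        · linear_combination h30
        · linear_combination (b - 1) * h30
      set w := mv u y with hwdef
      have hw0 : f w w = 0 := (huf y y).trans hy0
      have hwM : htv hf w hw0 t ∈ M := by
        rw [← htv_conj hf huf y hy0 t]
        exact M.mul_mem (M.mul_mem hu hyM) (M.inv_mem hu)
      have huw : mv u w = z := by
        rw [hwdef, hydef, ← mv_mul, ← mv_mul, mul_assoc, hu3, mv_one]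
      set g := htv hf y hy0 t with hgdef
      have hgf : ∀ x x', f (mv g x) (mv g x') = f x x' := fun x x' => htv_mem hf y hy0 hσt x x'
      set z' := mv g z with hz'def
      have hz'0 : f z' z' = 0 := (hgf z z).trans hz0
      have hz'M : htv hf z' hz'0 t ∈ M := by
        rw [← htv_conj hf hgf z hz0 t]
        exact M.mul_mem (M.mul_mem hyM hzM) (M.inv_mem hyM)
      have hwy : f w y = φ := huf y z
      have hwz : f w z = σ φ := by
        rw [hφdef, ← hf.herm, ← huf w z, huw]
      have hwz' : f w z' = -(1 + ω) ^ 2 / η := by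
        rw [hz'def, mv_htv, add_right hf, smul_right hf, map_mul, hσt, ← hf.herm, hwy, hwz, ← hφdef,
          hσφ, hφ, ht, hω]
        field_simp
        linear_combination (-η ^ 6 * 5 - η ^ 4 * 31 - η ^ 2 * 51 - 1) * h30
      have hσwz : σ (f w z') = (1 + ω) ^ 2 * η / ω ^ 2 := by
        rw [hwz', map_div₀, map_neg, map_pow, map_add, map_one, hσω, hση, hω]
        field_simp
        ring
      set lam : fixedField σ := -E ^ 3 with hlam
      have hlamv : (lam : F) = t * t * (f w z' * σ (f w z')) := by
        rw [hlam, Subfield.coe_neg, SubmonoidClass.coe_pow, hEv, hσwz, hwz', ht, hω]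
        field_simp
      have hwne : f w z' ≠ 0 := by
        rw [hwz']; exact div_ne_zero (neg_ne_zero.2 (pow_ne_zero _ h1ω)) hη0
      have hE0 : E ≠ 0 := fun h => by
        have := congrArg Subtype.val h
        rw [hEv] at this
        exact div_ne_zero (pow_ne_zero _ h1ω) hω0 this
      obtain ⟨-, hw'⟩ := full_of_pair hf 3 hp hz'0 hw0 hwne hσt ht0 hz'M hwM lam hlamv
        (neg_ne_zero.2 (pow_ne_zero _ hE0)) (by
          apply hgenE
          set R := Subfield.closure ({lam} : Set (fixedField σ))
          have hER : E ^ 3 ∈ R := by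
            have h : lam ∈ R := Subfield.subset_closure rfl
            rw [hlam] at h
            simpa using R.neg_mem h
          have : CharP R 3 := (RingHom.charP_iff R.subtype Subtype.val_injective 3).mpr ‹_›
          obtain ⟨r, hr⟩ := (Finite.injective_iff_surjective.1 (frobenius_inj R 3)) ⟨E ^ 3, hER⟩
          have hre : (r : fixedField σ) = E :=
            frobenius_inj (fixedField σ) 3 (by simpa [frobenius_def] using congrArg Subtype.val hr)
          exact hre ▸ r.2) (by
          intro _ h9 hl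
          have hl' : (lam : fixedField σ) ^ 2 = -1 := hl
          have hE8 : E ^ 8 = 1 := by
            have := Fintype.ofFinite (fixedField σ)
            have h := FiniteField.pow_card_sub_one_eq_one E hE0
            rwa [← Nat.card_eq_fintype_card, h9] at h
          have hE2 : E ^ 2 = -1 := by
            have hE6 : E ^ 6 = -1 := by rw [← hl', hlam]; ring
            linear_combination (-1 : fixedField σ) * hE8 + E ^ 2 * hE6
          have hF : ((1 + ω) ^ 2 / ω) ^ 2 = (-1 : F) := by
            have := congrArg Subtype.val hE2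
            rw [SubmonoidClass.coe_pow, hEv] at this
            exact this
          field_simp at hF
          have h10 : ω ^ 10 = 1 := by
            have := pow_orderOf_eq_one ω
            rwa [ho, h9] at this
          have h5 : ω ^ 5 = 1 := by
            linear_combination (ω - 1) * hF - (ω ^ 4 + ω ^ 3 * 1 - ω ^ 2 * 1 - ω) * h30
          have := Nat.le_of_dvd (by norm_num) (orderOf_dvd_of_pow_eq_one h5)
          omega)
      have hz2 : Full M hf z := (hw'.conj hf hu huf).of_eq hf huw
      exact ⟨hz2, hz2.conj hf hu huf⟩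
    · set lam : fixedField σ := -64 - 48 * (E - 0) with hlam
      have hcast : ∀ n : ℕ, [NeZero n] → [n.AtLeastTwo] → ((OfNat.ofNat n : fixedField σ) : F) = OfNat.ofNat n :=
        fun n _ _ => map_ofNat (fixedField σ).subtype n
      have hlamv' : (lam : F) = -16 * ((3 + ω) * (3 * ω + 1)) / ω := by
        rw [hlam, sub_zero, Subfield.coe_sub, Subfield.coe_neg, Subfield.coe_mul, hEv, hcast 64, hcast 48]
        field_simp
        ring
      have hlamv : (lam : F) = t * t * (f y z * σ (f y z)) := by
        rw [hlamv', ← hφdef, hσφ, hφ, ht, hω]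
        field_simp
        ring
      have h16 : (-16 : F) ≠ 0 := by
        rw [show (-16 : F) = -(4 * 4) by norm_num]; exact neg_ne_zero.2 (mul_ne_zero h4 h4)
      refine full_of_pair hf p hp hz0 hy0 hφ0 hσt ht0 hzM hyM lam hlamv (fun h => ?_) (hgenE _ ?_)
        (fun h _ => absurd h hp3)
      · have := congrArg Subtype.val h
        rw [hlamv'] at this
        exact div_ne_zero (mul_ne_zero h16 (mul_ne_zero hn1 hn2)) hω0 this
      · set R := Subfield.closure ({lam} : Set (fixedField σ))
        have h48 : (48 : fixedField σ) ≠ 0 := by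
          intro h
          have : p ∣ 3 * 2 ^ 4 := (CharP.cast_eq_zero_iff (fixedField σ) p (3 * 2 ^ 4)).1 (by exact_mod_cast h)
          rcases (Nat.Prime.dvd_mul hpp).1 this with h | h
          · exact hp3 ((Nat.prime_dvd_prime_iff_eq hpp Nat.prime_three).1 h)
          · exact hp ((Nat.prime_dvd_prime_iff_eq hpp Nat.prime_two).1 (hpp.dvd_of_dvd_pow h))
        have : E = (-(64 : ℕ) - lam) / (48 : ℕ) := by
          rw [hlam, sub_zero]; push_cast; field_simp; ring
        rw [this]
        exact R.div_mem (R.sub_mem (R.neg_mem (natCast_mem R 64)) (Subfield.subset_closure rfl))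
          (natCast_mem R 48)
  refine su_le_of_three hf hq3 hz' hy' (hz'.conj hf (M.inv_mem hu) huf') ?_ ?_ ?_
  · rw [hf.herm]; exact fun h => hφ0 ((map_eq_zero_iff σ σ.injective).1 h)
  · rw [← huf, mv_mv_inv, hf.herm]; exact fun h => hφ0 ((map_eq_zero_iff σ σ.injective).1 h)
  · intro α β h
    set c := 2 - 2 * η with hcval
    have hc0 : c ≠ 0 := by
      intro h0
      have : η = 1 := mul_left_cancel₀ h2 (by linear_combination -h0)
      exact hne 1 (map_one σ) (by rw [hω, this]; ring)
    rw [huinv, hz, hy, uni_vec hf hfr] at h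
    simp only [vec, smul_add, smul_smul] at h
    have he := congrArg (fun x => f x d) h
    have hv1 := congrArg (fun x => f x v) h
    have hd1 := congrArg (fun x => f x e) h
    simp only [hf.add_left, hf.smul_left, hfr.ee, hfr.dd, hfr.vv, hfr.ed, hfr.de, hfr.ev, hfr.ve, hfr.dv,
      hfr.vd, mul_zero, mul_one, add_zero, zero_add, map_neg, map_one] at he hv1 hd1
    have hab : α + β = 1 := mul_right_cancel₀ hc0 (by linear_combination -hd1)
    have hβ : β = -1 := mul_right_cancel₀ hc0 (by linear_combination -hv1 + 2 * hab)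
    have hα : α = 2 := by linear_combination hab - hβ
    rw [hα, hβ] at he
    exact hc0 (by linear_combination -he + c * hb)

end Cfsg.Agent.SU3Regular
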