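/-
Sets of unitary transvection centres: a triangle spanning a non-degenerate space fills it, and such a filled
space grows along any centre outside it.
-/
import Cfsg.Agent.Lib.Transvec.HermGen
import Cfsg.Agent.Lib.Transvec.HermStab
import Cfsg.Agent.Lib.Transvec.SmallWreath
set_option autoImplicit false
set_option linter.unusedSectionVars false

namespace Cfsg.Agent.SUGen

open scoped Matrix
open Matrix Cfsg.Agent.Transvec Cfsg.Agent.Transvec.Herm

variable {ι : Type} [Fintype ι] [DecidableEq ι] {F : Type*} [Field F] [Finite F]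
variable {σ : F ≃+* F} {f : (ι → F) → (ι → F) → F} (hf : Geo.IsUnitaryForm σ f)
variable {M : Subgroup (GL ι F)} (hMf : M ≤ preserving (Units.coeHom (Matrix ι ι F)) f)

local notation "C" => hCentres hf M

/-- All isotropic vectors of U are centres. -/
def Full (U : Submodule F (ι → F)) : Prop := ∀ v ∈ U, f v v = 0 → v ∈ hCentres hf M

include hMf in
theorem line_mem {a b : ι → F} (ha : a ∈ C) (hb : b ∈ C) (hab : f a b ≠ 0) (α β : F)
    (hiso : f (α • a + β • b) (α • a + β • b) = 0) : α • a + β • b ∈ C := by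
  by_cases hα : α = 0
  · subst hα; simpa using hCentres_smul hf hb β
  by_cases hβ : β = 0
  · subst hβ; simpa using hCentres_smul hf ha α
  refine hCentres_add hf hMf (hCentres_smul hf ha α) (hCentres_smul hf hb β) ?_ hiso
  rw [hf.smul_left, smul_right hf]
  exact mul_ne_zero hα (mul_ne_zero ((map_ne_zero_iff σ σ.injective).2 hβ) hab)

include hf in
/-- An isotropic vector of U not orthogonal to two given vectors. -/
theorem exists_common_two {U : Submodule F (ι → F)} (hU : Nondeg hf U) (h2 : 2 ≤ Module.finrank F U)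
    {u w : ι → F} (hu : u ∈ U) (hw : w ∈ U) (hu0 : u ≠ 0) (hw0 : w ≠ 0) :
    ∃ y ∈ U, f y y = 0 ∧ f u y ≠ 0 ∧ f w y ≠ 0 := by
  obtain ⟨y1, hy1, h11, hy1u⟩ := exists_isotropic_not_orth hf hU h2 hu hu0
  obtain ⟨y2, hy2, h22, hy2w⟩ := exists_isotropic_not_orth hf hU h2 hw hw0
  have hc : ∀ {a b : ι → F}, f a b ≠ 0 → f b a ≠ 0 := fun h h' => h ((f_eq_zero_comm hf).1 h')
  by_cases h1 : f w y1 ≠ 0
  · exact ⟨y1, hy1, h11, hc hy1u, h1⟩
  by_cases h2' : f u y2 ≠ 0
  · exact ⟨y2, hy2, h22, h2', hc hy2w⟩
  push Not at h1 h2'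
  -- a combination
  obtain ⟨l, hl, hiso⟩ : ∃ l : F, l ≠ 0 ∧ f (y1 + l • y2) (y1 + l • y2) = 0 := by
    by_cases h12 : f y1 y2 = 0
    · exact ⟨1, one_ne_zero, by
        simp only [one_smul, hf.add_left, add_right hf, h11, h22, h12, (f_eq_zero_comm hf).1 h12, add_zero]⟩
    · obtain ⟨t, ht0, ht⟩ := exists_anti hf.ne_refl hf.involutive
      refine ⟨σ (t / f y1 y2), (map_ne_zero_iff σ σ.injective).2 (div_ne_zero ht0 h12), ?_⟩
      simp only [hf.add_left, add_right hf, hf.smul_left, smul_right hf, h11, h22, hf.involutive, mul_zero,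
        zero_add, add_zero]
      rw [hf.herm y2 y1, ← map_mul, div_mul_cancel₀ _ h12, ht]
      ring
  refine ⟨y1 + l • y2, U.add_mem hy1 (U.smul_mem _ hy2), hiso, ?_, ?_⟩
  · rw [add_right hf, smul_right hf, h2', mul_zero, add_zero]; exact hc hy1u
  · rw [add_right hf, smul_right hf, h1, zero_add]
    exact mul_ne_zero ((map_ne_zero_iff σ σ.injective).2 hl) (hc hy2w)

include hf in
/-- A frame at an isotropic vector of a non-degenerate three dimensional space. -/
theorem exists_frame {W : Submodule F (ι → F)} (hW : Nondeg hf W) (h3 : Module.finrank F W = 3)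
    {e : ι → F} (he : e ∈ W) (he0 : e ≠ 0) (hee : f e e = 0) :
    ∃ d y, d ∈ W ∧ y ∈ W ∧ f d d = 0 ∧ f e d = 1 ∧ f y y ≠ 0 ∧ f e y = 0 ∧ f d y = 0 ∧
      ∀ x ∈ W, x = f x d • e + f x e • d + (f x y / f y y) • y := by
  obtain ⟨d, hd, hed, hdd⟩ := exists_partner hf hW he he0 hee
  have hde : f d e = 1 := by rw [hf.herm, hed, map_one]
  obtain ⟨hP, hP2⟩ := nondeg_pair hf hee hdd hed
  have hPW : Submodule.span F ({e, d} : Set (ι → F)) ≤ W :=
    Submodule.span_le.2 (by rintro v (rfl | rfl) <;> assumption)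
  have hsum := finrank_inf_orth_add hf hP hPW
  rw [hP2, h3] at hsum
  have hY := nondeg_inf_orth hf hP hW hPW
  set Y := W ⊓ orth hf (Submodule.span F ({e, d} : Set (ι → F))) with hYdef
  have hY1 : Module.finrank F Y = 1 := by omega
  obtain ⟨y, hy, hyy⟩ := exists_anisotropic hf hY (fun h => by rw [h, finrank_bot] at hY1; omega)
  have me : e ∈ Submodule.span F ({e, d} : Set (ι → F)) := Submodule.subset_span (Set.mem_insert _ _)
  have md : d ∈ Submodule.span F ({e, d} : Set (ι → F)) := Submodule.subset_span (Set.mem_insert_of_mem _ rfl)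
  have hey : f e y = 0 := hy.2 e me
  have hdy : f d y = 0 := hy.2 d md
  refine ⟨d, y, hd, hy.1, hdd, hed, hyy, hey, hdy, fun x hx => ?_⟩
  obtain ⟨u, hu, hr⟩ := exists_proj hf hP x
  obtain ⟨a, b, rfl⟩ := Submodule.mem_span_pair.1 hu
  have hrY : x - (a • e + b • d) ∈ Y := ⟨W.sub_mem hx (hPW hu), hr⟩
  have hy0 : (⟨y, hy⟩ : Y) ≠ 0 := fun h => hyy (by
    have : y = 0 := congrArg Subtype.val h
    rw [this, zero_left hf])
  obtain ⟨c, hc⟩ := (finrank_eq_one_iff_of_nonzero' (⟨y, hy⟩ : Y) hy0).1 hY1 ⟨_, hrY⟩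
  have hc' : x = a • e + b • d + c • y := by
    have := congrArg Subtype.val hc
    simp only [Submodule.coe_smul] at this
    rw [this]; abel
  have e1 : f x d = a := by
    rw [hc']; simp [hf.add_left, hf.smul_left, hed, hdd, (f_eq_zero_comm hf).1 hdy]
  have e2 : f x e = b := by
    rw [hc']; simp [hf.add_left, hf.smul_left, hee, hde, (f_eq_zero_comm hf).1 hey]
  have e3 : f x y / f y y = c := by
    rw [hc']; simp [hf.add_left, hf.smul_left, hey, hdy, hyy]
  rw [e1, e2, e3]
  exact hc'

include hf in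
/-- Orthogonal isotropic vectors in three dimensions are dependent. -/
theorem dep_of_orth {W : Submodule F (ι → F)} (hW : Nondeg hf W) (h3 : Module.finrank F W = 3)
    {x z : ι → F} (hx : x ∈ W) (hz : z ∈ W) (hz0 : z ≠ 0) (hzz : f z z = 0) (hxx : f x x = 0)
    (hxz : f x z = 0) : ∃ k : F, x = k • z := by
  obtain ⟨d, y, -, -, hdd, hed, hyy, hey, hdy, hdec⟩ := exists_frame hf hW h3 hz hz0 hzz
  have hx' := hdec x hx
  rw [hxz, zero_smul, add_zero] at hx'
  set a := f x d
  set c := f x y / f y y
  have h : c * σ c * f y y = 0 := by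
    rw [hx'] at hxx
    simp only [hf.add_left, add_right hf, hf.smul_left, smul_right hf, hzz, hey, (f_eq_zero_comm hf).1 hey,
      mul_zero, zero_add, add_zero] at hxx
    linear_combination hxx
  have hc : c = 0 := by
    rcases mul_eq_zero.1 ((mul_eq_zero.1 h).resolve_right hyy) with h | h
    · exact h
    · exact (map_eq_zero_iff σ σ.injective).1 h
  exact ⟨a, by rw [hx', hc, zero_smul, add_zero]⟩

theorem self_of_one {x : F} (hq : Nat.card (fixedField σ) = 2) (hx : σ x = x) : x = 0 ∨ x = 1 := by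
  haveI := Fintype.ofFinite (fixedField σ)
  rw [Nat.card_eq_fintype_card] at hq
  rcases Cfsg.Agent.Transvec.card_two_cases hq ⟨x, hx⟩ with h | h
  · exact Or.inl (congrArg Subtype.val h)
  · exact Or.inr (congrArg Subtype.val h)

include hMf in
/-- A triangle spanning a non-degenerate space fills it. -/
theorem triangle {W : Submodule F (ι → F)} (hW : Nondeg hf W) (h3 : Module.finrank F W = 3)
    {a b c : ι → F} (ha : a ∈ C) (hb : b ∈ C) (hc : c ∈ C) (haW : a ∈ W) (hbW : b ∈ W) (hcW : c ∈ W)
    (hbc : f b c ≠ 0)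
    (hind : ∀ x y z : F, x • a + y • b + z • c = 0 → x = 0 ∧ y = 0 ∧ z = 0) :
    Full hf (M := M) W := by
  classical
  intro z hzW hzz
  by_contra hzC
  have hz0 : z ≠ 0 := by
    rintro rfl
    exact hzC (by simpa using hCentres_smul hf ha (0 : F))
  obtain ⟨t, ht0, ht⟩ := exists_anti hf.ne_refl hf.involutive
  have ha0 : a ≠ 0 := fun h => one_ne_zero (hind 1 0 0 (by simp [h])).1
  -- the points on the line through b and c
  set P : Option (fixedField σ) → ι → F := fun o => o.elim b fun k => c + (σ ((k : F) * t / f c b)) • b with hP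
  have hPC : ∀ o, P o ∈ C := by
    intro o
    cases o with
    | none => exact hb
    | some k =>
      have := line_mem hf hMf hc hb (fun h => hbc ((f_eq_zero_comm hf).1 h)) 1 (σ ((k : F) * t / f c b)) (by
        rw [one_smul]
        simp only [hf.add_left, add_right hf, hf.smul_left, smul_right hf, hc.1, hb.1, hf.involutive, mul_zero,
          zero_add, add_zero]
        rw [hf.herm b c, ← map_mul, div_mul_cancel₀ _ (fun h => hbc ((f_eq_zero_comm hf).1 h)), map_mul, k.2, ht]
        ring)
      rwa [one_smul] at this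
  have hPW : ∀ o, P o ∈ W := by
    intro o
    cases o with
    | none => exact hbW
    | some k => exact W.add_mem hcW (W.smul_mem _ hbW)
  have hPb : ∀ o, ∃ y z : F, P o = y • b + z • c ∧ (y ≠ 0 ∨ z ≠ 0) := by
    intro o
    cases o with
    | none => exact ⟨1, 0, by simp [hP], Or.inl one_ne_zero⟩
    | some k => exact ⟨σ ((k : F) * t / f c b), 1, by simp [hP, add_comm], Or.inr one_ne_zero⟩
  have hfa : ∀ o, f (P o) a ≠ 0 := by
    intro o h
    obtain ⟨k, hk⟩ := dep_of_orth hf hW h3 (hPW o) haW ha0 ha.1 (hPC o).1 h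
    obtain ⟨y, z, hyz, hne⟩ := hPb o
    obtain ⟨-, h2, h3⟩ := hind (-k) y z (by rw [add_assoc, ← hyz, hk, ← add_smul, neg_add_cancel, zero_smul])
    exact hne.elim (fun h => h h2) (fun h => h h3)
  -- the points on the lines through a
  set X : Option (fixedField σ) × fixedField σ → ι → F :=
    fun i => P i.1 + (σ ((i.2 : F) * t / f (P i.1) a)) • a with hX
  have hXC : ∀ i, X i ∈ C := by
    intro i
    have := line_mem hf hMf (hPC i.1) ha (hfa i.1) 1 (σ ((i.2 : F) * t / f (P i.1) a)) (by
      rw [one_smul]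
      simp only [hf.add_left, add_right hf, hf.smul_left, smul_right hf, (hPC i.1).1, ha.1, hf.involutive,
        mul_zero, zero_add, add_zero]
      rw [hf.herm a (P i.1), ← map_mul, div_mul_cancel₀ _ (hfa i.1), map_mul, i.2.2, ht]
      ring)
    rwa [one_smul] at this
  have hXW : ∀ i, X i ∈ W := fun i => W.add_mem (hPW _) (W.smul_mem _ haW)
  have hX0 : ∀ i, X i ≠ 0 := by
    intro i h
    obtain ⟨y, z, hyz, hne⟩ := hPb i.1
    obtain ⟨-, h2, h3⟩ := hind (σ ((i.2 : F) * t / f (P i.1) a)) y z (by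
      rw [add_assoc, ← hyz, add_comm]; exact h)
    exact hne.elim (fun h => h h2) (fun h => h h3)
  obtain ⟨d, y, hdW, hyW, hdd, hzd, hyy, hzy, hdy, hdec⟩ := exists_frame hf hW h3 hzW hz0 hzz
  have hXz : ∀ i, f (X i) z ≠ 0 := by
    intro i h
    obtain ⟨k, hk⟩ := dep_of_orth hf hW h3 (hXW i) hzW hz0 hzz (hXC i).1 h
    have hk0 : k ≠ 0 := fun h => hX0 i (by rw [hk, h, zero_smul])
    have := hCentres_smul hf (hXC i) k⁻¹
    rw [hk, smul_smul, inv_mul_cancel₀ hk0, one_smul] at this
    exact hzC this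
  let ψ : Option (fixedField σ) × fixedField σ → F := fun i => f (X i) y / f (X i) z
  have hψ : Function.Injective ψ := by
    intro i j hij
    set l := f (X j) z / f (X i) z with hl
    have hl0 : l ≠ 0 := div_ne_zero (hXz j) (hXz i)
    have h1 : f (X j - l • X i) z = 0 := by
      rw [sub_left hf, hf.smul_left, hl, div_mul_cancel₀ _ (hXz i), sub_self]
    have h2 : f (X j - l • X i) y = 0 := by
      simp only [ψ] at hij
      rw [div_eq_div_iff (hXz i) (hXz j)] at hij
      rw [sub_left hf, hf.smul_left, hl, sub_eq_zero]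
      field_simp [hXz i]
      linear_combination -hij
    have h3' := hdec _ (W.sub_mem (hXW j) (W.smul_mem l (hXW i)))
    rw [h1, h2, zero_smul, zero_div, zero_smul, add_zero, add_zero] at h3'
    set m := f (X j - l • X i) d with hm
    by_cases hm0 : m = 0
    · rw [hm0, zero_smul, sub_eq_zero] at h3'
      -- compare coordinates
      obtain ⟨o, k⟩ := i
      obtain ⟨o', k'⟩ := j
      simp only [hX] at h3'
      cases o with
      | none =>
        cases o' with
        | none =>
          simp only [hP, Option.elim] at h3'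
          obtain ⟨e1, e2, -⟩ := hind (σ ((k' : F) * t / f b a) - l * σ ((k : F) * t / f b a)) (1 - l) 0 (by
            linear_combination (norm := module) h3')
          have hl1 : l = 1 := by linear_combination -e2
          rw [hl1, one_mul, sub_eq_zero, σ.injective.eq_iff, div_left_inj' (show f b a ≠ 0 from hfa none),
            mul_left_inj' ht0] at e1
          rw [Subtype.ext e1]
        | some k₁ =>
          simp only [hP, Option.elim] at h3'
          obtain ⟨-, -, e3⟩ := hind (σ ((k' : F) * t / f (c + (σ ((k₁ : F) * t / f c b)) • b) a) -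
            l * σ ((k : F) * t / f b a)) (σ ((k₁ : F) * t / f c b) - l) 1 (by
            linear_combination (norm := module) h3')
          exact absurd e3 one_ne_zero
      | some k₀ =>
        cases o' with
        | none =>
          simp only [hP, Option.elim] at h3'
          obtain ⟨-, -, e3⟩ := hind (σ ((k' : F) * t / f b a) -
            l * σ ((k : F) * t / f (c + (σ ((k₀ : F) * t / f c b)) • b) a))
            (1 - l * σ ((k₀ : F) * t / f c b)) (-l) (by
            linear_combination (norm := module) h3')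
          exact absurd e3 (neg_ne_zero.2 hl0)
        | some k₁ =>
          simp only [hP, Option.elim] at h3'
          obtain ⟨e1, e2, e3⟩ := hind
            (σ ((k' : F) * t / f (c + (σ ((k₁ : F) * t / f c b)) • b) a) -
              l * σ ((k : F) * t / f (c + (σ ((k₀ : F) * t / f c b)) • b) a))
            (σ ((k₁ : F) * t / f c b) - l * σ ((k₀ : F) * t / f c b)) (1 - l) (by
            linear_combination (norm := module) h3')
          have hl1 : l = 1 := by linear_combination -e3
          rw [hl1, one_mul, sub_eq_zero, σ.injective.eq_iff,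
            div_left_inj' (fun h => hbc ((f_eq_zero_comm hf).1 h)), mul_left_inj' ht0] at e2
          obtain rfl : k₁ = k₀ := Subtype.ext e2
          rw [hl1, one_mul, sub_eq_zero, σ.injective.eq_iff, div_left_inj' (show f (c + (σ ((k₁ : F) * t / f c b)) • b) a ≠ 0 from hfa (some k₁)),
            mul_left_inj' ht0] at e1
          rw [Subtype.ext e1]
    · -- z would be a centre
      refine absurd ?_ hzC
      have hz : z = m⁻¹ • X j + (-(m⁻¹ * l)) • X i := by
        rw [show X j = m • z + l • X i from sub_eq_iff_eq_add.1 h3', smul_add, smul_smul, smul_smul,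
          inv_mul_cancel₀ hm0, one_smul, add_assoc, ← add_smul, add_neg_cancel, zero_smul, add_zero]
      have hne : f (X j) (X i) ≠ 0 := by
        rw [show X j = m • z + l • X i from sub_eq_iff_eq_add.1 h3', hf.add_left, hf.smul_left, hf.smul_left,
          (hXC i).1, mul_zero, add_zero]
        exact mul_ne_zero hm0 fun h => hXz i ((f_eq_zero_comm hf).1 h)
      rw [hz]
      exact line_mem hf hMf (hXC j) (hXC i) hne _ _ (by rw [← hz]; exact hzz)
  have hcard := Nat.card_le_card_of_injective ψ hψ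
  haveI := Fintype.ofFinite (fixedField σ)
  rw [Nat.card_prod, Finite.card_option, card_eq_sq hf.ne_refl hf.involutive, pow_two] at hcard
  have h0 : 0 < Nat.card (fixedField σ) := Nat.card_pos
  have := Nat.le_of_mul_le_mul_right hcard h0
  omega

/-- One transvection moves u to a neighbour of the same norm. -/
theorem step_move {U : Submodule F (ι → F)} (hfull : Full hf (M := M) U) {u v : ι → F} {N δ : F}
    (hu : u ∈ U) (hv : v ∈ U) (huu : f u u = N) (hvv : f v v = N) (huv : f u v = N + δ) (hδ : σ δ = -δ)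
    (hδ0 : δ ≠ 0) : ∃ g ∈ M, mv g u = v ∧ ∀ y, (∀ x ∈ U, f y x = 0) → mv g y = y := by
  have hN : σ N = N := huu ▸ self_fixed hf u
  have hvu : f v u = N - δ := by rw [hf.herm, huv, map_add, hN, hδ]; ring
  have hy : f (v - u) (v - u) = 0 := by
    rw [sub_left hf, sub_right hf, sub_right hf, huu, hvv, huv, hvu]; ring
  obtain ⟨hy', hC⟩ := hfull _ (U.sub_mem hv hu) hy
  refine ⟨_, hC δ⁻¹ (by rw [map_inv₀, hδ, inv_neg]), ?_, fun x hx => htv_fix hf _ _ _ (hx _ (U.sub_mem hv hu))⟩
  rw [mv_htv, sub_right hf, huu, huv, add_sub_cancel_left, inv_mul_cancel₀ hδ0, one_smul, add_sub_cancel]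

/-- Transitivity on vectors of a given norm, fixed field with at least three elements. -/
theorem move_three (hq : 3 ≤ Nat.card (fixedField σ)) {U : Submodule F (ι → F)} (hU : Nondeg hf U)
    (h3 : 3 ≤ Module.finrank F U) (hfull : Full hf (M := M) U) {u w : ι → F} (hu : u ∈ U) (hw : w ∈ U)
    {N : F} (hN0 : N ≠ 0) (huu : f u u = N) (hww : f w w = N) :
    ∃ g ∈ M, mv g u = w ∧ ∀ y, (∀ x ∈ U, f y x = 0) → mv g y = y := by
  classical
  have hN : σ N = N := huu ▸ self_fixed hf u
  obtain ⟨t, ht0, ht⟩ := exists_anti hf.ne_refl hf.involutive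
  have two : ∀ {u : ι → F}, u ∈ U → f u u = N → N * N - f u w * f w u ≠ 0 →
      ∃ g ∈ M, mv g u = w ∧ ∀ y, (∀ x ∈ U, f y x = 0) → mv g y = y := by
    intro u hu huu hD
    set g₀ := f u w with hg₀
    set g₁ := f w u with hg₁
    set D := N * N - g₀ * g₁
    set c := N + t
    set α := σ (c * (N - g₀) / D)
    set β := σ (c * (N - g₁) / D)
    set v₀ := α • u + β • w with hv₀
    have e1 : f u v₀ = c := by
      rw [hv₀, add_right hf, smul_right hf, smul_right hf, hf.involutive, hf.involutive, huu, ← hg₀]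
      field_simp
      ring
    have e2 : f w v₀ = c := by
      rw [hv₀, add_right hf, smul_right hf, smul_right hf, hf.involutive, hf.involutive, hww, ← hg₁]
      field_simp
      ring
    set S := Submodule.span F ({u, w} : Set (ι → F))
    have hSU : S ≤ U := Submodule.span_le.2 (by rintro v (rfl | rfl) <;> assumption)
    have mu : u ∈ S := Submodule.subset_span (Set.mem_insert _ _)
    have mw : w ∈ S := Submodule.subset_span (Set.mem_insert_of_mem _ rfl)
    have hS : Nondeg hf S := (nondeg_iff hf).2 fun x hx h => by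
      obtain ⟨a, b, rfl⟩ := Submodule.mem_span_pair.1 hx
      have h1 := h u mu
      have h2 := h w mw
      rw [add_right hf, smul_right hf, smul_right hf] at h1 h2
      rw [huu, ← hg₀] at h1
      rw [← hg₁, hww] at h2
      have ha : σ a = 0 := by
        have : σ a * D = 0 := by linear_combination N * h1 - g₀ * h2
        exact (mul_eq_zero.1 this).resolve_right hD
      have hb : σ b = 0 := by
        have : σ b * D = 0 := by linear_combination N * h2 - g₁ * h1
        exact (mul_eq_zero.1 this).resolve_right hD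
      rw [(map_eq_zero_iff σ σ.injective).1 ha, (map_eq_zero_iff σ σ.injective).1 hb]
      simp
    have hS2 : Module.finrank F S ≤ 2 := by
      have h := finrank_span_finset_le_card (R := F) ({u, w} : Finset (ι → F))
      rw [Finset.coe_pair] at h
      exact h.trans Finset.card_le_two
    have hsum := finrank_inf_orth_add hf hS hSU
    obtain ⟨b₀, hb₀, hbb⟩ := exists_anisotropic hf (nondeg_inf_orth hf hS hU hSU)
      (fun h => by rw [h, finrank_bot] at hsum; omega)
    obtain ⟨r, hr⟩ := exists_norm hf.ne_refl hf.involutive ((N - f v₀ v₀) / f b₀ b₀)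
      (by rw [map_div₀, map_sub, hN, self_fixed hf, self_fixed hf])
    set v := v₀ + r • b₀
    have hv₀S : v₀ ∈ S := S.add_mem (S.smul_mem _ mu) (S.smul_mem _ mw)
    have hvU : v ∈ U := U.add_mem (hSU hv₀S) (U.smul_mem _ hb₀.1)
    have hvv : f v v = N := by
      simp only [v, hf.add_left, add_right hf, hf.smul_left, smul_right hf, hb₀.2 v₀ hv₀S,
        (f_eq_zero_comm hf).1 (hb₀.2 v₀ hv₀S), mul_zero, zero_add, add_zero]
      rw [← mul_assoc, hr, div_mul_cancel₀ _ hbb]
      ring
    have huv : f u v = N + t := by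
      simp only [v, add_right hf, smul_right hf, hb₀.2 u mu, mul_zero, add_zero, e1, c]
    have hwv : f w v = N + t := by
      simp only [v, add_right hf, smul_right hf, hb₀.2 w mw, mul_zero, add_zero, e2, c]
    obtain ⟨g, hg, hgu, hgf⟩ := step_move hf hfull hu hvU huu hvv huv ht ht0
    obtain ⟨h, hh, hhv, hhf⟩ := step_move hf hfull hvU hw hvv hww (δ := -t)
      (by rw [hf.herm, hwv, map_add, hN, ht]) (by rw [map_neg, ht]) (neg_ne_zero.2 ht0)
    exact ⟨h * g, M.mul_mem hh hg, by rw [mv_mul, hgu, hhv],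
      fun y hy => by rw [mv_mul, hgf y hy, hhf y hy]⟩
  by_cases hD : N * N - f u w * f w u = 0
  swap
  · exact two hu huu hD
  have hu0 : u ≠ 0 := fun h => hN0 (by rw [← huu, h, zero_left hf])
  have hw0 : w ≠ 0 := fun h => hN0 (by rw [← hww, h, zero_left hf])
  obtain ⟨y, hy, hyy, huy, hwy⟩ := exists_common_two hf hU (by omega) hu hw hu0 hw0
  obtain ⟨hy', hC⟩ := hfull y hy hyy
  set X := f u y * f y w with hX
  have hX0 : X ≠ 0 := mul_ne_zero huy fun h => hwy ((f_eq_zero_comm hf).1 h)
  have hσX : σ X = f y u * f w y := by rw [hX, map_mul, ← hf.herm, ← hf.herm]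
  obtain ⟨k, hk0, hk1, hk⟩ : ∃ k : F, k ≠ 0 ∧ k ≠ 1 ∧ σ k = k := by
    by_contra h
    push Not at h
    haveI := Fintype.ofFinite (fixedField σ)
    have : Function.Injective fun x : fixedField σ => (decide (x = 0) : Bool) := by
      intro a b hab
      simp only [decide_eq_decide] at hab
      by_cases ha : a = 0
      · rw [ha, hab.1 ha]
      · have hb : b ≠ 0 := fun h => ha (hab.2 h)
        have e : ∀ x : fixedField σ, x ≠ 0 → x = 1 := fun x hx => Subtype.ext (by
          by_contra hne
          exact h x (fun e => hx (Subtype.ext e)) hne x.2)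
        rw [e a ha, e b hb]
    have := Nat.card_le_card_of_injective _ this
    rw [Nat.card_eq_fintype_card (α := Bool), Fintype.card_bool] at this
    omega
  have key : ∀ c, σ c = -c → ∀ u₁, u₁ = u + (c * f u y) • y →
      N * N - f u₁ w * f w u₁ = c * (f u w * σ X - X * f w u) + c * c * (X * σ X) := by
    intro c hc u₁ h1
    rw [h1, hf.add_left, hf.smul_left, add_right hf, smul_right hf, map_mul, hc, ← hf.herm, hσX, hX]
    linear_combination hD
  obtain ⟨c, hc, hc0, hne⟩ : ∃ c, σ c = -c ∧ c ≠ 0 ∧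
      c * (f u w * σ X - X * f w u) + c * c * (X * σ X) ≠ 0 := by
    by_contra h
    push Not at h
    have h1 := h t ht ht0
    have h2 := h (k * t) (by rw [map_mul, hk, ht, mul_neg]) (mul_ne_zero hk0 ht0)
    have h3 : (k * k - k) * (t * t * (X * σ X)) = 0 := by linear_combination h2 - k * h1
    rcases mul_eq_zero.1 h3 with h3 | h3
    · exact hk1 (mul_left_cancel₀ hk0 (by linear_combination h3))
    · exact mul_ne_zero (mul_ne_zero ht0 ht0) (mul_ne_zero hX0 ((map_ne_zero_iff σ σ.injective).2 hX0)) h3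
  obtain ⟨u₁, hu₁⟩ : ∃ u₁, u₁ = u + (c * f u y) • y := ⟨_, rfl⟩
  have hmv : mv (htv hf y hy' c) u = u₁ := by rw [mv_htv, hu₁]
  have hu₁U : u₁ ∈ U := hu₁ ▸ U.add_mem hu (U.smul_mem _ hy)
  have hu₁N : f u₁ u₁ = N := by
    rw [← hmv]; exact (htv_mem hf y hy' hc u u).trans huu
  obtain ⟨g, hg, hgu, hgf⟩ := two hu₁U hu₁N (by rw [key c hc u₁ hu₁]; exact hne)
  exact ⟨g * htv hf y hy' c, M.mul_mem hg (hC c hc), by rw [mv_mul, hmv, hgu],
    fun x hx => by rw [mv_mul, htv_fix hf _ _ _ (hx y hy), hgf x hx]⟩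

/-- Products of isotropic vectors under the group of a filled space are arbitrary. -/
theorem iso_product {U : Submodule F (ι → F)} (hU : Nondeg hf U)
    (h3 : 3 ≤ Module.finrank F U) (hfull : Full hf (M := M) U) {u w : ι → F} (hu : u ∈ U) (hw : w ∈ U)
    (hu0 : u ≠ 0) (hw0 : w ≠ 0) (huu : f u u = 0) (hww : f w w = 0) (A : F) :
    ∃ g ∈ M, mv g w ∈ U ∧ f u (mv g w) = A ∧ ∀ y, (∀ x ∈ U, f y x = 0) → mv g y = y := by
  obtain ⟨t, ht0, ht⟩ := exists_anti hf.ne_refl hf.involutive
  have main : ∀ {w : ι → F}, w ∈ U → f w w = 0 → f u w ≠ 0 →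
      ∃ g ∈ M, mv g w ∈ U ∧ f u (mv g w) = A ∧ ∀ y, (∀ x ∈ U, f y x = 0) → mv g y = y := by
    intro w hw hww hA0
    set A₀ := f u w with hA₀
    set k := σ A₀⁻¹ with hk
    set d := k • w with hd
    have hdd : f d d = 0 := by rw [hd, hf.smul_left, smul_right hf, hww, mul_zero, mul_zero]
    have hud : f u d = 1 := by rw [hd, smul_right hf, hk, hf.involutive, ← hA₀, inv_mul_cancel₀ hA0]
    have hdu : f d u = 1 := by rw [hf.herm, hud, map_one]
    obtain ⟨hP, hP2⟩ := nondeg_pair hf huu hdd hud
    have hPU : Submodule.span F ({u, d} : Set (ι → F)) ≤ U :=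
      Submodule.span_le.2 (by rintro v (rfl | rfl); exacts [hu, U.smul_mem _ hw])
    have hsum := finrank_inf_orth_add hf hP hPU
    obtain ⟨b, hb, hbb⟩ := exists_anisotropic hf (nondeg_inf_orth hf hP hU hPU)
      (fun h => by rw [h, finrank_bot, hP2] at hsum; omega)
    have hbu : f u b = 0 := hb.2 u (Submodule.subset_span (Set.mem_insert _ _))
    have hbd : f d b = 0 := hb.2 d (Submodule.subset_span (Set.mem_insert_of_mem _ rfl))
    have hA0' : σ A₀ ≠ 0 := (map_ne_zero_iff σ σ.injective).2 hA0
    set a := (A - A₀) / (σ t * A₀) with ha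
    obtain ⟨r, hr⟩ := exists_norm hf.ne_refl hf.involutive (-(a + σ a) / f b b)
      (by rw [map_div₀, map_neg, map_add, hf.involutive, self_fixed hf, add_comm])
    set y := a • u + d + r • b with hy
    have hyU : y ∈ U := U.add_mem (U.add_mem (U.smul_mem _ hu) (U.smul_mem _ hw)) (U.smul_mem _ hb.1)
    have hyy : f y y = 0 := by
      simp only [hy, hf.add_left, add_right hf, hf.smul_left, smul_right hf, huu, hdd, hud, hdu, hbu, hbd,
        (f_eq_zero_comm hf).1 hbu, (f_eq_zero_comm hf).1 hbd, mul_zero, mul_one, zero_add, add_zero]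
      rw [← mul_assoc, hr, div_mul_cancel₀ _ hbb]
      ring
    obtain ⟨hy', hC⟩ := hfull y hyU hyy
    refine ⟨_, hC t ht, ?_, ?_, fun x hx => htv_fix hf _ _ _ (hx y hyU)⟩
    · rw [mv_htv]; exact U.add_mem hw (U.smul_mem _ hyU)
    · rw [mv_htv, add_right hf, smul_right hf, ← hA₀]
      have e1 : f u y = 1 := by
        simp only [hy, add_right hf, smul_right hf, huu, hud, hbu, mul_zero, zero_add, add_zero]
      have e2 : f w y = σ A₀ * σ a := by
        have : w = σ A₀ • d := by rw [hd, hk, smul_smul, map_inv₀, mul_inv_cancel₀ hA0', one_smul]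
        rw [this, hf.smul_left]
        simp only [hy, add_right hf, smul_right hf, hdu, hdd, hbd, mul_zero, mul_one, add_zero]
      rw [e1, e2, map_mul, map_mul, hf.involutive, hf.involutive, mul_one, ha]
      field_simp [(map_ne_zero_iff σ σ.injective).2 ht0]
      ring
  by_cases hA0 : f u w = 0
  swap
  · exact main hw hww hA0
  obtain ⟨y, hy, hyy, huy, hwy⟩ := exists_common_two hf hU (by omega) hu hw hu0 hw0
  obtain ⟨hy', hC⟩ := hfull y hy hyy
  obtain ⟨g, hg, hgU, hgA, hgf⟩ := main (w := mv (htv hf y hy' t) w)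
    (by rw [mv_htv]; exact U.add_mem hw (U.smul_mem _ hy)) ((htv_mem hf y hy' ht w w).trans hww) (by
      rw [mv_htv, add_right hf, smul_right hf, hA0, zero_add]
      exact mul_ne_zero ((map_ne_zero_iff σ σ.injective).2 (mul_ne_zero ht0 hwy)) huy)
  exact ⟨g * htv hf y hy' t, M.mul_mem hg (hC t ht), by rwa [mv_mul], by rwa [mv_mul],
    fun x hx => by rw [mv_mul, htv_fix hf _ _ _ (hx y hy), hgf x hx]⟩

end Cfsg.Agent.SUGen
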