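/-
Growth of a filled space of transvection centres to the whole space, and a generation criterion for SU by
conjugates of a regular unipotent element and one transvection.
-/
import Cfsg.Agent.Lib.Generation.SUCentres
set_option autoImplicit false
set_option linter.unusedSectionVars false

namespace Cfsg.Agent.SUGen

open scoped Matrix
open Matrix Cfsg.Agent.Transvec Cfsg.Agent.Transvec.Herm

variable {ι : Type} [Fintype ι] [DecidableEq ι] {F : Type*} [Field F] [Finite F]
variable {σ : F ≃+* F} {f : (ι → F) → (ι → F) → F} (hf : Geo.IsUnitaryForm σ f)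
variable {M : Subgroup (GL ι F)} (hMf : M ≤ preserving (Units.coeHom (Matrix ι ι F)) f)

local notation "C" => hCentres hf M

theorem two_fixed (hq : Nat.card (fixedField σ) = 2) : (∀ x : F, σ x = x → x ≠ 0 → x = 1) ∧ (2 : F) = 0 := by
  have h1 : ∀ x : F, σ x = x → x ≠ 0 → x = 1 := fun x hx hx0 => (self_of_one hq hx).resolve_left hx0
  refine ⟨h1, ?_⟩
  by_contra h
  have := h1 2 (by rw [map_ofNat]) h
  exact one_ne_zero (show (1 : F) = 0 by linear_combination this)

include hMf in
/-- Over the field with four elements: one centre and its translate fill a coset of a filled plane space. -/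
theorem fill_two (hq : Nat.card (fixedField σ) = 2) {W : Submodule F (ι → F)} (hW : Nondeg hf W)
    (h3 : Module.finrank F W = 3) (hfull : Full hf (M := M) W) {p u₀ e : ι → F}
    (hp : ∀ x ∈ W, f p x = 0) (hpp : f p p = 1) (hu₀ : u₀ ∈ W) (huu : f u₀ u₀ = 1) (he : e ∈ W) (he0 : e ≠ 0)
    (hee : f e e = 0) (hue : f u₀ e = 0) (hs : u₀ + p ∈ C) (hs' : u₀ + e + p ∈ C) {w : ι → F} (hw : w ∈ W)
    (hww : f w w = 1) : w + p ∈ C := by
  obtain ⟨h1, h2⟩ := two_fixed hq
  have hneg : (1 : F) = -1 := by linear_combination h2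
  have hnorm : ∀ a : F, a ≠ 0 → a * σ a = 1 := fun a ha =>
    h1 _ (by rw [map_mul, hf.involutive, mul_comm]) (mul_ne_zero ha ((map_ne_zero_iff σ σ.injective).2 ha))
  have nb : ∀ {a b : ι → F}, a ∈ W → b ∈ W → f a a = 1 → f b b = 1 → f a b = 0 → a + p ∈ C → b + p ∈ C := by
    intro a b ha hb haa hbb hab hC
    obtain ⟨g, hg, hgab, hgf⟩ := step_move hf hfull (N := 1) (δ := 1) ha hb haa hbb
      (by rw [hab]; linear_combination -h2) (by rw [map_one]; exact hneg) one_ne_zero
    have := hCentres_mv hf hMf hg hC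
    rwa [mv_add, hgab, hgf p hp] at this
  have sc : ∀ {a : ι → F} {α : F}, a ∈ W → f a a = 1 → α ≠ 0 → a + p ∈ C → α • a + p ∈ C := by
    intro a α ha haa hα hC
    have hS := nondeg_span_single hf (show f a a ≠ 0 by rw [haa]; exact one_ne_zero)
    have hle : Submodule.span F {a} ≤ W := by rwa [Submodule.span_singleton_le_iff_mem]
    have hsum := finrank_inf_orth_add hf hS hle
    rw [finrank_span_single hf (show f a a ≠ 0 by rw [haa]; exact one_ne_zero), h3] at hsum
    obtain ⟨b, hb, hbb⟩ := exists_anisotropic hf (nondeg_inf_orth hf hS hW hle)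
      (fun h => by rw [h, finrank_bot] at hsum; omega)
    have hab : f a b = 0 := hb.2 a (Submodule.mem_span_singleton_self a)
    have hb1 : f b b = 1 := h1 _ (self_fixed hf b) hbb
    refine nb hb.1 (W.smul_mem _ ha) hb1 ?_ ?_ (nb ha hb.1 haa hb1 hab hC)
    · rw [hf.smul_left, smul_right hf, haa, mul_one, hnorm α hα]
    · rw [smul_right hf, (f_eq_zero_comm hf).1 hab, mul_zero]
  have hue' : f e u₀ = 0 := (f_eq_zero_comm hf).1 hue
  have hpu : ∀ x ∈ W, f x p = 0 := fun x hx => (f_eq_zero_comm hf).1 (hp x hx)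
  have hnormt : ∀ t : F, f (u₀ + t • e) (u₀ + t • e) = 1 := fun t => by
    simp only [hf.add_left, add_right hf, hf.smul_left, smul_right hf, huu, hee, hue, hue', mul_zero, add_zero]
  have line : ∀ t : F, (u₀ + t • e) + p ∈ C := by
    intro t
    by_cases ht0 : t = 0
    · simpa [ht0] using hs
    by_cases ht1 : t = 1
    · simpa [ht1] using hs'
    have hNt := hnorm t ht0
    have htr : t + σ t = 1 := by
      refine h1 _ (by rw [map_add, hf.involutive, add_comm]) fun h => ?_
      have hσt : σ t = t := by linear_combination h - t * h2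
      exact ht1 (h1 t hσt ht0)
    have htq : t * t + t + 1 = 0 := by linear_combination t * htr - hNt + t * h2
    have hs1 : t • (u₀ + e) + p ∈ C := sc (W.add_mem hu₀ he) (by simpa using hnormt 1) ht0 hs'
    have hpe : f p e = 0 := hp e he
    have hpu0 : f p u₀ = 0 := hp u₀ hu₀
    have hfs : f (u₀ + p) (t • (u₀ + e) + p) = t := by
      simp only [smul_add, hf.add_left, add_right hf, smul_right hf, huu, hue, hpp, hpe, hpu0, hpu u₀ hu₀,
        mul_zero, add_zero, zero_add, mul_one]
      linear_combination htr - (t - 1) * h2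
    have hiso : f ((1 : F) • (u₀ + p) + t • (t • (u₀ + e) + p)) ((1 : F) • (u₀ + p) + t • (t • (u₀ + e) + p)) = 0 := by
      have hsy : f (t • (u₀ + e) + p) (u₀ + p) = σ t := by rw [hf.herm, hfs]
      simp only [one_smul, hf.add_left (u₀ + p), add_right hf (u₀ + p) (u₀ + p),
        add_right hf (t • (t • (u₀ + e) + p)) (u₀ + p), hf.smul_left, smul_right hf, hfs, hsy, hs.1, hs1.1]
      linear_combination 2 * hNt + h2
    have hx := line_mem hf hMf hs hs1 (by rw [hfs]; exact ht0) 1 t hiso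
    have hx' := hCentres_smul hf hx t
    have hxe : t • ((1 : F) • (u₀ + p) + t • (t • (u₀ + e) + p)) = (σ t • u₀ + e) + p := by
      have e1 : t * (1 + t * t) = σ t := by linear_combination (t - 1) * htq - htr + t * h2
      have e2 : t * (t * t) = 1 := by linear_combination (t - 1) * htq
      have e3 : t * (1 + t) = 1 := by linear_combination htq - h2
      have : t • ((1 : F) • (u₀ + p) + t • (t • (u₀ + e) + p)) =
          (t * (1 + t * t)) • u₀ + (t * (t * t)) • e + (t * (1 + t)) • p := by module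
      rw [this, e1, e2, e3, one_smul, one_smul]
    rw [hxe] at hx'
    have := sc (α := t) (W.add_mem (W.smul_mem _ hu₀) he) (by
      simp only [hf.add_left, add_right hf, hf.smul_left, smul_right hf, huu, hee, hue, hue', hf.involutive,
        mul_zero, add_zero, zero_add, mul_one]
      rw [mul_comm]; exact hNt) ht0 hx'
    rwa [smul_add, smul_smul, hNt, one_smul] at this
  by_cases hg : f u₀ w = 0
  · exact nb hu₀ hw huu hww hg hs
  set α := f w u₀ with hα
  have hα0 : α ≠ 0 := fun h => hg ((f_eq_zero_comm hf).1 h)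
  set r := α⁻¹ • w - u₀ with hr
  have hrW : r ∈ W := W.sub_mem (W.smul_mem _ hw) hu₀
  have hru : f r u₀ = 0 := by rw [hr, sub_left hf, hf.smul_left, ← hα, inv_mul_cancel₀ hα0, huu, sub_self]
  have hur : f u₀ r = 0 := (f_eq_zero_comm hf).1 hru
  have hrr : f r r = 0 := by
    have e1 : f r r = f r (α⁻¹ • w) := by
      rw [hr]; rw [← hr]; conv_lhs => arg 2; rw [hr]
      rw [sub_right hf, hru, sub_zero]
    rw [e1, hr, sub_left hf, hf.smul_left, smul_right hf, smul_right hf, hww, hf.herm u₀ w, ← hα, mul_one,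
      map_inv₀, ← mul_inv, hnorm α hα0, inv_one, inv_mul_cancel₀ ((map_ne_zero_iff σ σ.injective).2 hα0), sub_self]
  have hwr : w = α • (u₀ + r) := by rw [hr, add_sub_cancel, smul_smul, mul_inv_cancel₀ hα0, one_smul]
  have huw : f (u₀ + r) (u₀ + r) = 1 := by
    simp only [hf.add_left, add_right hf, huu, hrr, hru, hur, add_zero]
  rw [hwr]
  refine sc (W.add_mem hu₀ hrW) huw hα0 ?_
  by_cases hk : ∃ k : F, r = k • e
  · obtain ⟨k, hk⟩ := hk
    rw [hk]; exact line k
  push Not at hk
  have her : f e r ≠ 0 := fun h => by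
    obtain ⟨k, hk'⟩ := dep_of_orth hf hW h3 hrW he he0 hee hrr ((f_eq_zero_comm hf).1 h)
    exact hk k hk'
  set t := 1 / f e r with ht
  have hter : f (t • e) r = 1 := by rw [hf.smul_left, ht, one_div, inv_mul_cancel₀ her]
  have htee : f (t • e) (t • e) = 0 := by rw [hf.smul_left, smul_right hf, hee, mul_zero, mul_zero]
  obtain ⟨hv, hc, hmv⟩ := htv_map hf htee hrr (by rw [hter]; exact one_ne_zero)
    (by rw [hter, map_one]; exact hneg)
  obtain ⟨hv', hC⟩ := hfull _ (W.sub_mem hrW (W.smul_mem _ he)) hv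
  have := hCentres_mv hf hMf (hC _ hc) (line t)
  rwa [mv_add, mv_add, hmv, htv_fix hf _ _ _ (show f u₀ (r - t • e) = 0 by
      rw [sub_right hf, smul_right hf, hur, hue, mul_zero, sub_zero]),
    htv_fix hf _ _ _ (hp _ (W.sub_mem hrW (W.smul_mem _ he)))] at this

include hMf in
theorem fill_big {U : Submodule F (ι → F)} (hU : Nondeg hf U)
    (hgood : (3 ≤ Nat.card (fixedField σ) ∧ 3 ≤ Module.finrank F U) ∨ 4 ≤ Module.finrank F U)
    (hfull : Full hf (M := M) U) {p u₀ : ι → F} (hp : ∀ x ∈ U, f p x = 0) (hu₀ : u₀ ∈ U) (hN : f u₀ u₀ ≠ 0)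
    (hs : u₀ + p ∈ C) {w : ι → F} (hw : w ∈ U) (hww : f w w = f u₀ u₀) : w + p ∈ C := by
  have h0 : ∀ {x : ι → F}, f x x = f u₀ u₀ → x ≠ 0 := fun h h' => hN (by rw [← h, h', zero_left hf])
  obtain ⟨g, hg, hgu, hgf⟩ : ∃ g ∈ M, mv g u₀ = w ∧ ∀ y, (∀ x ∈ U, f y x = 0) → mv g y = y := by
    rcases hgood with ⟨hq, h3⟩ | h4
    · exact move_three hf hq hU h3 hfull hu₀ hw hN rfl hww
    · exact exists_move_norm hf hU h4 (fun v hv hvv c hc => (hfull v hv hvv).2 c hc) hMf hu₀ hw
        (h0 rfl) (h0 hww) hww.symm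
  have := hCentres_mv hf hMf hg hs
  rwa [mv_add, hgu, hgf p hp] at this

include hMf in
theorem extend {U : Submodule F (ι → F)} (hU : Nondeg hf U) (hfull : Full hf (M := M) U) {p u₀ : ι → F}
    (hp : ∀ x ∈ U, f p x = 0) (hpp : f p p ≠ 0) (hu₀ : u₀ ∈ U) (hs : u₀ + p ∈ C)
    (hfill : ∀ w ∈ U, f w w = f u₀ u₀ → w + p ∈ C) :
    Nondeg hf (U ⊔ Submodule.span F {p}) ∧ Full hf (M := M) (U ⊔ Submodule.span F {p}) ∧
      Module.finrank F ↥(U ⊔ Submodule.span F {p}) = Module.finrank F U + 1 := by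
  have hpo : Submodule.span F {p} ≤ orth hf U := by
    rw [Submodule.span_singleton_le_iff_mem]
    exact fun x hx => (f_eq_zero_comm hf).1 (hp x hx)
  obtain ⟨hn, hr⟩ := nondeg_sup hf hU (nondeg_span_single hf hpp) hpo
  refine ⟨hn, fun x hx hxx => ?_, by rw [hr, finrank_span_single hf hpp]⟩
  obtain ⟨w, hw, y, hy, rfl⟩ := Submodule.mem_sup.1 hx
  obtain ⟨k, rfl⟩ := Submodule.mem_span_singleton.1 hy
  by_cases hk : k = 0
  · subst hk
    rw [zero_smul, add_zero] at hxx ⊢
    exact hfull w hw hxx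
  have hwp : f (k⁻¹ • w + p) (k⁻¹ • w + p) = 0 := by
    rw [show k⁻¹ • w + p = k⁻¹ • (w + k • p) by rw [smul_add, smul_smul, inv_mul_cancel₀ hk, one_smul],
      hf.smul_left, smul_right hf, hxx, mul_zero, mul_zero]
  have hnorm : ∀ z ∈ U, f (z + p) (z + p) = f z z + f p p := fun z hz => by
    simp only [hf.add_left, add_right hf, hp z hz, (f_eq_zero_comm hf).1 (hp z hz), add_zero, zero_add]
  have := hfill (k⁻¹ • w) (U.smul_mem _ hw) (by
    have h1 := hnorm u₀ hu₀
    rw [hs.1] at h1
    rw [hnorm _ (U.smul_mem _ hw)] at hwp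
    linear_combination hwp + h1)
  have := hCentres_smul hf this k
  rwa [smul_add, smul_smul, mul_inv_cancel₀ hk, one_smul] at this

include hMf in
/-- A filled space grows to everything. -/
theorem grow (hspan : ∀ x : ι → F, x ≠ 0 → ∃ s ∈ C, f x s ≠ 0) {W : Submodule F (ι → F)}
    (hcross : ∀ U : Submodule F (ι → F), W ≤ U → U ≠ ⊤ → ∃ a ∈ C, a ∈ U ∧ ∃ b ∈ C, b ∉ U ∧ f a b ≠ 0)
    (U : Submodule F (ι → F)) (hWU : W ≤ U) (hU : Nondeg hf U)
    (hgood : (3 ≤ Nat.card (fixedField σ) ∧ 3 ≤ Module.finrank F U) ∨ 4 ≤ Module.finrank F U)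
    (hfull : Full hf (M := M) U) : ∀ v, f v v = 0 → v ∈ C := by
  induction hk : Fintype.card ι - Module.finrank F U using Nat.strong_induction_on generalizing U with
  | _ k ih =>
  by_cases htop : U = ⊤
  · exact fun v hv => hfull v (htop ▸ Submodule.mem_top) hv
  have h3 : 3 ≤ Module.finrank F U := by rcases hgood with ⟨-, h⟩ | h <;> omega
  have hlt : Module.finrank F U < Fintype.card ι := by
    have := Submodule.finrank_lt htop
    rwa [Module.finrank_pi] at this
  suffices H : ∃ s ∈ C, ∃ u₀ ∈ U, (∀ x ∈ U, f (s - u₀) x = 0) ∧ f (s - u₀) (s - u₀) ≠ 0 by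
    obtain ⟨s, hs, u₀, hu₀, hp, hpp⟩ := H
    have hs' : u₀ + (s - u₀) ∈ C := by rwa [add_sub_cancel]
    have hN : f u₀ u₀ ≠ 0 := by
      intro hN
      have h1 : f (u₀ + (s - u₀)) (u₀ + (s - u₀)) = 0 := hs'.1
      rw [hf.add_left, add_right hf, add_right hf, hN, hp u₀ hu₀, (f_eq_zero_comm hf).1 (hp u₀ hu₀)] at h1
      exact hpp (by linear_combination h1)
    obtain ⟨hn, hF, hr⟩ := extend hf hMf hU hfull hp hpp hu₀ hs'
      (fun w hw hww => fill_big hf hMf hU hgood hfull hp hu₀ hN hs' hw hww)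
    refine ih (Fintype.card ι - Module.finrank F ↥(U ⊔ Submodule.span F {s - u₀})) (by omega) _
      (hWU.trans le_sup_left) hn ?_ hF rfl
    rw [hr]; omega
  -- the projection
  have proj : ∀ s : ι → F, ∃ u₀ ∈ U, ∀ x ∈ U, f (s - u₀) x = 0 := fun s => by
    obtain ⟨u₀, hu₀, h⟩ := exists_proj hf hU s
    exact ⟨u₀, hu₀, fun x hx => (f_eq_zero_comm hf).1 (h x hx)⟩
  obtain ⟨a, -, haU, b, hbC, hbU, hab⟩ := hcross U hWU htop
  obtain ⟨u, hu, hpu⟩ := proj b
  set p := b - u with hpdef
  by_cases hpp : f p p ≠ 0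
  · exact ⟨b, hbC, u, hu, hpu, hpp⟩
  push Not at hpp
  have hb : b = u + p := by rw [hpdef, add_sub_cancel]
  have hu0 : u ≠ 0 := by
    intro h
    rw [hb, h, zero_add, ← f_eq_zero_comm hf |>.ne] at hab
    exact hab (hpu a haU)
  have hpu' : ∀ x ∈ U, f x p = 0 := fun x hx => (f_eq_zero_comm hf).1 (hpu x hx)
  have huu : f u u = 0 := by
    have := hbC.1
    rw [hb, hf.add_left, add_right hf, add_right hf, hpu u hu, hpu' u hu, hpp] at this
    linear_combination this
  have hp0 : p ≠ 0 := fun h => hbU (by rw [hb, h, add_zero]; exact hu)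
  obtain ⟨s, hsC, hps⟩ := hspan p hp0
  obtain ⟨u', hu', hpu2⟩ := proj s
  by_cases hpp' : f (s - u') (s - u') ≠ 0
  · exact ⟨s, hsC, u', hu', hpu2, hpp'⟩
  push Not at hpp'
  -- arrange a non-zero U-part
  obtain ⟨s, hsC, u', hu', hpu2, hpp', hu'0, hB⟩ : ∃ s ∈ C, ∃ u' ∈ U, (∀ x ∈ U, f (s - u') x = 0) ∧
      f (s - u') (s - u') = 0 ∧ u' ≠ 0 ∧ f p (s - u') ≠ 0 := by
    have hB : f p (s - u') ≠ 0 := by rwa [sub_right hf, hpu u' hu', sub_zero]
    by_cases hu'0 : u' = 0
    · subst hu'0
      rw [sub_zero] at hpu2 hpp' hB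
      obtain ⟨t, ht0, ht⟩ := exists_anti hf.ne_refl hf.involutive
      set l := σ (t / f p s) with hl
      have hl0 : l ≠ 0 := (map_ne_zero_iff σ σ.injective).2 (div_ne_zero ht0 hB)
      have hbs : f b s = f p s := by rw [hb, hf.add_left, (f_eq_zero_comm hf).1 (hpu2 u hu), zero_add]
      have hsp : f s p = σ (f p s) := hf.herm s p
      have hlB : σ l * f p s = t := by rw [hl, hf.involutive, div_mul_cancel₀ _ hB]
      have hlB' : l * σ (f p s) = -t := by rw [← hf.involutive l, ← map_mul, hlB, ht]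
      have hiso : f ((1 : F) • b + l • s) ((1 : F) • b + l • s) = 0 := by
        simp only [one_smul, hf.add_left, add_right hf, hf.smul_left, smul_right hf, hbC.1, hsC.1, hbs,
          show f s b = σ (f p s) by rw [hf.herm, hbs], mul_zero, zero_add, add_zero]
        linear_combination hlB + hlB'
      have e : (1 : F) • b + l • s - u = p + l • s := by rw [hb, one_smul]; abel
      refine ⟨(1 : F) • b + l • s, line_mem hf hMf hbC hsC (by rw [hbs]; exact hB) 1 l hiso, u, hu, ?_, ?_, hu0, ?_⟩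
      · intro x hx
        rw [e, hf.add_left, hf.smul_left, hpu x hx, hpu2 x hx, mul_zero, add_zero]
      · rw [e]
        simp only [hf.add_left, add_right hf, hf.smul_left, smul_right hf, hpp, hpp', hsp, mul_zero, zero_add,
          add_zero]
        linear_combination hlB + hlB'
      · rw [e, add_right hf, smul_right hf, hpp, zero_add, hlB]
        exact ht0
    · exact ⟨s, hsC, u', hu', hpu2, hpp', hu'0, hB⟩
  set p' := s - u' with hp'def
  have hs : s = u' + p' := by rw [hp'def, add_sub_cancel]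
  have hu'u' : f u' u' = 0 := by
    have := hsC.1
    rw [hs, hf.add_left, add_right hf, add_right hf, hpu2 u' hu', (f_eq_zero_comm hf).1 (hpu2 u' hu'), hpp'] at this
    linear_combination this
  set B := f p p' with hBdef
  obtain ⟨θ, hθ⟩ : ∃ θ : F, σ θ ≠ θ := by
    by_contra h
    push Not at h
    exact hf.ne_refl (RingEquiv.ext h)
  obtain ⟨g, hg, hgU, hgA, hgf⟩ := iso_product hf hU h3 hfull hu hu' hu0 hu'0 huu hu'u' (θ * B)
  set u'' := mv g u' with hu''
  have hs'' : u'' + p' ∈ C := by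
    have := hCentres_mv hf hMf hg hsC
    rwa [hs, mv_add, hgf p' hpu2] at this
  have hθ1 : 1 + θ ≠ 0 := fun h => hθ (by rw [eq_neg_of_add_eq_zero_right h, map_neg, map_one])
  have hf1 : f b (u'' + p') = (1 + θ) * B := by
    rw [hb, hf.add_left, add_right hf, add_right hf, hgA, hpu' u'' hgU |> fun h => show f p u'' = 0 from hpu u'' hgU,
      (f_eq_zero_comm hf).1 (hpu2 u hu), ← hBdef]
    ring
  obtain ⟨t, ht0, ht⟩ := exists_anti hf.ne_refl hf.involutive
  have hB1 : (1 + θ) * B ≠ 0 := mul_ne_zero hθ1 hB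
  set l := σ (t / ((1 + θ) * B)) with hl
  have hlB : σ l * ((1 + θ) * B) = t := by rw [hl, hf.involutive, div_mul_cancel₀ _ hB1]
  have hlB' : l * σ ((1 + θ) * B) = -t := by rw [← hf.involutive l, ← map_mul, hlB, ht]
  have hiso : f ((1 : F) • b + l • (u'' + p')) ((1 : F) • b + l • (u'' + p')) = 0 := by
    simp only [one_smul, hf.add_left b, add_right hf b b, add_right hf (l • (u'' + p')) b, hf.smul_left,
      smul_right hf, hbC.1, hs''.1, hf1, show f (u'' + p') b = σ ((1 + θ) * B) by rw [hf.herm, hf1]]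
    linear_combination hlB + hlB'
  refine ⟨_, line_mem hf hMf hbC hs'' (by rw [hf1]; exact hB1) 1 l hiso, u + l • u'',
    U.add_mem hu (U.smul_mem _ hgU), ?_, ?_⟩
  · intro x hx
    rw [show (1 : F) • b + l • (u'' + p') - (u + l • u'') = p + l • p' by rw [hb, one_smul, smul_add]; abel,
      hf.add_left, hf.smul_left, hpu x hx, hpu2 x hx, mul_zero, add_zero]
  · rw [show (1 : F) • b + l • (u'' + p') - (u + l • u'') = p + l • p' by rw [hb, one_smul, smul_add]; abel]
    simp only [hf.add_left, add_right hf, hf.smul_left, smul_right hf, hpp, hpp', ← hBdef,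
      show f p' p = σ B by rw [hf.herm, hBdef], mul_zero, zero_add, add_zero]
    intro h
    have hσθ : 1 + σ θ ≠ 0 := fun h => hθ1 (σ.injective (by rw [map_add, map_one, h, map_zero]))
    have e1 : σ l * B = t / (1 + θ) := by rw [eq_div_iff hθ1]; linear_combination hlB
    have e2 : l * σ B = -t / (1 + σ θ) := by
      rw [eq_div_iff hσθ]
      rw [map_mul, map_add, map_one] at hlB'
      linear_combination hlB'
    rw [e1, e2, div_add_div _ _ hθ1 hσθ, div_eq_zero_iff] at h
    rcases h with h | h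
    · exact hθ (mul_left_cancel₀ ht0 (by linear_combination h))
    · exact mul_ne_zero hθ1 hσθ h

include hMf in
theorem orth_invariant {u : GL ι F} (hu : u ∈ M) {W : Submodule F (ι → F)} (hW : ∀ v ∈ W, mv u v ∈ W) :
    ∀ z ∈ orth hf W, mv u z ∈ orth hf W := by
  intro z hz w hw
  let L : W →ₗ[F] W := ((Matrix.toLin' (u : Matrix ι ι F)).comp W.subtype).codRestrict W fun v => hW v v.2
  have hL : ∀ v, (L v : ι → F) = mv u v := fun v => rfl
  have hinj : Function.Injective L := fun a b h => Subtype.ext (mv_inj u (by rw [← hL, ← hL, h]))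
  obtain ⟨v, hv⟩ := LinearMap.injective_iff_surjective.1 hinj ⟨w, hw⟩
  have hv' : mv u (v : ι → F) = w := by rw [← hL, hv]
  rw [← hv']
  exact (hMf hu _ _).trans (hz v v.2)

/-- The generation criterion. -/
theorem all_centres (hMf : M ≤ preserving (Units.coeHom (Matrix ι ι F)) f) (u h : GL ι F) (hu : u ∈ M)
    (hw : h * u * h⁻¹ ∈ M) {e v e₂ : ι → F} (hue : mv u e = e) (he : e ∈ C)
    (hlow : ∀ W : Submodule F (ι → F), (∀ x ∈ W, mv u x ∈ W) → W ≠ ⊥ → e ∈ W)
    (hcyc : f (mv h⁻¹ e) e ≠ 0) (hv : v ∈ C) (hve : f v e ≠ 0) (hT : f (mv u v - v) (mv u v - v) ≠ 0)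
    (htwo : Nat.card (fixedField σ) = 2 → e₂ ∈ C ∧ f e₂ e = 0 ∧ mv u e₂ = e₂ - e) :
    ∀ x, f x x = 0 → x ∈ C := by
  classical
  have he0 : e ≠ 0 := fun h0 => hve (by rw [h0, zero_right hf])
  have hev : f e v ≠ 0 := fun h => hve ((f_eq_zero_comm hf).1 h)
  set y := mv u v - v with hy
  have huv : mv u v = v + y := by rw [hy, add_sub_cancel]
  have hey : f e y = 0 := by
    rw [hy, sub_right hf]
    nth_rw 1 [← hue]
    rw [show f (mv u e) (mv u v) = f e v from hMf hu e v, sub_self]
  have hye : f y e = 0 := (f_eq_zero_comm hf).1 hey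
  have hind : ∀ a b c : F, a • e + b • v + c • mv u v = 0 → a = 0 ∧ b = 0 ∧ c = 0 := by
    intro a b c hh
    have hh' : a • e + (b + c) • v + c • y = 0 := by rw [huv] at hh; rw [← hh]; module
    have h1 := congrArg (fun x => f x e) hh'
    simp only [hf.add_left, hf.smul_left, he.1, hye, zero_left hf, mul_zero, add_zero, zero_add] at h1
    have hbc : b + c = 0 := (mul_eq_zero.1 h1).resolve_right hve
    rw [hbc, zero_smul, add_zero] at hh'
    have h2 := congrArg (fun x => f x y) hh'
    simp only [hf.add_left, hf.smul_left, hey, zero_left hf, mul_zero, zero_add] at h2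
    have hc : c = 0 := (mul_eq_zero.1 h2).resolve_right hT
    subst hc
    rw [zero_smul, add_zero] at hh'
    exact ⟨(smul_eq_zero.1 hh').resolve_right he0, by simpa using hbc, rfl⟩
  set W := Submodule.span F (Set.range ![e, v, mv u v]) with hWdef
  have m : ∀ i, ![e, v, mv u v] i ∈ W := fun i => Submodule.subset_span ⟨i, rfl⟩
  have meW : e ∈ W := m 0
  have mvW : v ∈ W := m 1
  have muW : mv u v ∈ W := m 2
  have hli : LinearIndependent F ![e, v, mv u v] := by
    rw [Fintype.linearIndependent_iff]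
    intro g hg
    rw [Fin.sum_univ_three] at hg
    obtain ⟨h0, h1, h2⟩ := hind (g 0) (g 1) (g 2) hg
    intro i
    fin_cases i <;> assumption
  have h3 : Module.finrank F W = 3 := by rw [hWdef, finrank_span_eq_card hli, Fintype.card_fin]
  have hWmem : ∀ x ∈ W, ∃ a b c : F, x = a • e + b • v + c • y := by
    intro x hx
    obtain ⟨g, rfl⟩ := (Submodule.mem_span_range_iff_exists_fun F).1 hx
    refine ⟨g 0, g 1 + g 2, g 2, ?_⟩
    rw [Fin.sum_univ_three]
    simp only [Matrix.cons_val_zero, Matrix.cons_val_one, Matrix.cons_val, huv]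
    module
  have myW : y ∈ W := hy ▸ W.sub_mem muW mvW
  have hW : Nondeg hf W := (nondeg_iff hf).2 fun x hx h => by
    obtain ⟨a, b, c, rfl⟩ := hWmem x hx
    have h1 := h e meW
    simp only [add_right hf, smul_right hf, he.1, hey, mul_zero, add_zero, zero_add] at h1
    have hb : b = 0 := (map_eq_zero_iff σ σ.injective).1 ((mul_eq_zero.1 h1).resolve_right hev)
    subst hb
    have h2 := h y myW
    simp only [zero_smul, add_zero, add_right hf, smul_right hf, hye, mul_zero, zero_add] at h2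
    have hc : c = 0 := (map_eq_zero_iff σ σ.injective).1 ((mul_eq_zero.1 h2).resolve_right hT)
    subst hc
    have h3 := h v mvW
    simp only [zero_smul, add_zero, smul_right hf] at h3
    have ha : a = 0 := (map_eq_zero_iff σ σ.injective).1 ((mul_eq_zero.1 h3).resolve_right hve)
    simp [ha]
  have huvC : mv u v ∈ C := hCentres_mv hf hMf hu hv
  have hbc : f v (mv u v) ≠ 0 := by
    intro h
    apply hT
    have h' : f (mv u v) v = 0 := (f_eq_zero_comm hf).1 h
    rw [hy, sub_left hf, sub_right hf, sub_right hf, show f (mv u v) (mv u v) = f v v from hMf hu v v, hv.1, h, h']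
    ring
  have hWfull : Full hf (M := M) W := triangle hf hMf hW h3 he hv huvC meW mvW muW hbc hind
  -- irreducibility
  have hhigh : ∀ U : Submodule F (ι → F), (∀ x ∈ U, mv u x ∈ U) → ∀ z ∈ U, f z e ≠ 0 → U = ⊤ := by
    intro U hU z hz hze
    have hbot : orth hf U = ⊥ := by
      by_contra hne
      exact hze (hlow _ (orth_invariant hf hMf hu hU) hne z hz)
    rw [eq_top_iff]
    intro x _
    by_contra hx
    obtain ⟨φ, hφ, hφx⟩ := exists_dual hx
    obtain ⟨w, hw⟩ := exists_eq_f hf φ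
    have hwb : w ∈ orth hf U := fun k hk => by rw [← hw, hφ k hk]
    rw [hbot, Submodule.mem_bot] at hwb
    rw [hw, hwb, zero_right hf] at hφx
    exact zero_ne_one hφx
  have hinvspan : ∀ {S : Set (ι → F)} {k : GL ι F}, (∀ s ∈ S, mv k s ∈ S) →
      ∀ x ∈ Submodule.span F S, mv k x ∈ Submodule.span F S := by
    intro S k hk x hx
    have : Submodule.span F S ≤ (Submodule.span F S).comap (Matrix.toLin' (k : Matrix ι ι F)) :=
      Submodule.span_le.2 fun s hs => Submodule.subset_span (hk s hs)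
    exact this hx
  have hspanC : Submodule.span F C = ⊤ := by
    have hinv : ∀ k ∈ M, ∀ x ∈ Submodule.span F C, mv k x ∈ Submodule.span F C :=
      fun k hk => hinvspan fun s hs => hCentres_mv hf hMf hk hs
    let U' : Submodule F (ι → F) := (Submodule.span F C).comap (Matrix.toLin' (h : Matrix ι ι F))
    have hU' : ∀ x, x ∈ U' ↔ mv h x ∈ Submodule.span F C := fun x => Iff.rfl
    have htop : U' = ⊤ := by
      refine hhigh U' (fun x hx => ?_) (mv h⁻¹ e) ?_ hcyc
      · rw [hU'] at hx ⊢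
        have := hinv _ hw _ hx
        rwa [mv_mul, mv_mul, mv_inv_mv] at this
      · rw [hU', mv_mv_inv]; exact Submodule.subset_span he
    rw [eq_top_iff]
    intro x _
    have : mv h⁻¹ x ∈ U' := htop ▸ Submodule.mem_top
    rwa [hU', mv_mv_inv] at this
  have hspan : ∀ x : ι → F, x ≠ 0 → ∃ s ∈ C, f x s ≠ 0 := by
    intro x hx
    by_contra hcon
    push Not at hcon
    obtain ⟨z, hz⟩ := (hf.nondegenerate x hx).1
    have : Submodule.span F C ≤ LinearMap.ker (formH hf x) := Submodule.span_le.2 fun s hs => by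
      exact (f_eq_zero_comm hf).1 (hcon s hs)
    exact hz (this (hspanC ▸ Submodule.mem_top))
  -- connectivity
  let Adj : (ι → F) → (ι → F) → Prop := fun a b => a ∈ C ∧ b ∈ C ∧ f a b ≠ 0
  let S : Set (ι → F) := {x | Relation.ReflTransGen Adj e x}
  have hSu : ∀ x ∈ S, mv u x ∈ S := by
    intro x hx
    induction hx with
    | refl => change Relation.ReflTransGen Adj e (mv u e); rw [hue]
    | @tail a b _ hab ih =>
      exact Relation.ReflTransGen.tail ih ⟨hCentres_mv hf hMf hu hab.1, hCentres_mv hf hMf hu hab.2.1,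
        by rw [show f (mv u a) (mv u b) = f a b from hMf hu a b]; exact hab.2.2⟩
  have hStop : Submodule.span F S = ⊤ :=
    hhigh _ (hinvspan hSu) v (Submodule.subset_span (Relation.ReflTransGen.single ⟨he, hv, hev⟩)) hve
  have hcross : ∀ U : Submodule F (ι → F), W ≤ U → U ≠ ⊤ → ∃ a ∈ C, a ∈ U ∧ ∃ b ∈ C, b ∉ U ∧ f a b ≠ 0 := by
    intro U hWU hU
    by_contra hcon
    push Not at hcon
    apply hU
    rw [eq_top_iff, ← hStop, Submodule.span_le]
    intro x hx
    induction hx with
    | refl => exact hWU meW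
    | @tail a b _ hab ih =>
      by_contra hb
      exact hab.2.2 (hcon a hab.1 ih b hab.2.1 hb)
  by_cases hq : Nat.card (fixedField σ) = 2
  swap
  · have hq3 : 3 ≤ Nat.card (fixedField σ) := by
      have : 2 ≤ Nat.card (fixedField σ) := Finite.one_lt_card
      omega
    exact grow hf hMf hspan hcross W le_rfl hW (Or.inl ⟨hq3, h3.ge⟩) hWfull
  obtain ⟨he₂, he₂e, hue₂⟩ := htwo hq
  obtain ⟨h1, h2⟩ := two_fixed hq
  have hneg1 : -(1 : F) = 1 := by linear_combination -h2
  set T := f y y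
  set b := f e₂ y / T with hb
  set a := (f e₂ v - b * f y v) / f e v with ha
  set u₀ := a • e + b • y with hu₀def
  have he₂y : f e₂ y = f e v := by
    have h4 : f (mv u e₂) (mv u v) = f e₂ v := hMf hu e₂ v
    have h5 : f e (mv u v) = f e v := by
      nth_rw 1 [← hue]; exact hMf hu e v
    rw [hue₂, sub_left hf, h5] at h4
    rw [hy, sub_right hf]
    linear_combination h4
  have hp : ∀ x ∈ W, f (e₂ - u₀) x = 0 := by
    intro x hx
    obtain ⟨a', b', c', rfl⟩ := hWmem x hx
    have p1 : f (e₂ - u₀) e = 0 := by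
      rw [sub_left hf, hu₀def, hf.add_left, hf.smul_left, hf.smul_left, he₂e, he.1, hye]; ring
    have p2 : f (e₂ - u₀) v = 0 := by
      rw [sub_left hf, hu₀def, hf.add_left, hf.smul_left, hf.smul_left, ha, div_mul_cancel₀ _ hev]; ring
    have p3 : f (e₂ - u₀) y = 0 := by
      rw [sub_left hf, hu₀def, hf.add_left, hf.smul_left, hf.smul_left, hey, hb, div_mul_cancel₀ _ hT]; ring
    rw [add_right hf, add_right hf, smul_right hf, smul_right hf, smul_right hf, p1, p2, p3]
    ring
  have hu₀W : u₀ ∈ W := W.add_mem (W.smul_mem _ meW) (W.smul_mem _ myW)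
  have hb0 : b ≠ 0 := div_ne_zero (he₂y ▸ hev) hT
  have huu : f u₀ u₀ = 1 := by
    refine h1 _ (self_fixed hf _) ?_
    simp only [hu₀def, hf.add_left, add_right hf, hf.smul_left, smul_right hf, he.1, hey, hye, mul_zero,
      zero_add, add_zero]
    exact mul_ne_zero hb0 (mul_ne_zero ((map_ne_zero_iff σ σ.injective).2 hb0) hT)
  have hpp : f (e₂ - u₀) (e₂ - u₀) = 1 := by
    have e0 : f e₂ e₂ = 0 := he₂.1
    have h4 : f (e₂ - u₀) e₂ = f (e₂ - u₀) (e₂ - u₀) := by rw [sub_right hf _ e₂ u₀, hp u₀ hu₀W, sub_zero]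
    rw [← h4, sub_left hf, e0]
    have : f u₀ e₂ = f u₀ u₀ := by
      have h6 := (f_eq_zero_comm hf).1 (hp u₀ hu₀W)
      rw [sub_right hf, sub_eq_zero] at h6
      exact h6
    rw [this, huu, zero_sub, hneg1]
  have hs : u₀ + (e₂ - u₀) ∈ C := by rwa [add_sub_cancel]
  have hs' : u₀ + e + (e₂ - u₀) ∈ C := by
    have := hCentres_mv hf hMf hu he₂
    rw [hue₂] at this
    have e1 : u₀ + e + (e₂ - u₀) = e₂ - e := by
      have : -e = e := by rw [← neg_one_smul F e, hneg1, one_smul]
      rw [sub_eq_add_neg e₂ e, this]; abel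
    rwa [e1]
  have hue0 : f u₀ e = 0 := by
    rw [hu₀def, hf.add_left, hf.smul_left, hf.smul_left, he.1, hye]; ring
  obtain ⟨hn, hF, hr⟩ := extend hf hMf hW hWfull hp (by rw [hpp]; exact one_ne_zero) hu₀W hs
    (fun w hw' hww => fill_two hf hMf hq hW h3 hWfull hp hpp hu₀W huu meW he0 he.1 hue0 hs hs' hw'
      (hww.trans huu))
  exact grow hf hMf hspan hcross _ le_sup_left hn (Or.inr (by rw [hr, h3])) hF

end Cfsg.Agent.SUGen
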