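/-
Consequences of regularity for a unipotent isometry of a Hermitian form in odd dimension.
-/
import Cfsg.Agent.Lib.Generation.SUExtend
set_option autoImplicit false
set_option linter.unusedSectionVars false

namespace Cfsg.Agent.SUGen

open scoped Matrix
open Matrix Cfsg.Agent.Transvec Cfsg.Agent.Transvec.Herm

variable {ι : Type} [Fintype ι] [DecidableEq ι] {F : Type*} [Field F] [Finite F]
variable {σ : F ≃+* F} {f : (ι → F) → (ι → F) → F}

/-- The iterate of u - 1. -/
noncomputable def NP (u : GL ι F) (k : ℕ) : (ι → F) →ₗ[F] (ι → F) :=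
  Matrix.toLin' (((u : Matrix ι ι F) - 1) ^ k)

variable {u : GL ι F}

theorem NP_zero (x : ι → F) : NP u 0 x = x := by simp [NP]

theorem NP_one (x : ι → F) : NP u 1 x = mv u x - x := by simp [NP, mv, Matrix.sub_mulVec]

theorem NP_add (a b : ℕ) (x : ι → F) : NP u (a + b) x = NP u a (NP u b x) := by
  simp [NP, pow_add]

theorem NP_succ (a : ℕ) (x : ι → F) : NP u (a + 1) x = mv u (NP u a x) - NP u a x := by
  rw [add_comm, NP_add, NP_one]

theorem NP_comm (k : ℤ) (a : ℕ) (x : ι → F) : NP u a (mv (u ^ k) x) = mv (u ^ k) (NP u a x) := by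
  induction a with
  | zero => rw [NP_zero, NP_zero]
  | succ a ih =>
    rw [NP_succ, NP_succ, ih, mv_sub, ← mv_mul, ← mv_mul, (Commute.self_zpow u k).eq]

/-- The data of a regular unipotent isometry. -/
structure Reg (σ : F ≃+* F) (f : (ι → F) → (ι → F) → F) (u : GL ι F) (n m : ℕ) (e e₂ b₂ v xh : ι → F) :
    Prop where
  form : Geo.IsUnitaryForm σ f
  card : Fintype.card ι = n
  dim : n = 2 * m + 1
  two_le : 2 ≤ m
  iso : u ∈ preserving (Units.coeHom (Matrix ι ι F)) f
  nil : ∀ x, NP u n x = 0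
  e_def : e = NP u (n - 1) xh
  e₂_def : e₂ = -NP u (n - 2) xh
  b₂_def : b₂ = NP u (n - 3) xh
  v_def : v = NP u m xh
  e_ne : e ≠ 0

variable {n m : ℕ} {e e₂ b₂ v xh : ι → F} (R : Reg σ f u n m e e₂ b₂ v xh)

include R

theorem shift_one (x y : ι → F) : f (mv u x) y = f x (mv u⁻¹ y) := by
  conv_lhs => rw [← mv_mv_inv u y]
  exact R.iso x (mv u⁻¹ y)

theorem NP_shift (a b : ℕ) (x y : ι → F) :
    f (NP u (a + 1) x) (NP u b y) = -f (NP u a x) (NP u (b + 1) (mv u⁻¹ y)) := by
  rw [NP_succ, NP_succ, sub_left R.form, sub_right R.form, shift_one R]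
  have e1 : NP u b (mv u⁻¹ y) = mv u⁻¹ (NP u b y) := by
    have := NP_comm (u := u) (-1) b y
    rwa [_root_.zpow_neg_one] at this
  rw [e1, mv_mv_inv]
  ring

theorem NP_big {a : ℕ} (ha : n ≤ a) (x : ι → F) : NP u a x = 0 := by
  obtain ⟨c, rfl⟩ := Nat.exists_eq_add_of_le ha
  rw [add_comm, NP_add, R.nil, map_zero]

theorem f_NP_zero : ∀ (a b : ℕ) (x y : ι → F), n ≤ a + b → f (NP u a x) (NP u b y) = 0 := by
  intro a
  induction a with
  | zero => intro b x y h; rw [NP_big R (a := b) (by omega) y, zero_right R.form]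
  | succ a ih => intro b x y h; rw [NP_shift R, ih (b + 1) _ _ (by omega), neg_zero]

theorem f_NP_shift (a b : ℕ) (x y : ι → F) :
    f (NP u a x) (NP u b y) = (-1) ^ a * f x (NP u (a + b) (mv (u ^ (-(a : ℤ))) y)) := by
  induction a generalizing b y with
  | zero => simp [NP_zero, mv_one]
  | succ a ih =>
    rw [NP_shift R, ih, show a + (b + 1) = a + 1 + b by omega, pow_succ,
      show (mv (u ^ (-(a : ℤ))) (mv u⁻¹ y)) = mv (u ^ (-((a + 1 : ℕ) : ℤ))) y by
        rw [← mv_mul, ← _root_.zpow_neg_one, ← _root_.zpow_add]; congr 2; push_cast; ring]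
    ring

theorem u_e : mv u e = e := by
  have h := R.nil xh
  have hn : n = n - 1 + 1 := by have := R.dim; omega
  rw [hn, NP_succ, ← R.e_def, sub_eq_zero] at h
  exact h

theorem zpow_e : ∀ k : ℤ, mv (u ^ k) e = e := by
  intro k
  induction k using Int.induction_on with
  | zero => rw [_root_.zpow_zero, mv_one]
  | succ i ih => rw [_root_.zpow_add, _root_.zpow_one, mv_mul, u_e R, ih]
  | pred i ih =>
    rw [_root_.zpow_sub, _root_.zpow_one, mv_mul]
    have : mv u⁻¹ e = e := by
      conv_lhs => rw [← u_e R]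
      rw [mv_inv_mv]
    rw [this, ih]

theorem inv_e : mv u⁻¹ e = e := by
  have := zpow_e R (-1)
  rwa [_root_.zpow_neg_one] at this

theorem u_e₂ : mv u e₂ = e₂ - e := by
  have h : NP u (n - 2 + 1) xh = e := by
    rw [R.e_def]; congr 1; congr 1; have := R.dim; have := R.two_le; omega
  rw [NP_succ] at h
  rw [R.e₂_def, mv_neg, ← h]
  abel

theorem u_b₂ : mv u b₂ = b₂ - e₂ := by
  have h : NP u (n - 3 + 1) xh = -e₂ := by
    rw [R.e₂_def, neg_neg]; congr 1; congr 1; have := R.dim; have := R.two_le; omega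
  rw [NP_succ] at h
  rw [R.b₂_def, eq_neg_iff_add_eq_zero] at *
  linear_combination (norm := module) h

theorem f_ee : f e e = 0 := by
  have := R.dim; have := R.two_le
  rw [R.e_def]; exact f_NP_zero R _ _ _ _ (by omega)

theorem f_e₂e : f e₂ e = 0 := by
  have := R.dim; have := R.two_le
  rw [R.e₂_def, neg_left R.form, R.e_def, f_NP_zero R _ _ _ _ (by omega), neg_zero]

theorem f_ee₂ : f e e₂ = 0 := (f_eq_zero_comm R.form).1 (f_e₂e R)

theorem f_e₂e₂ : f e₂ e₂ = 0 := by
  have := R.dim; have := R.two_le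
  rw [R.e₂_def, neg_left R.form, neg_right R.form, f_NP_zero R _ _ _ _ (by omega), neg_zero, neg_zero]

theorem f_b₂e : f b₂ e = 0 := by
  have := R.dim; have := R.two_le
  rw [R.b₂_def, R.e_def]; exact f_NP_zero R _ _ _ _ (by omega)

theorem f_eb₂ : f e b₂ = 0 := (f_eq_zero_comm R.form).1 (f_b₂e R)

theorem f_b₂e₂ : f b₂ e₂ = 0 := by
  have := R.dim; have := R.two_le
  rw [R.b₂_def, R.e₂_def, neg_right R.form, f_NP_zero R _ _ _ _ (by omega), neg_zero]

theorem f_e₂b₂ : f e₂ b₂ = 0 := (f_eq_zero_comm R.form).1 (f_b₂e₂ R)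

theorem f_ve : f v e = 0 := by
  have := R.dim; have := R.two_le
  rw [R.v_def, R.e_def]; exact f_NP_zero R _ _ _ _ (by omega)

theorem f_ve₂ : f v e₂ = 0 := by
  have := R.dim; have := R.two_le
  rw [R.v_def, R.e₂_def, neg_right R.form, f_NP_zero R _ _ _ _ (by omega), neg_zero]

theorem li_iter {x : ι → F} (hx : NP u (n - 1) x ≠ 0) :
    LinearIndependent F fun i : Fin n => NP u (i : ℕ) x := by
  rw [Fintype.linearIndependent_iff]
  intro g hg
  suffices H : ∀ k : ℕ, ∀ i : Fin n, (i : ℕ) = k → g i = 0 from fun i => H i i rfl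
  intro k
  induction k using Nat.strong_induction_on with
  | _ k ih =>
    intro i hi
    have h := congrArg (NP u (n - 1 - k)) hg
    rw [map_sum, map_zero, Finset.sum_eq_single i] at h
    · rw [map_smul, ← NP_add, show n - 1 - k + (i : ℕ) = n - 1 by have := i.isLt; omega] at h
      exact (smul_eq_zero.1 h).resolve_right hx
    · intro j _ hj
      rw [map_smul]
      rcases lt_trichotomy (j : ℕ) k with hlt | heq | hgt
      · rw [ih j hlt j rfl, zero_smul]
      · exact absurd (Fin.ext (heq.trans hi.symm)) hj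
      · rw [← NP_add, NP_big R (by have := i.isLt; omega), smul_zero]
    · simp

theorem exists_decomp (x : ι → F) : ∃ (c : F) (z : ι → F), x = c • xh + NP u 1 z := by
  have hn : 0 < n := by have := R.dim; omega
  haveI : Nonempty (Fin n) := ⟨⟨0, hn⟩⟩
  have hli := li_iter R (x := xh) (R.e_def ▸ R.e_ne)
  have hspan := hli.span_eq_top_of_card_eq_finrank' (by rw [Module.finrank_pi, Fintype.card_fin, R.card])
  have hx : x ∈ Submodule.span F (Set.range fun i : Fin n => NP u (i : ℕ) xh) := hspan ▸ Submodule.mem_top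
  obtain ⟨g, rfl⟩ := (Submodule.mem_span_range_iff_exists_fun F).1 hx
  refine ⟨g ⟨0, hn⟩, ∑ i : Fin n, (if (i : ℕ) = 0 then 0 else g i) • NP u ((i : ℕ) - 1) xh, ?_⟩
  rw [map_sum, ← Finset.add_sum_erase _ _ (Finset.mem_univ (⟨0, hn⟩ : Fin n))]
  congr 1
  · rw [NP_zero]
  · rw [← Finset.add_sum_erase _ _ (Finset.mem_univ (⟨0, hn⟩ : Fin n))]
    simp only [if_pos, zero_smul, map_zero, zero_add]
    refine Finset.sum_congr rfl fun i hi => ?_
    have hi0 : (i : ℕ) ≠ 0 := fun h => (Finset.mem_erase.1 hi).1 (Fin.ext h)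
    rw [if_neg hi0, map_smul, ← NP_add, show 1 + ((i : ℕ) - 1) = i by omega]

theorem f_Ne (z : ι → F) : f (NP u 1 z) e = 0 := by
  have := R.dim
  rw [R.e_def]; exact f_NP_zero R _ _ _ _ (by omega)

theorem f_xh_e : f xh e ≠ 0 := by
  intro h
  refine R.e_ne ?_
  obtain ⟨x, hx⟩ | hcon := Classical.em (∃ x, f x e ≠ 0)
  · exfalso
    obtain ⟨c, z, rfl⟩ := exists_decomp R x
    rw [R.form.add_left, R.form.smul_left, h, f_Ne R, mul_zero, add_zero] at hx
    exact hx rfl
  · by_contra hne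
    obtain ⟨z, hz⟩ := (R.form.nondegenerate e hne).1
    exact hcon ⟨z, hz⟩

theorem NP_top {x : ι → F} (hx : f x e ≠ 0) : ∃ c : F, c ≠ 0 ∧ NP u (n - 1) x = c • e := by
  obtain ⟨c, z, rfl⟩ := exists_decomp R x
  refine ⟨c, fun h => hx ?_, ?_⟩
  · rw [h, zero_smul, zero_add, f_Ne R]
  · rw [map_add, map_smul, ← R.e_def, ← NP_add, NP_big R (by omega), add_zero]

theorem li_of {x : ι → F} (hx : f x e ≠ 0) : LinearIndependent F fun i : Fin n => NP u (i : ℕ) x := by
  obtain ⟨c, hc, h⟩ := NP_top R hx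
  exact li_iter R (by rw [h]; exact smul_ne_zero hc R.e_ne)

theorem ker_line {w : ι → F} (h : mv u w = w) : ∃ k : F, w = k • e := by
  have hn : 0 < n := by have := R.dim; omega
  have hli := li_iter R (x := xh) (R.e_def ▸ R.e_ne)
  haveI : Nonempty (Fin n) := ⟨⟨0, hn⟩⟩
  have hspan := hli.span_eq_top_of_card_eq_finrank' (by rw [Module.finrank_pi, Fintype.card_fin, R.card])
  have hw : w ∈ Submodule.span F (Set.range fun i : Fin n => NP u (i : ℕ) xh) := hspan ▸ Submodule.mem_top
  obtain ⟨g, rfl⟩ := (Submodule.mem_span_range_iff_exists_fun F).1 hw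
  have h1 : NP u 1 (∑ i : Fin n, g i • NP u (i : ℕ) xh) = 0 := by rw [NP_one, h, sub_self]
  have hz : ∀ k : ℕ, k < n - 1 → ∀ i : Fin n, (i : ℕ) = k → g i = 0 := by
    intro k
    induction k using Nat.strong_induction_on with
    | _ k ih =>
      intro hk i hi
      have h := congrArg (NP u (n - 1 - (k + 1))) h1
      rw [map_sum, map_sum, map_zero, Finset.sum_eq_single i] at h
      · rw [map_smul, map_smul, ← NP_add, ← NP_add,
          show n - 1 - (k + 1) + 1 + (i : ℕ) = n - 1 by omega, ← R.e_def] at h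
        exact (smul_eq_zero.1 h).resolve_right R.e_ne
      · intro j _ hj
        rw [map_smul, map_smul]
        rcases lt_trichotomy (j : ℕ) k with hlt | heq | hgt
        · rw [ih j hlt (by omega) j rfl, zero_smul]
        · exact absurd (Fin.ext (heq.trans hi.symm)) hj
        · rw [← NP_add, ← NP_add, NP_big R (by omega), smul_zero]
      · simp
  refine ⟨g ⟨n - 1, by omega⟩, ?_⟩
  rw [Finset.sum_eq_single (⟨n - 1, by omega⟩ : Fin n)]
  · rw [R.e_def]
  · intro j _ hj
    rw [hz j (lt_of_le_of_ne (by have := j.isLt; omega) fun h => hj (Fin.ext h)) j rfl, zero_smul]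
  · simp

theorem low (W : Submodule F (ι → F)) (hW : ∀ x ∈ W, mv u x ∈ W) (hne : W ≠ ⊥) : e ∈ W := by
  classical
  obtain ⟨w, hw, hw0⟩ := W.ne_bot_iff.1 hne
  have hmem : ∀ k, NP u k w ∈ W := by
    intro k
    induction k with
    | zero => rwa [NP_zero]
    | succ k ih => rw [NP_succ]; exact W.sub_mem (hW _ ih) ih
  have hex : ∃ k, NP u k w = 0 := ⟨n, R.nil w⟩
  have h0 : Nat.find hex ≠ 0 := fun h => hw0 (by
    have := Nat.find_spec hex
    rwa [h, NP_zero] at this)
  obtain ⟨k, hk⟩ := Nat.exists_eq_succ_of_ne_zero h0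
  have hnz : NP u k w ≠ 0 := Nat.find_min hex (by omega)
  have hfix : mv u (NP u k w) = NP u k w := by
    have := Nat.find_spec hex
    rwa [hk, NP_succ, sub_eq_zero] at this
  obtain ⟨c, hc⟩ := ker_line R hfix
  have hc0 : c ≠ 0 := fun h => hnz (by rw [hc, h, zero_smul])
  have := W.smul_mem c⁻¹ (hmem k)
  rwa [hc, smul_smul, inv_mul_cancel₀ hc0, one_smul] at this

theorem f_vv : f v v ≠ 0 := by
  rw [R.v_def, f_NP_shift R, NP_comm, show m + m = n - 1 by have := R.dim; omega, ← R.e_def, zpow_e R]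
  exact mul_ne_zero (pow_ne_zero _ (neg_ne_zero.2 one_ne_zero)) (f_xh_e R)

/-- The twisted Gram values. -/
def PV (f : (ι → F) → (ι → F) → F) (u : GL ι F) (i : ℕ) (x : ι → F) : F := f x (mv (u ^ i) x) - f x x

/-- Moving the first three Gram values along a line. -/
theorem exists_shift {x : ι → F} (hx : f x e = 1) (z : F) :
    ∃ x', f x' x' = 0 ∧ f x' e = 1 ∧ f x' e₂ = f x e₂ ∧ f x' (mv u x') = PV f u 1 x + z ∧
      f x' (mv (u ^ 2) x') = PV f u 2 x + (3 * z + σ z) ∧
      f x' (mv (u ^ 3) x') = PV f u 3 x + (6 * z + 3 * σ z) := by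
  have hf := R.form
  have hex : f e x = 1 := by rw [hf.herm, hx, map_one]
  set B := f x e₂ with hB
  have hBc : f e₂ x = σ B := hf.herm _ _
  set w₀ := z • b₂ + (σ z * B) • e₂ with hw₀
  obtain ⟨κ, hκ⟩ := exists_trace hf.ne_refl hf.involutive (-f (x + w₀) (x + w₀))
    (by rw [map_neg, self_fixed hf])
  have hw₀e : f w₀ e = 0 := by
    rw [hw₀, hf.add_left, hf.smul_left, hf.smul_left, f_b₂e R, f_e₂e R]; ring
  set x' := x + w₀ + κ • e with hx'
  have hxe : f x' e = 1 := by
    rw [hx', hf.add_left, hf.add_left, hf.smul_left, hx, hw₀e, f_ee R]; ring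
  have hiso : f x' x' = 0 := by
    rw [hx', hf.add_left (x + w₀), add_right hf, add_right hf _ (x + w₀) (κ • e), hf.smul_left, smul_right hf,
      smul_right hf, hf.smul_left, f_ee R, hf.add_left x w₀ e, hx, hw₀e,
      show f e (x + w₀) = 1 by rw [hf.herm, hf.add_left, hx, hw₀e, add_zero, map_one]]
    linear_combination hκ
  have hxe₂ : f x' e₂ = B := by
    rw [hx', hf.add_left, hf.add_left, hf.smul_left, ← hB, hw₀, hf.add_left, hf.smul_left, hf.smul_left,
      f_b₂e₂ R, f_e₂e₂ R, f_ee₂ R]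
    ring
  have hp : ∀ (i : ℕ), mv (u ^ i) e = e ∧ mv (u ^ i) e₂ = e₂ - (i : F) • e ∧
      mv (u ^ i) b₂ = b₂ - (i : F) • e₂ + ((i.choose 2 : ℕ) : F) • e := by
    intro i
    induction i with
    | zero => simp [mv_one]
    | succ i ih =>
      obtain ⟨h1, h2, h3⟩ := ih
      refine ⟨by rw [pow_succ', mv_mul, h1, u_e R], ?_, ?_⟩
      · rw [pow_succ', mv_mul, h2, mv_sub, mv_smul, u_e R, u_e₂ R]
        push_cast; module
      · rw [pow_succ', mv_mul, h3, mv_add, mv_sub, mv_smul, mv_smul, u_e R, u_e₂ R, u_b₂ R,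
          Nat.choose_succ_succ', Nat.choose_one_right]
        push_cast; module
  have hiso' : ∀ (i : ℕ) (p q : ι → F), f (mv (u ^ i) p) (mv (u ^ i) q) = f p q := fun i p q =>
    (pow_mem R.iso i) p q
  have gen : ∀ i : ℕ, f x' (mv (u ^ i) x') = PV f u i x +
      ((((i + 1).choose 2 : ℕ) : F) * z + ((i.choose 2 : ℕ) : F) * σ z) := by
    intro i
    obtain ⟨h1, h2, h3⟩ := hp i
    have e1 : f e (mv (u ^ i) x) = 1 := by
      have h := hiso' i e x; rw [h1, hex] at h; exact h
    have e2 : f e₂ (mv (u ^ i) x) = σ B + (i : F) := by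
      have h := hiso' i e₂ x
      rw [h2, sub_left hf, hf.smul_left, e1, hBc] at h
      linear_combination h
    have e3 : f b₂ (mv (u ^ i) x) = f b₂ x + (i : F) * σ B + (((i + 1).choose 2 : ℕ) : F) := by
      have h := hiso' i b₂ x
      rw [h3, hf.add_left, sub_left hf, hf.smul_left, hf.smul_left, e1, e2] at h
      have : ((i.choose 2 : ℕ) : F) * 2 + (i : F) = (i : F) * i := by
        have hh : ∀ j : ℕ, j.choose 2 * 2 + j = j * j := by
          intro j
          clear * -
          induction j with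
          | zero => simp
          | succ k ihk => rw [Nat.choose_succ_succ', Nat.choose_one_right]; linarith [ihk, show (k + 1) * (k + 1) = k * k + 2 * k + 1 by ring]
        exact_mod_cast congrArg (fun t : ℕ => (t : F)) (hh i)
      rw [Nat.choose_succ_succ', Nat.choose_one_right]
      push_cast
      linear_combination h - this
    have hexp : mv (u ^ i) x' = mv (u ^ i) x + z • (b₂ - (i : F) • e₂ + ((i.choose 2 : ℕ) : F) • e) +
        (σ z * B) • (e₂ - (i : F) • e) + κ • e := by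
      rw [hx', hw₀, mv_add, mv_add, mv_add, mv_smul, mv_smul, mv_smul, h1, h2, h3]; abel
    have hxx : f x x + (σ z * f x b₂ + z * σ B * B + z * f b₂ x + σ z * B * σ B + σ κ + κ + z * σ z * f b₂ b₂) = 0 := by
      have h := hiso
      simp only [hx', hw₀, hf.add_left, add_right hf, hf.smul_left, smul_right hf, map_mul, hf.involutive,
        f_ee R, f_ee₂ R, f_e₂e R, f_e₂e₂ R, f_b₂e R, f_eb₂ R, f_b₂e₂ R, f_e₂b₂ R, hx, hex, ← hB, hBc] at h
      linear_combination h
    rw [hexp, hx', hw₀]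
    simp only [hf.add_left, add_right hf, sub_right hf, hf.smul_left, smul_right hf, map_mul, hf.involutive,
      map_natCast, f_ee R, f_ee₂ R, f_e₂e R, f_e₂e₂ R, f_b₂e R, f_eb₂ R, f_b₂e₂ R, f_e₂b₂ R, e1, e2, e3, hx,
      ← hB, PV]
    linear_combination hxx
  refine ⟨x', hiso, hxe, hxe₂, ?_, ?_, ?_⟩
  · have := gen 1; simpa [Nat.choose] using this
  · have := gen 2; simpa [Nat.choose] using this
  · have := gen 3; simpa [Nat.choose] using this

end Cfsg.Agent.SUGen
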