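/-
A regular unipotent element of the special unitary group of the standard Hermitian form.
-/
import Cfsg.Agent.Lib.Spectra.UnitaryTori
import Cfsg.Agent.Lib.Transvec.HermStd
set_option autoImplicit false

namespace Cfsg.Agent.SUGen

open Polynomial Matrix UnitarySpectra

variable {F : Type*} [Field F] [Fintype F]

theorem exists_regular {n q : ℕ} (hF : Fintype.card F = q ^ 2) (hn : 1 ≤ n) :
    ∃ s : Cfsg.SU n F q, (((s : Matrix.SpecialLinearGroup (Fin n) F) : Matrix (Fin n) (Fin n) F) - 1) ^ n = 0 ∧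
      (((s : Matrix.SpecialLinearGroup (Fin n) F) : Matrix (Fin n) (Fin n) F) - 1) ^ (n - 1) ≠ 0 := by
  classical
  obtain ⟨σ, hσ, -, hf⟩ := Cfsg.Agent.Transvec.Herm.exists_unitary_std (n := n) hF (by omega)
  have hσσ : ∀ x, σ (σ x) = x := hf.involutive
  have hσ2 : orderOf σ = 2 := orderOf_eq_prime (RingEquiv.ext fun x => by rw [pow_two]; exact hσσ x) hf.ne_refl
  obtain ⟨μ, hμ⟩ : ∃ μ, σ μ ≠ μ := by
    by_contra h
    push Not at h
    exact hf.ne_refl (RingEquiv.ext h)
  obtain ⟨p, hp⟩ := CharP.exists F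
  have hpp : p.Prime := (CharP.char_is_prime_or_zero F p).resolve_right fun h => by
    subst h
    have := CharP.charP_to_charZero F
    exact not_finite F
  haveI := Fact.mk hpp
  obtain ⟨R, hR⟩ : ∃ R : F[X], R = X ^ n := ⟨_, rfl⟩
  have hmon : R.Monic := hR ▸ monic_X_pow _
  have : Nontrivial (AdjoinRoot R) := AdjoinRoot.nontrivial _ (by
    rw [hR, degree_X_pow]; exact_mod_cast (by omega : n ≠ 0))
  have : CharP (AdjoinRoot R) p :=
    charP_of_injective_algebraMap (algebraMap F (AdjoinRoot R)).injective p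
  have : Module.Finite F (AdjoinRoot R) := hmon.finite_adjoinRoot
  have hdim : Module.finrank F (AdjoinRoot R) = n := by rw [hR]; exact Spectra.finrank_adjoinRoot_X_pow n
  have hη : (AdjoinRoot.root R) ^ n = 0 := by
    have h := AdjoinRoot.mk_self (f := R)
    conv_lhs at h => arg 2; rw [hR]
    simpa using h
  have hη' : (AdjoinRoot.root R) ^ (n - 1) ≠ 0 := by
    rw [show AdjoinRoot.root R = AdjoinRoot.mk R X from rfl, ← map_pow, Ne, AdjoinRoot.mk_eq_zero]
    intro h
    have := natDegree_le_of_dvd h (pow_ne_zero _ X_ne_zero)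
    rw [hR] at this
    simp at this
    omega
  have hdv : R ∣ R.map σ.toRingHom := by rw [hR]; simp
  obtain ⟨τ, hτd⟩ : ∃ τ : AdjoinRoot R →+* AdjoinRoot R,
      τ = AdjoinRoot.map σ.toRingHom R R hdv := ⟨_, rfl⟩
  have hτr : τ (AdjoinRoot.root R) = AdjoinRoot.root R := by simp [hτd]
  have hτl : ∀ c, τ (algebraMap F _ c) = algebraMap F (AdjoinRoot R) (σ c) := fun c => by
    rw [AdjoinRoot.algebraMap_eq]; simp [hτd]
  have hτmk : ∀ P : F[X], τ (AdjoinRoot.mk R P) = AdjoinRoot.mk R (P.map σ.toRingHom) := by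
    intro P
    induction P using Polynomial.induction_on' with
    | add a b ha hb => rw [map_add, map_add, Polynomial.map_add, map_add, ha, hb]
    | monomial i c =>
      rw [Polynomial.map_monomial, ← C_mul_X_pow_eq_monomial, ← C_mul_X_pow_eq_monomial]
      simp only [map_mul, map_pow, AdjoinRoot.mk_C, AdjoinRoot.mk_X, hτr]
      rw [← AdjoinRoot.algebraMap_eq, hτl]
      rfl
  have hττ : ∀ x, τ (τ x) = x := by
    intro x
    induction x using AdjoinRoot.induction_on with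
    | ih P =>
      rw [hτmk, hτmk, Polynomial.map_map]
      congr 1
      rw [show σ.toRingHom.comp σ.toRingHom = RingHom.id F from RingHom.ext hσσ, Polynomial.map_id]
  let ℓ : AdjoinRoot R →ₗ[F] F := (lcoeff F (n - 1)).comp (AdjoinRoot.modByMonicHom hmon)
  have hℓmk : ∀ P : F[X], ℓ (AdjoinRoot.mk R P) = P.coeff (n - 1) := by
    intro P
    show (AdjoinRoot.modByMonicHom hmon (AdjoinRoot.mk R P)).coeff (n - 1) = _
    rw [AdjoinRoot.modByMonicHom_mk, modByMonic_eq_sub_mul_div, coeff_sub]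
    have : (R * (P /ₘ R)).coeff (n - 1) = 0 := by
      conv_lhs => arg 1; arg 1; rw [hR]
      rw [mul_comm, coeff_mul_X_pow']
      simp; omega
    rw [this, sub_zero]
  have hunit : ∀ c : F, IsUnit (1 + algebraMap F (AdjoinRoot R) c * AdjoinRoot.root R) := fun c =>
    IsNilpotent.isUnit_one_add ⟨n, by rw [mul_pow, hη, mul_zero]⟩
  obtain ⟨v, hv⟩ := hunit μ
  obtain ⟨w, hw⟩ := hunit (σ μ)
  have hℓτ : ∀ x, ℓ (τ x) = σ (ℓ x) := by
    intro x
    induction x using AdjoinRoot.induction_on with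
    | ih P => rw [hτmk, hℓmk, hℓmk, coeff_map]; rfl
  have hnd : ∀ x, (∀ y, ℓ (x * y) = 0) → x = 0 := by
    intro x hx
    induction x using AdjoinRoot.induction_on with
    | ih P =>
      rw [AdjoinRoot.mk_eq_zero, hR, X_pow_dvd_iff]
      intro i hi
      have h := hx (AdjoinRoot.mk R (X ^ (n - 1 - i)))
      rw [← map_mul, hℓmk, coeff_mul_X_pow', if_pos (by omega)] at h
      rwa [show n - 1 - (n - 1 - i) = i by omega] at h
  have e1 : τ (v : AdjoinRoot R) = w := by rw [hv, map_add, map_one, map_mul, hτl, hτr, hw]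
  have e2 : τ (w : AdjoinRoot R) = v := by rw [hw, map_add, map_one, map_mul, hτl, hτr, hσσ, hv]
  have e3 : τ ((w⁻¹ : (AdjoinRoot R)ˣ) : AdjoinRoot R) = (v⁻¹ : (AdjoinRoot R)ˣ) := by
    apply v.isUnit.mul_left_cancel
    rw [Units.mul_inv, ← e2, ← map_mul, Units.mul_inv, map_one]
  set u : AdjoinRoot R := (v : AdjoinRoot R) * ((w⁻¹ : (AdjoinRoot R)ˣ) : AdjoinRoot R) with hudef
  have hu : τ u * u = 1 := by
    rw [hudef, map_mul, e1, e3]
    rw [show (w : AdjoinRoot R) * ↑v⁻¹ * (↑v * ↑w⁻¹) = (↑v * ↑v⁻¹) * (↑w * ↑w⁻¹) by ring,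
      Units.mul_inv, Units.mul_inv, one_mul]
  have hd : u - 1 = algebraMap F _ (μ - σ μ) * AdjoinRoot.root R * ((w⁻¹ : (AdjoinRoot R)ˣ) : AdjoinRoot R) := by
    rw [hudef, ← Units.mul_inv w, ← sub_mul, hv, hw, map_sub]
    ring
  have hun : (u - 1) ^ n = 0 := by rw [hd, mul_pow, mul_pow, hη, mul_zero, zero_mul]
  have hun' : (u - 1) ^ (n - 1) ≠ 0 := by
    intro h
    apply hη'
    rw [hd, mul_pow, mul_pow, ← Units.val_pow_eq_pow_val, (Units.isUnit _).mul_left_eq_zero] at h
    exact (((IsUnit.map (algebraMap F (AdjoinRoot R)) (Ne.isUnit (sub_ne_zero.2 (Ne.symm hμ)))).pow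
      (n - 1)).mul_right_eq_zero).1 h
  have hN : Algebra.norm F u = 1 := by
    refine Spectra.eq_one_of_pow_char_pow p (T := n) ?_
    rw [← map_pow, show u ^ p ^ n = 1 from ?_, map_one]
    have : (u - 1) ^ p ^ n = 0 := pow_eq_zero_of_le (Nat.lt_pow_self hpp.one_lt).le hun
    rwa [sub_pow_char_pow, one_pow, sub_eq_zero] at this
  obtain ⟨b, hb⟩ := exists_model σ hσ2 hdim τ hττ hτl ℓ hℓτ hnd
  obtain ⟨s, hs⟩ := exists_mem_SU (q := q) σ hσ (M := Algebra.leftMulMatrix b u)
    (by rw [hb, ← map_mul, hu, map_one]) (by rw [← Algebra.norm_eq_matrix_det, hN])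
  refine ⟨s, ?_, ?_⟩
  · rw [hs, ← map_one (Algebra.leftMulMatrix b), ← map_sub, ← map_pow, hun, map_zero]
  · rw [hs, ← map_one (Algebra.leftMulMatrix b), ← map_sub, ← map_pow]
    exact fun h => hun' (Algebra.leftMulMatrix_injective b (h.trans (map_zero _).symm))

end Cfsg.Agent.SUGen
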