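/-
A spanning connected set of symplectic transvection centres consists of all vectors, once the quadratic form case
over the field with two elements is excluded by one good pair.
-/
import Cfsg.Agent.Lib.Transvec.Alt
set_option autoImplicit false
set_option linter.unusedSectionVars false

namespace Cfsg.Agent.SpCentres

open scoped Matrix
open Matrix Transvec

/-- Closure of types under the two addition rules reaches (0,1,1). -/
theorem types_closure (T : Bool → Bool → Bool → Bool)
    (h1 : ∀ a b d a' b' d', T a b d = true → T a' b' d' = true → (a || b) = true → (a' || b') = true →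
      T (xor a a') (xor b b') (xor d d') = true)
    (h2 : ∀ a b a' b', T a b true = true → T a' b' true = true →
      T (xor a a') (xor b b') false = true)
    (h3 : ∃ b, T true b true = true)
    (h4 : ∃ a b, T a b (!a) = true) (h5 : ∃ a d, T a (!a) d = true) (h6 : ∃ a d, T a true d = true) :
    T false true true = true := by
  obtain ⟨x, hx⟩ := h3
  obtain ⟨a, b, hy⟩ := h4
  obtain ⟨a', d', hz⟩ := h5
  obtain ⟨a'', d'', hw⟩ := h6
  cases x <;> cases a <;> cases b <;> cases a' <;> cases d' <;> cases a'' <;> cases d''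
  · have k1 : T true false false = true := h2 _ _ _ _ hx hy
    have k2 : T true true true = true := h1 _ _ _ _ _ _ hx hz rfl rfl
    have k4 : T false true true = true := h1 _ _ _ _ _ _ k1 k2 rfl rfl
    exact k4
  · exact hw
  · have k3 : T false true true = true := h1 _ _ _ _ _ _ hx hw rfl rfl
    exact k3
  · have k2 : T true true false = true := h2 _ _ _ _ hy hw
    have k3 : T false true true = true := h1 _ _ _ _ _ _ hx k2 rfl rfl
    exact k3
  · exact hz
  · exact hz
  · exact hz
  · exact hz
  · have k2 : T true true false = true := h1 _ _ _ _ _ _ hz hw rfl rfl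
    have k3 : T false true true = true := h1 _ _ _ _ _ _ hx k2 rfl rfl
    exact k3
  · exact hw
  · have k1 : T false true true = true := h1 _ _ _ _ _ _ hx hw rfl rfl
    exact k1
  · have k3 : T false true true = true := h1 _ _ _ _ _ _ hz hw rfl rfl
    exact k3
  · have k1 : T true false false = true := h2 _ _ _ _ hx hy
    have k2 : T true true true = true := h1 _ _ _ _ _ _ hx hw rfl rfl
    have k4 : T false true true = true := h1 _ _ _ _ _ _ k1 k2 rfl rfl
    exact k4
  · exact hw
  · have k2 : T false true true = true := h1 _ _ _ _ _ _ hx hw rfl rfl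
    exact k2
  · have k3 : T true true false = true := h2 _ _ _ _ hy hw
    have k4 : T false true true = true := h1 _ _ _ _ _ _ hx k3 rfl rfl
    exact k4
  · exact hy
  · exact hy
  · exact hy
  · exact hy
  · exact hy
  · exact hy
  · exact hy
  · exact hy
  · exact hy
  · exact hy
  · exact hy
  · exact hy
  · exact hy
  · exact hy
  · exact hy
  · exact hy
  · have k3 : T true true false = true := h1 _ _ _ _ _ _ hy hz rfl rfl
    have k4 : T false true true = true := h1 _ _ _ _ _ _ hx k3 rfl rfl
    exact k4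
  · exact hw
  · have k3 : T false true true = true := h1 _ _ _ _ _ _ hx hw rfl rfl
    exact k3
  · have k3 : T false true true = true := h1 _ _ _ _ _ _ hy hw rfl rfl
    exact k3
  · exact hz
  · exact hz
  · exact hz
  · exact hz
  · have k3 : T true true false = true := h1 _ _ _ _ _ _ hy hw rfl rfl
    have k4 : T false true true = true := h1 _ _ _ _ _ _ hx k3 rfl rfl
    exact k4
  · exact hw
  · have k2 : T false true true = true := h1 _ _ _ _ _ _ hx hw rfl rfl
    exact k2
  · have k3 : T false true true = true := h1 _ _ _ _ _ _ hy hw rfl rfl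
    exact k3
  · have k3 : T true true false = true := h1 _ _ _ _ _ _ hy hw rfl rfl
    have k4 : T false true true = true := h1 _ _ _ _ _ _ hx k3 rfl rfl
    exact k4
  · exact hw
  · have k2 : T false true true = true := h1 _ _ _ _ _ _ hx hw rfl rfl
    exact k2
  · have k3 : T false true true = true := h1 _ _ _ _ _ _ hy hw rfl rfl
    exact k3
  · have k1 : T false true true = true := h1 _ _ _ _ _ _ hx hy rfl rfl
    exact k1
  · exact hw
  · have k1 : T false true true = true := h1 _ _ _ _ _ _ hx hy rfl rfl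
    exact k1
  · have k1 : T false true true = true := h1 _ _ _ _ _ _ hx hy rfl rfl
    exact k1
  · exact hz
  · exact hz
  · exact hz
  · exact hz
  · have k1 : T false true true = true := h1 _ _ _ _ _ _ hx hy rfl rfl
    exact k1
  · exact hw
  · have k1 : T false true true = true := h1 _ _ _ _ _ _ hx hy rfl rfl
    exact k1
  · have k1 : T false true true = true := h1 _ _ _ _ _ _ hx hy rfl rfl
    exact k1
  · have k1 : T false true true = true := h1 _ _ _ _ _ _ hx hy rfl rfl
    exact k1
  · exact hw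
  · have k1 : T false true true = true := h1 _ _ _ _ _ _ hx hy rfl rfl
    exact k1
  · have k1 : T false true true = true := h1 _ _ _ _ _ _ hx hy rfl rfl
    exact k1
  · have k1 : T true true false = true := h2 _ _ _ _ hx hy
    have k2 : T true false true = true := h1 _ _ _ _ _ _ hx hz rfl rfl
    have k4 : T false true true = true := h1 _ _ _ _ _ _ k1 k2 rfl rfl
    exact k4
  · exact hw
  · have k2 : T true false false = true := h1 _ _ _ _ _ _ hz hw rfl rfl
    have k3 : T false true true = true := h1 _ _ _ _ _ _ hx k2 rfl rfl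
    exact k3
  · have k1 : T true true false = true := h2 _ _ _ _ hx hy
    have k2 : T true false true = true := h1 _ _ _ _ _ _ hx hz rfl rfl
    have k4 : T false true true = true := h1 _ _ _ _ _ _ k1 k2 rfl rfl
    exact k4
  · exact hz
  · exact hz
  · exact hz
  · exact hz
  · have k2 : T false true true = true := h1 _ _ _ _ _ _ hx hz rfl rfl
    exact k2
  · exact hw
  · have k1 : T false true true = true := h1 _ _ _ _ _ _ hx hz rfl rfl
    exact k1
  · have k2 : T false true true = true := h1 _ _ _ _ _ _ hx hz rfl rfl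
    exact k2
  · have k2 : T true false false = true := h2 _ _ _ _ hy hz
    have k3 : T false true true = true := h1 _ _ _ _ _ _ hx k2 rfl rfl
    exact k3
  · exact hw
  · have k3 : T false true true = true := h1 _ _ _ _ _ _ hz hw rfl rfl
    exact k3
  · have k3 : T true false false = true := h2 _ _ _ _ hy hz
    have k4 : T false true true = true := h1 _ _ _ _ _ _ hx k3 rfl rfl
    exact k4
  · exact hy
  · exact hy
  · exact hy
  · exact hy
  · exact hy
  · exact hy
  · exact hy
  · exact hy
  · exact hy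
  · exact hy
  · exact hy
  · exact hy
  · exact hy
  · exact hy
  · exact hy
  · exact hy
  · have k1 : T false true true = true := h1 _ _ _ _ _ _ hx hy rfl rfl
    exact k1
  · exact hw
  · have k1 : T false true true = true := h1 _ _ _ _ _ _ hx hy rfl rfl
    exact k1
  · have k1 : T false true true = true := h1 _ _ _ _ _ _ hx hy rfl rfl
    exact k1
  · exact hz
  · exact hz
  · exact hz
  · exact hz
  · have k1 : T false true true = true := h1 _ _ _ _ _ _ hx hy rfl rfl
    exact k1
  · exact hw
  · have k1 : T false true true = true := h1 _ _ _ _ _ _ hx hy rfl rfl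
    exact k1
  · have k1 : T false true true = true := h1 _ _ _ _ _ _ hx hy rfl rfl
    exact k1
  · have k1 : T false true true = true := h1 _ _ _ _ _ _ hx hy rfl rfl
    exact k1
  · exact hw
  · have k1 : T false true true = true := h1 _ _ _ _ _ _ hx hy rfl rfl
    exact k1
  · have k1 : T false true true = true := h1 _ _ _ _ _ _ hx hy rfl rfl
    exact k1
  · have k3 : T true false false = true := h1 _ _ _ _ _ _ hy hz rfl rfl
    have k4 : T false true true = true := h1 _ _ _ _ _ _ hx k3 rfl rfl
    exact k4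
  · exact hw
  · have k3 : T true false false = true := h1 _ _ _ _ _ _ hy hz rfl rfl
    have k4 : T false true true = true := h1 _ _ _ _ _ _ hx k3 rfl rfl
    exact k4
  · have k3 : T true false false = true := h1 _ _ _ _ _ _ hy hz rfl rfl
    have k4 : T false true true = true := h1 _ _ _ _ _ _ hx k3 rfl rfl
    exact k4
  · exact hz
  · exact hz
  · exact hz
  · exact hz
  · have k2 : T false true true = true := h1 _ _ _ _ _ _ hx hz rfl rfl
    exact k2
  · exact hw
  · have k2 : T false true true = true := h1 _ _ _ _ _ _ hx hz rfl rfl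
    exact k2
  · have k2 : T false true true = true := h1 _ _ _ _ _ _ hx hz rfl rfl
    exact k2
  · have k2 : T false true true = true := h1 _ _ _ _ _ _ hy hz rfl rfl
    exact k2
  · exact hw
  · have k3 : T false true true = true := h1 _ _ _ _ _ _ hy hz rfl rfl
    exact k3
  · have k3 : T false true true = true := h1 _ _ _ _ _ _ hy hz rfl rfl
    exact k3

variable {ι : Type} [Fintype ι] [DecidableEq ι] {F : Type*} [Field F]
variable {f : (ι → F) → (ι → F) → F} (hf : Geo.IsSymplecticForm f)
variable (S : Set (ι → F))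

/-- Non-perpendicular members of a set. -/
def Adj (f : (ι → F) → (ι → F) → F) (S : Set (ι → F)) (a b : ι → F) : Prop :=
  a ∈ S ∧ b ∈ S ∧ f a b ≠ 0

variable (hline : ∀ a ∈ S, ∀ b ∈ S, f a b ≠ 0 → ∀ t : F, a + t • b ∈ S)
  (hsmul : ∀ a ∈ S, ∀ t : F, t • a ∈ S) (hzero : (0 : ι → F) ∈ S)
  (hspan : ∀ x : ι → F, x ≠ 0 → ∃ s ∈ S, f x s ≠ 0)
  (hconn : ∀ a ∈ S, ∀ b ∈ S, a ≠ 0 → b ≠ 0 → Relation.ReflTransGen (Adj f S) a b)

include hf hline hsmul hzero hspan hconn

theorem common {a b : ι → F} (ha : a ∈ S) (hb : b ∈ S) (ha0 : a ≠ 0) (hb0 : b ≠ 0) (hab : f a b = 0) :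
    ∃ d ∈ S, f a d ≠ 0 ∧ f b d ≠ 0 := by
  have key : ∀ c, Relation.ReflTransGen (Adj f S) a c →
      f a c ≠ 0 ∨ ∃ d ∈ S, f a d ≠ 0 ∧ f c d ≠ 0 := by
    intro c hc
    induction hc with
    | refl =>
      obtain ⟨d, hd, hd'⟩ := hspan a ha0
      exact Or.inr ⟨d, hd, hd', hd'⟩
    | @tail y z hay hyz ih =>
      obtain ⟨hy, hz, hyz'⟩ := hyz
      rcases ih with h | ⟨x, hx, hax, hyx⟩
      · exact Or.inr ⟨y, hy, h, fun e => hyz' ((f_eq_zero_comm hf).1 e)⟩
      · by_cases h1 : f a y = 0
        · by_cases h2 : f x z = 0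
          · refine Or.inr ⟨x + (1 : F) • y, hline x hx y hy (fun e => hyx ((f_eq_zero_comm hf).1 e)) 1, ?_, ?_⟩
            · rw [one_smul, hf.bilinear.add_right, h1, add_zero]; exact hax
            · rw [one_smul, hf.bilinear.add_right, (f_eq_zero_comm hf).1 h2, zero_add]
              exact fun e => hyz' ((f_eq_zero_comm hf).1 e)
          · exact Or.inr ⟨x, hx, hax, fun e => h2 ((f_eq_zero_comm hf).1 e)⟩
        · exact Or.inr ⟨y, hy, h1, fun e => hyz' ((f_eq_zero_comm hf).1 e)⟩
  exact (key b (hconn a ha b hb ha0 hb0)).resolve_left (fun h => h hab)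

theorem add_mem_large (hq : ∀ t : F, ∃ s : F, s ≠ 0 ∧ s ≠ t) {a b : ι → F} (ha : a ∈ S) (hb : b ∈ S) :
    a + b ∈ S := by
  by_cases ha0 : a = 0
  · rw [ha0, zero_add]; exact hb
  by_cases hb0 : b = 0
  · rw [hb0, add_zero]; exact ha
  by_cases hab0 : a + b = 0
  · rw [hab0]; exact hzero
  by_cases hab : f a b = 0
  swap
  · simpa using hline a ha b hb hab 1
  obtain ⟨d, hd, had, hbd⟩ := common hf S hline hsmul hzero hspan hconn ha hb ha0 hb0 hab
  have step : ∀ d' ∈ S, f a d' ≠ 0 → f b d' ≠ 0 → f (a + b) d' ≠ 0 → a + b ∈ S := by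
    intro d' hd' h1 h2 h3
    have p1 : a + (1 : F) • d' ∈ S := hline a ha d' hd' h1 1
    have p2 : a + (1 : F) • d' + (1 : F) • b ∈ S := hline _ p1 b hb (by
      rw [one_smul, hf.bilinear.add_left, hab, zero_add]
      exact fun e => h2 ((f_eq_zero_comm hf).1 e)) 1
    have p3 := hline _ p2 d' hd' (by
      rw [one_smul, one_smul, hf.bilinear.add_left, hf.bilinear.add_left, hf.alternating, add_zero,
        ← hf.bilinear.add_left]
      exact h3) (-1)
    convert p3 using 1
    module
  obtain ⟨x, hx, hx'⟩ := hspan (a + b) hab0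
  -- the asymmetric case
  have asym : ∀ p ∈ S, ∀ q ∈ S, f p q = 0 → f p d ≠ 0 → f q d ≠ 0 → f p x ≠ 0 → f q x = 0 →
      ∃ d' ∈ S, f p d' ≠ 0 ∧ f q d' ≠ 0 ∧ f (p + q) d' ≠ 0 := by
    intro p hp q hq' hpq hpd hqd hpx hqx
    by_cases hsd : f (p + q) d = 0
    swap
    · exact ⟨d, hd, hpd, hqd, hsd⟩
    obtain ⟨x', hx', hpx', hqx', hdx'⟩ : ∃ x' ∈ S, f p x' ≠ 0 ∧ f q x' = 0 ∧ f d x' ≠ 0 := by
      by_cases hdx : f d x = 0
      · refine ⟨x + (1 : F) • p, hline x hx p hp (fun e => hpx ((f_eq_zero_comm hf).1 e)) 1, ?_, ?_, ?_⟩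
        · rw [one_smul, hf.bilinear.add_right, hf.alternating, add_zero]; exact hpx
        · rw [one_smul, hf.bilinear.add_right, hqx, zero_add]
          exact (f_eq_zero_comm hf).1 hpq
        · rw [one_smul, hf.bilinear.add_right, hdx, zero_add]
          exact fun e => hpd ((f_eq_zero_comm hf).1 e)
      · exact ⟨x, hx, hpx, hqx, hdx⟩
    obtain ⟨s, hs0, hs⟩ := hq (-f p d / f p x')
    refine ⟨d + s • x', hline d hd x' hx' hdx' s, ?_, ?_, ?_⟩
    · rw [hf.bilinear.add_right, hf.bilinear.smul_right]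
      intro e
      apply hs
      field_simp
      linear_combination e
    · rw [hf.bilinear.add_right, hf.bilinear.smul_right, hqx', mul_zero, add_zero]; exact hqd
    · rw [hf.bilinear.add_right, hf.bilinear.smul_right, hsd, zero_add, hf.bilinear.add_left, hqx', add_zero]
      exact mul_ne_zero hs0 hpx'
  by_cases hax : f a x = 0
  · have hbx : f b x ≠ 0 := fun e => hx' (by rw [hf.bilinear.add_left, hax, e, add_zero])
    obtain ⟨d', hd', h1, h2, h3⟩ := asym b hb a ha ((f_eq_zero_comm hf).1 hab) hbd had hbx hax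
    exact step d' hd' h2 h1 (by rw [add_comm a b]; exact h3)
  · by_cases hbx : f b x = 0
    · obtain ⟨d', hd', h1, h2, h3⟩ := asym a ha b hb hab had hbd hax hbx
      exact step d' hd' h1 h2 h3
    · exact step x hx hax hbx hx'

section two

variable (hF2 : ∀ t : F, t = 0 ∨ t = 1) (h11 : (1 : F) + 1 = 0)
include hF2 h11

theorem add_ne_zero_iff (x y : F) : x + y ≠ 0 ↔ ¬(x ≠ 0 ↔ y ≠ 0) := by
  rcases hF2 x with rfl | rfl <;> rcases hF2 y with rfl | rfl <;> simp [h11]

theorem self_add (x : ι → F) : x + x = 0 := by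
  funext i
  simp only [Pi.add_apply, Pi.zero_apply]
  rcases hF2 (x i) with h | h <;> rw [h]
  · exact add_zero 0
  · exact h11

theorem propagate {a b y : ι → F} (hb : b ∈ S) (hab : f a b = 0) (hs : a + b ∈ S) (hy : y ∈ S)
    (hyb : f y b ≠ 0) (hya : f y a = 0) : a + y ∈ S := by
  have p1 := hline _ hs y hy (by
    rw [hf.bilinear.add_left, (f_eq_zero_comm hf).1 hya, zero_add]
    exact fun e => hyb ((f_eq_zero_comm hf).1 e)) 1
  rw [one_smul] at p1
  have p2 := hline _ p1 b hb (by
    rw [hf.bilinear.add_left, hf.bilinear.add_left, hab, hf.alternating, add_zero, zero_add]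
    exact hyb) 1
  rw [one_smul] at p2
  have e : a + b + y + b = a + y + (b + b) := by abel
  rwa [e, self_add hf S hline hsmul hzero hspan hconn hF2 h11, add_zero] at p2

theorem good_step {a b d : ι → F} (hb : b ∈ S) (hd : d ∈ S) (hab : f a b = 0) (hs : a + b ∈ S)
    (ha : a ∈ S) (ha0 : a ≠ 0) (hb0 : b ≠ 0) (hne : a + b ≠ 0) (hd0 : d ≠ 0) (had : f a d = 0)
    (hne' : a + d ≠ 0) : a + d ∈ S := by
  classical
  by_cases hbd : f b d = 0
  swap
  · exact propagate hf S hline hsmul hzero hspan hconn hF2 h11 hb hab hs hd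
      (fun e => hbd ((f_eq_zero_comm hf).1 e)) ((f_eq_zero_comm hf).1 had)
  have hxor := add_ne_zero_iff hf S hline hsmul hzero hspan hconn hF2 h11
  let T : Bool → Bool → Bool → Bool := fun α β δ => decide (∃ s ∈ S,
    decide (f s a ≠ 0) = α ∧ decide (f s b ≠ 0) = β ∧ decide (f s d ≠ 0) = δ)
  have hT : ∀ α β δ, T α β δ = true ↔ ∃ s ∈ S,
      decide (f s a ≠ 0) = α ∧ decide (f s b ≠ 0) = β ∧ decide (f s d ≠ 0) = δ := fun α β δ => by
    simp only [T, decide_eq_true_iff]
  have bit : ∀ p q z : ι → F, decide (f (p + q) z ≠ 0) = xor (decide (f p z ≠ 0)) (decide (f q z ≠ 0)) := by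
    intro p q z
    rw [hf.bilinear.add_left]
    by_cases h1 : f p z = 0 <;> by_cases h2 : f q z = 0
    · simp [h1, h2]
    · simp [h1, h2]
    · simp [h1, h2]
    · have := hxor (f p z) (f q z)
      simp [h1, h2] at this ⊢
      exact this
  have coset : ∀ p ∈ S, (f p a ≠ 0 ∨ f p b ≠ 0) → p + a ∈ S ∧ p + b ∈ S := by
    intro p hp h
    have A : ∀ l l' : ι → F, l ∈ S → l' ∈ S → l + l' ∈ S → f l l' = 0 → f p l' ≠ 0 → p + l ∈ S := by
      intro l l' hl hl' hll hll0 hpl'
      by_cases hpl : f p l = 0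
      · have p1 := hline p hp l' hl' hpl' 1
        rw [one_smul] at p1
        have p2 := hline _ p1 (l + l') hll (by
          rw [hf.bilinear.add_left, hf.bilinear.add_right, hf.bilinear.add_right, hpl,
            (f_eq_zero_comm hf).1 hll0, hf.alternating, zero_add, add_zero, add_zero]
          exact hpl') 1
        rw [one_smul] at p2
        have e : p + l' + (l + l') = p + l + (l' + l') := by abel
        rwa [e, self_add hf S hline hsmul hzero hspan hconn hF2 h11, add_zero] at p2
      · simpa using hline p hp l hl hpl 1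
    have B : ∀ l ∈ S, f p l ≠ 0 → p + l ∈ S := fun l hl h => by simpa using hline p hp l hl h 1
    rcases h with h | h
    · exact ⟨B a ha h, A b a hb ha (add_comm a b ▸ hs) ((f_eq_zero_comm hf).1 hab) h⟩
    · exact ⟨A a b ha hb hs hab h, B b hb h⟩
  have hda := (f_eq_zero_comm hf).1 had
  have hdb := (f_eq_zero_comm hf).1 hbd
  have hba := (f_eq_zero_comm hf).1 hab
  have h1 : ∀ α β δ α' β' δ', T α β δ = true → T α' β' δ' = true → (α || β) = true → (α' || β') = true →
      T (xor α α') (xor β β') (xor δ δ') = true := by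
    intro α β δ α' β' δ' hp hq hp' hq'
    rw [hT] at hp hq ⊢
    obtain ⟨p, hp, rfl, rfl, rfl⟩ := hp
    obtain ⟨q, hq, rfl, rfl, rfl⟩ := hq
    simp only [Bool.or_eq_true, decide_eq_true_iff] at hp' hq'
    by_cases hpq : f p q = 0
    · obtain ⟨c1, c2⟩ := coset p hp hp'
      obtain ⟨l, hl, hlq, l1, l2, l3⟩ : ∃ l, p + l ∈ S ∧ f l q ≠ 0 ∧ f l a = 0 ∧ f l b = 0 ∧ f l d = 0 := by
        rcases hq' with h | h
        · exact ⟨a, c1, fun e => h ((f_eq_zero_comm hf).1 e), hf.alternating a, hab, had⟩
        · exact ⟨b, c2, fun e => h ((f_eq_zero_comm hf).1 e), hba, hf.alternating b, hbd⟩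
      refine ⟨p + l + (1 : F) • q, hline _ hl q hq (by rw [hf.bilinear.add_left, hpq, zero_add]; exact hlq) 1, ?_⟩
      rw [one_smul, bit, bit, bit, bit, bit, bit]
      simp [l1, l2, l3]
    · refine ⟨p + (1 : F) • q, hline p hp q hq hpq 1, ?_⟩
      rw [one_smul, bit, bit, bit]
      exact ⟨rfl, rfl, rfl⟩
  have h2 : ∀ α β α' β', T α β true = true → T α' β' true = true →
      T (xor α α') (xor β β') false = true := by
    intro α β α' β' hp hq
    rw [hT] at hp hq ⊢
    obtain ⟨p, hp, rfl, rfl, hpd⟩ := hp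
    obtain ⟨q, hq, rfl, rfl, hqd⟩ := hq
    rw [decide_eq_true_iff] at hpd hqd
    by_cases hpq : f p q = 0
    · have c1 := hline p hp d hd hpd 1
      refine ⟨p + (1 : F) • d + (1 : F) • q, hline _ c1 q hq (by
        rw [one_smul, hf.bilinear.add_left, hpq, zero_add]
        exact fun e => hqd ((f_eq_zero_comm hf).1 e)) 1, ?_⟩
      rw [one_smul, one_smul, bit, bit, bit, bit, bit, bit]
      simp [hda, hdb, hf.alternating, hpd, hqd]
    · refine ⟨p + (1 : F) • q, hline p hp q hq hpq 1, ?_⟩
      rw [one_smul, bit, bit, bit]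
      simp [hpd, hqd]
  obtain ⟨x, hx, hax, hdx⟩ := common hf S hline hsmul hzero hspan hconn ha hd ha0 hd0 had
  have hxa : f x a ≠ 0 := fun e => hax ((f_eq_zero_comm hf).1 e)
  have hxd : f x d ≠ 0 := fun e => hdx ((f_eq_zero_comm hf).1 e)
  have h3 : ∃ β, T true β true = true :=
    ⟨_, (hT _ _ _).2 ⟨x, hx, decide_eq_true hxa, rfl, decide_eq_true hxd⟩⟩
  have split : ∀ y c : ι → F, f (a + c) y ≠ 0 → decide (f y c ≠ 0) = !decide (f y a ≠ 0) := by
    intro y c hy
    have h : f y (a + c) ≠ 0 := fun e => hy ((f_eq_zero_comm hf).1 e)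
    rw [hf.bilinear.add_right, hxor] at h
    by_cases h1 : f y a = 0 <;> simp [h1] at h ⊢ <;> exact h
  obtain ⟨y, hy, hyd⟩ := hspan _ hne'
  obtain ⟨z, hz, hzb⟩ := hspan _ hne
  obtain ⟨w, hw, hwb⟩ := hspan b hb0
  have h4 : ∃ α β, T α β (!α) = true :=
    ⟨_, _, (hT _ _ _).2 ⟨y, hy, rfl, rfl, split y d hyd⟩⟩
  have h5 : ∃ α δ, T α (!α) δ = true :=
    ⟨_, _, (hT _ _ _).2 ⟨z, hz, rfl, split z b hzb, rfl⟩⟩
  have h6 : ∃ α δ, T α true δ = true :=
    ⟨_, _, (hT _ _ _).2 ⟨w, hw, rfl, decide_eq_true (fun e => hwb ((f_eq_zero_comm hf).1 e)), rfl⟩⟩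
  obtain ⟨s, hs', hsa, hsb, hsd⟩ := (hT _ _ _).1 (types_closure T h1 h2 h3 h4 h5 h6)
  rw [decide_eq_false_iff_not, not_not] at hsa
  rw [decide_eq_true_iff] at hsb hsd
  have has := propagate hf S hline hsmul hzero hspan hconn hF2 h11 hb hab hs hs' hsb hsa
  exact propagate hf S hline hsmul hzero hspan hconn hF2 h11 hs' ((f_eq_zero_comm hf).1 hsa) has hd
    (fun e => hsd ((f_eq_zero_comm hf).1 e)) hda

theorem add_mem_two {a₀ b₀ : ι → F} (ha₀ : a₀ ∈ S) (hb₀ : b₀ ∈ S) (ha₀0 : a₀ ≠ 0) (hb₀0 : b₀ ≠ 0)
    (hne₀ : a₀ + b₀ ≠ 0) (h0 : f a₀ b₀ = 0) (hs₀ : a₀ + b₀ ∈ S) {a b : ι → F} (ha : a ∈ S) (hb : b ∈ S) :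
    a + b ∈ S := by
  by_cases ha0 : a = 0
  · rw [ha0, zero_add]; exact hb
  by_cases hb0 : b = 0
  · rw [hb0, add_zero]; exact ha
  by_cases hab0 : a + b = 0
  · rw [hab0]; exact hzero
  by_cases hab : f a b = 0
  swap
  · simpa using hline a ha b hb hab 1
  have key : ∀ c, Relation.ReflTransGen (Adj f S) a₀ c →
      ∃ e ∈ S, e ≠ 0 ∧ c + e ≠ 0 ∧ f c e = 0 ∧ c + e ∈ S := by
    intro c hc
    induction hc with
    | refl => exact ⟨b₀, hb₀, hb₀0, hne₀, h0, hs₀⟩
    | @tail c z _ hcz ih =>
      obtain ⟨hc, hz, hcz'⟩ := hcz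
      obtain ⟨e, he, he0, hce0, hce, hces⟩ := ih
      have hm : c + z ∈ S := by simpa using hline c hc z hz hcz' 1
      let g : (ι → F) → (ι → F) := fun v => v + f v (c + z) • (c + z)
      have hgS : ∀ v ∈ S, g v ∈ S := by
        intro v hv
        by_cases h : f v (c + z) = 0
        · simp only [g, h, zero_smul, add_zero]; exact hv
        · exact hline v hv _ hm h _
      have hgadd : ∀ u v, g (u + v) = g u + g v := by
        intro u v
        simp only [g, hf.bilinear.add_left, add_smul]
        abel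
      have hgf : ∀ u v, f (g u) (g v) = f u v := by
        intro u v
        simp only [g]
        generalize c + z = m
        rw [hf.bilinear.add_left, hf.bilinear.add_right, hf.bilinear.add_right, hf.bilinear.smul_left,
          hf.bilinear.smul_left, hf.bilinear.smul_right, hf.bilinear.smul_right, hf.alternating,
          hf.skew m v]
        ring
      have hgz : g c = z := by
        have h1 : f c z = 1 := (hF2 _).resolve_left hcz'
        simp only [g]
        rw [hf.bilinear.add_right, hf.alternating, zero_add, h1, one_smul, ← add_assoc,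
          self_add hf S hline hsmul hzero hspan hconn hF2 h11, zero_add]
      have hg0 : ∀ v, g v = 0 → v = 0 := by
        intro v hv
        by_contra hv0
        obtain ⟨s, -, hs⟩ := hspan v hv0
        exact hs (by rw [← hgf v s, hv, f_zero_left hf])
      refine ⟨g e, hgS e he, fun h => he0 (hg0 e h), fun h => hce0 (hg0 _ (by rw [hgadd, hgz]; exact h)),
        by rw [← hgz, hgf]; exact hce, ?_⟩
      have := hgS _ hces
      rwa [hgadd, hgz] at this
  obtain ⟨e, he, he0, hae0, hae, haes⟩ := key a (hconn a₀ ha₀ a ha ha₀0 ha0)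
  exact good_step hf S hline hsmul hzero hspan hconn hF2 h11 he hb hae haes ha ha0 he0 hae0 hb0 hab hab0

end two

/-- Every vector is a centre. -/
theorem centres_all [Finite F]
    (hgood : Nat.card F = 2 → ∃ a ∈ S, ∃ b ∈ S, a ≠ 0 ∧ b ≠ 0 ∧ a + b ≠ 0 ∧ f a b = 0 ∧ a + b ∈ S)
    (x : ι → F) : x ∈ S := by
  classical
  haveI := Fintype.ofFinite F
  have hadd : ∀ a ∈ S, ∀ b ∈ S, a + b ∈ S := by
    intro a ha b hb
    by_cases hq : Nat.card F = 2
    · obtain ⟨a₀, ha₀, b₀, hb₀, h1, h2, h3, h4, h5⟩ := hgood hq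
      have hF2 : ∀ t : F, t = 0 ∨ t = 1 := by
        intro t
        by_contra h
        push Not at h
        have : ({0, 1, t} : Finset F).card = 3 := by
          rw [Finset.card_insert_of_notMem (by simp [h.1.symm]), Finset.card_pair h.2.symm]
        have h' := Finset.card_le_univ ({0, 1, t} : Finset F)
        rw [this, ← Nat.card_eq_fintype_card, hq] at h'
        omega
      have h11 : (1 : F) + 1 = 0 := by
        rcases hF2 (1 + 1) with h | h
        · exact h
        · exact absurd (add_eq_left.1 h) one_ne_zero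
      exact add_mem_two hf S hline hsmul hzero hspan hconn hF2 h11 ha₀ hb₀ h1 h2 h3 h4 h5 ha hb
    · refine add_mem_large hf S hline hsmul hzero hspan hconn ?_ ha hb
      intro t
      by_contra h
      push Not at h
      apply hq
      have hle : (Finset.univ : Finset F) ⊆ {0, t} := by
        intro s _
        by_cases hs : s = 0
        · simp [hs]
        · simp [h s hs]
      have h' := (Finset.card_le_card hle).trans (Finset.card_le_two)
      have := Fintype.one_lt_card (α := F)
      rw [Finset.card_univ] at h'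
      rw [Nat.card_eq_fintype_card]
      omega
  let W : Submodule F (ι → F) :=
    { carrier := S
      add_mem' := fun {a b} ha hb => hadd a ha b hb
      zero_mem' := hzero
      smul_mem' := fun c a ha => hsmul a ha c }
  by_contra hx
  have hWne : W ≠ ⊤ := fun h => hx (show x ∈ W from h ▸ Submodule.mem_top)
  obtain ⟨φ, hφ, hφW⟩ := Submodule.exists_le_ker_of_lt_top W (lt_top_iff_ne_top.2 hWne)
  obtain ⟨z, hz⟩ := exists_eq_f hf φ
  have hz0 : z ≠ 0 := fun h => hφ (LinearMap.ext fun v => by rw [hz v, h, f_zero_right hf, LinearMap.zero_apply])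
  obtain ⟨s, hs, hs'⟩ := hspan z hz0
  exact hs' ((f_eq_zero_comm hf).1 (by rw [← hz s]; exact hφW hs))

end Cfsg.Agent.SpCentres
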