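/-
Conjugacy of symplectic maps from the Gram sequence of a cyclic vector, extension of partial isometries, and a
generation criterion for the isometry group of an alternating form by two conjugate maps and one transvection.
-/
import Cfsg.Agent.Lib.Generation.SpCentres
import Cfsg.Agent.Lib.Classical.AlternatingWitt
set_option autoImplicit false
set_option linter.unusedSectionVars false

namespace Cfsg.Agent.SpGen

open scoped Matrix
open Matrix Transvec

variable {ι : Type} [Fintype ι] [DecidableEq ι] {F : Type*} [Field F]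
variable {f : (ι → F) → (ι → F) → F} (hf : Geo.IsSymplecticForm f)

local notation "Sp" => preserving (Units.coeHom (Matrix ι ι F)) f

theorem mem_sp {g : GL ι F} : g ∈ Sp ↔ ∀ x y, f (mv g x) (mv g y) = f x y := Iff.rfl

/-- An invertible matrix from a linear equivalence. -/
noncomputable def glOf (e : (ι → F) ≃ₗ[F] (ι → F)) : GL ι F where
  val := LinearMap.toMatrix' e.toLinearMap
  inv := LinearMap.toMatrix' e.symm.toLinearMap
  val_inv := by rw [← LinearMap.toMatrix'_comp]; simp
  inv_val := by rw [← LinearMap.toMatrix'_comp]; simp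

theorem mv_glOf (e : (ι → F) ≃ₗ[F] (ι → F)) (x : ι → F) : mv (glOf e) x = e x := by
  change LinearMap.toMatrix' e.toLinearMap *ᵥ x = e x
  rw [LinearMap.toMatrix'_mulVec]
  rfl

/-- The form as a bilinear form. -/
def bilin : LinearMap.BilinForm F (ι → F) := (formR hf).flip

include hf

theorem bilin_apply (x y : ι → F) : bilin hf x y = f x y := rfl

theorem f_ext_right {x y : ι → F} (h : ∀ z, f z x = f z y) : x = y :=
  formR_injective hf (LinearMap.ext h)

/-- Partial isometries on finitely many independent vectors extend. -/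
theorem exists_extend {k : ℕ} (x z : Fin k → ι → F) (hx : LinearIndependent F x)
    (hz : LinearIndependent F z) (hg : ∀ i j, f (z i) (z j) = f (x i) (x j)) :
    ∃ g ∈ Sp, ∀ i, mv g (x i) = z i := by
  have hA : (bilin hf).IsAlt := fun v => hf.alternating v
  have hN : (bilin hf).Nondegenerate := by
    refine ⟨fun v hv => ?_, fun v hv => ?_⟩
    · by_contra h
      obtain ⟨w, hw⟩ := (hf.nondegenerate v h).1
      first
        | exact hw (hv w)
        | exact hw ((f_eq_zero_comm hf).1 (hv w))
    · exact f_ext_right hf fun w => by rw [f_zero_right hf]; exact hv w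
  let b := Module.Basis.span hx
  let φ : Submodule.span F (Set.range x) →ₗ[F] (ι → F) := b.constr F z
  have hb : ∀ i, φ (b i) = z i := fun i => b.constr_basis F z i
  have hbc : ∀ i, (b i : ι → F) = x i := fun i => by rw [Module.Basis.span_apply]
  have hinj : Function.Injective φ := by
    rw [← LinearMap.ker_eq_bot, LinearMap.ker_eq_bot']
    intro a ha
    have h1 : ∑ i, b.repr a i • z i = 0 := by
      have : φ a = ∑ i, b.repr a i • z i := by
        conv_lhs => rw [← b.sum_repr a]
        simp only [map_sum, map_smul, hb]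
      rw [← this, ha]
    have h2 := Fintype.linearIndependent_iff.1 hz _ h1
    rw [← b.sum_repr a]
    exact Finset.sum_eq_zero fun i _ => by rw [h2 i, zero_smul]
  have hiso : ∀ a c : Submodule.span F (Set.range x), bilin hf (φ a) (φ c) = bilin hf (a : ι → F) c := by
    have e : (bilin hf).compl₁₂ φ φ =
        (bilin hf).compl₁₂ (Submodule.span F (Set.range x)).subtype (Submodule.span F (Set.range x)).subtype := by
      refine b.ext fun i => b.ext fun j => ?_
      simp only [LinearMap.compl₁₂_apply, hb, Submodule.subtype_apply, hbc, bilin_apply, hg]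
    intro a c
    exact LinearMap.congr_fun (LinearMap.congr_fun e a) c
  obtain ⟨g, hg', hgφ⟩ := AltForm.witt hA hN _ φ hinj hiso
  refine ⟨glOf g, fun u v => ?_, fun i => ?_⟩
  · change f (mv (glOf g) u) (mv (glOf g) v) = f u v
    rw [mv_glOf, mv_glOf]
    exact hg' u v
  · rw [mv_glOf, ← hbc i, hgφ, hb]

theorem gram_shift {u u' : GL ι F} (hu : u ∈ Sp) (hu' : u' ∈ Sp) {x y : ι → F}
    (h : ∀ k : ℕ, f x (mv (u ^ k) x) = f y (mv (u' ^ k) y)) (i j : ℕ) :
    f (mv (u ^ i) x) (mv (u ^ j) x) = f (mv (u' ^ i) y) (mv (u' ^ j) y) := by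
  have key : ∀ i k, f (mv (u ^ i) x) (mv (u ^ (i + k)) x) = f (mv (u' ^ i) y) (mv (u' ^ (i + k)) y) := by
    intro i k
    rw [pow_add, pow_add, mv_mul, mv_mul, mem_sp.1 (pow_mem hu i), mem_sp.1 (pow_mem hu' i), h]
  rcases le_total i j with hij | hij
  · obtain ⟨k, rfl⟩ := Nat.exists_eq_add_of_le hij
    exact key i k
  · obtain ⟨k, rfl⟩ := Nat.exists_eq_add_of_le hij
    rw [hf.skew, key j k, ← hf.skew]

/-- Two maps with cyclic vectors having the same Gram sequence are conjugate. -/
theorem exists_conj {u u' : GL ι F} (hu : u ∈ Sp) (hu' : u' ∈ Sp) {x y : ι → F}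
    (hli : LinearIndependent F fun k : Fin (Fintype.card ι) => mv (u ^ (k : ℕ)) x)
    (h : ∀ k : ℕ, f x (mv (u ^ k) x) = f y (mv (u' ^ k) y)) :
    ∃ g ∈ Sp, g * u * g⁻¹ = u' := by
  rcases isEmpty_or_nonempty ι with he | hne
  · exact ⟨1, one_mem _, ext_mv fun v => Subsingleton.elim _ _⟩
  haveI : Nonempty (Fin (Fintype.card ι)) := ⟨⟨0, Fintype.card_pos⟩⟩
  let b := basisOfLinearIndependentOfCardEqFinrank hli (by rw [Fintype.card_fin, Module.finrank_fintype_fun_eq_card])
  have hbc : ∀ k, b k = mv (u ^ (k : ℕ)) x := fun k => by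
    simp [b, coe_basisOfLinearIndependentOfCardEqFinrank]
  let G : (ι → F) →ₗ[F] (ι → F) := b.constr F fun k => mv (u' ^ (k : ℕ)) y
  have hG : ∀ k, G (b k) = mv (u' ^ (k : ℕ)) y := fun k => b.constr_basis F _ k
  have hiso : ∀ p q, f (G p) (G q) = f p q := by
    have e : (bilin hf).compl₁₂ G G = bilin hf := by
      refine b.ext fun i => b.ext fun j => ?_
      simp only [LinearMap.compl₁₂_apply, hG, bilin_apply]
      rw [hbc, hbc, gram_shift hf hu hu' h]
    intro p q
    exact LinearMap.congr_fun (LinearMap.congr_fun e p) q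
  have hinj : Function.Injective G := by
    intro p q hpq
    exact f_ext_right hf fun z => by rw [← hiso z p, hpq, hiso]
  have hsurj : Function.Surjective G := LinearMap.injective_iff_surjective.1 hinj
  have hall : ∀ N : ℕ, G (mv (u ^ N) x) = mv (u' ^ N) y := by
    intro N
    refine f_ext_right hf fun z => ?_
    obtain ⟨q, rfl⟩ := hsurj z
    rw [hiso]
    have e : (formR hf (mv (u ^ N) x)) = (formR hf (mv (u' ^ N) y)).comp G := by
      refine b.ext fun k => ?_
      rw [LinearMap.comp_apply, hG, formR_apply, formR_apply, hbc, gram_shift hf hu hu' h]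
    exact LinearMap.congr_fun e q
  refine ⟨glOf (LinearEquiv.ofBijective G ⟨hinj, hsurj⟩), fun p q => ?_, ?_⟩
  · change f (mv _ p) (mv _ q) = f p q
    rw [mv_glOf, mv_glOf]
    exact hiso p q
  · rw [mul_inv_eq_iff_eq_mul]
    refine ext_mv fun v => ?_
    rw [mv_mul, mv_mul, mv_glOf, mv_glOf]
    change G (mv u v) = mv u' (G v)
    have e : G.comp (mvLin u) = (mvLin u').comp G := by
      refine b.ext fun k => ?_
      rw [LinearMap.comp_apply, LinearMap.comp_apply, hG]
      simp only [mvLin, Matrix.toLin'_apply]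
      change G (mv u (b k)) = mv u' _
      rw [hbc, ← mv_mul, ← mv_mul, ← pow_succ', ← pow_succ', hall]
    exact LinearMap.congr_fun e v

/-- The generation criterion. -/
theorem all_stv [Finite F] (H : Subgroup (GL ι F)) (hH : H ≤ Sp) (u h : GL ι F) (hu : u ∈ H)
    (hw : h * u * h⁻¹ ∈ H) (e : ι → F) (he : e ≠ 0) (hue : mv u e = e)
    (hlow : ∀ W : Submodule F (ι → F), (∀ v ∈ W, mv u v ∈ W) → W ≠ ⊥ → e ∈ W)
    (hhigh : ∀ W : Submodule F (ι → F), (∀ v ∈ W, mv u v ∈ W) → ∀ v ∈ W, f v e ≠ 0 → W = ⊤)
    (hcyc : f (mv h⁻¹ e) e ≠ 0)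
    (c : F) (hc : c ≠ 0) (hT : stv hf e c ∈ H)
    (ν : F) (hν0 : ν ≠ 0) (hν : ∀ R : Subring F, ν ^ 2 ∈ R → R = ⊤) (g : GL ι F) (hg : g ∈ H)
    (hge : mv g e = ν • e)
    (hgood : Nat.card F = 2 → ∃ a b : GL ι F, a ∈ H ∧ b ∈ H ∧ mv a e + mv b e ≠ 0 ∧ f (mv a e) (mv b e) = 0 ∧
      ∃ d ∈ H, mv d e = mv a e + mv b e) :
    Sp ≤ H := by
  have hconj : ∀ k ∈ H, ∀ v d, stv hf v d ∈ H → stv hf (mv k v) d ∈ H := by
    intro k hk v d hd
    have e1 := stv_conj hf (μ := 1) one_ne_zero (g := k) (fun p q => by rw [one_mul]; exact mem_sp.1 (hH hk) p q) v d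
    rw [div_one] at e1
    exact e1 ▸ H.mul_mem (H.mul_mem hk hd) (H.inv_mem hk)
  -- the full root group at e
  let A : AddSubgroup F :=
    { carrier := {t | stv hf e t ∈ H}
      zero_mem' := by
        change stv hf e 0 ∈ H
        rw [stv_zero]; exact H.one_mem
      add_mem' := fun {s t} hs ht => by
        change stv hf e (s + t) ∈ H
        rw [← stv_add]; exact H.mul_mem hs ht
      neg_mem' := fun {t} ht => by
        change stv hf e (-t) ∈ H
        have : stv hf e (-t) = (stv hf e t)⁻¹ := by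
          rw [eq_inv_iff_mul_eq_one, stv_add, neg_add_cancel, stv_zero]
        rw [this]; exact H.inv_mem ht }
  have hA : ∀ t ∈ A, ν ^ 2 * t ∈ A := by
    intro t ht
    change stv hf e (ν ^ 2 * t) ∈ H
    have := hconj g hg e t ht
    rwa [hge, stv_smul, ← sq] at this
  let R : Subring F :=
    { carrier := {r | ∀ t ∈ A, r * t ∈ A}
      one_mem' := fun t ht => by rwa [one_mul]
      mul_mem' := fun {p q} hp hq t ht => by rw [mul_assoc]; exact hp _ (hq _ ht)
      zero_mem' := fun t _ => by rw [zero_mul]; exact A.zero_mem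
      add_mem' := fun {p q} hp hq t ht => by rw [add_mul]; exact A.add_mem (hp _ ht) (hq _ ht)
      neg_mem' := fun {p} hp t ht => by rw [neg_mul]; exact A.neg_mem (hp _ ht) }
  have hAll : ∀ t, stv hf e t ∈ H := by
    intro t
    have : t / c ∈ R := (hν R hA) ▸ Subring.mem_top _
    have := this c hT
    rwa [div_mul_cancel₀ _ hc] at this
  -- the centres
  let S : Set (ι → F) := {v | ∀ d, stv hf v d ∈ H}
  have heS : e ∈ S := hAll
  have hSmv : ∀ k ∈ H, ∀ v ∈ S, mv k v ∈ S := fun k hk v hv d => hconj k hk v d (hv d)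
  have hline : ∀ a ∈ S, ∀ b ∈ S, f a b ≠ 0 → ∀ t : F, a + t • b ∈ S := by
    intro a ha b hb hab t
    have := hSmv _ (hb (t / f a b)) a ha
    rwa [mv_stv, div_mul_cancel₀ _ hab] at this
  have hsmul : ∀ a ∈ S, ∀ t : F, t • a ∈ S := by
    intro a ha t d
    rw [stv_smul]
    exact ha _
  have hzero : (0 : ι → F) ∈ S := by
    intro d
    have : stv hf (0 : ι → F) d = 1 := ext_mv fun x => by rw [mv_stv, smul_zero, add_zero, mv_one]
    rw [this]; exact H.one_mem
  -- irreducibility
  have hirr : ∀ W : Submodule F (ι → F), (∀ k ∈ H, ∀ v ∈ W, mv k v ∈ W) → W ≠ ⊥ → W = ⊤ := by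
    intro W hW hne
    have heW := hlow W (hW u hu) hne
    let W' : Submodule F (ι → F) := W.comap (mvLin h)
    have hW' : ∀ v, v ∈ W' ↔ mv h v ∈ W := fun v => by
      simp only [W', Submodule.mem_comap, mvLin, Matrix.toLin'_apply]
    have hu' : ∀ v ∈ W', mv u v ∈ W' := by
      intro v hv
      rw [hW'] at hv ⊢
      have := hW _ hw _ hv
      rwa [mv_mul, mv_mul, mv_inv_mv] at this
    have h1 : mv h⁻¹ e ∈ W' := by rw [hW', mv_mv_inv]; exact heW
    have htop := hhigh W' hu' _ h1 hcyc
    rw [eq_top_iff]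
    intro v _
    have : mv h⁻¹ v ∈ W' := htop ▸ Submodule.mem_top
    rwa [hW', mv_mv_inv] at this
  have hspanS : Submodule.span F S = ⊤ := by
    refine hirr _ (fun k hk v hv => ?_) fun h => he ?_
    · have : Submodule.span F S ≤ (Submodule.span F S).comap (mvLin k) := Submodule.span_le.2 fun s hs => by
        simp only [Submodule.comap_coe, Set.mem_preimage, mvLin, Matrix.toLin'_apply]
        exact Submodule.subset_span (hSmv k hk s hs)
      have := this hv
      simpa only [Submodule.mem_comap, mvLin, Matrix.toLin'_apply] using this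
    · have : e ∈ Submodule.span F S := Submodule.subset_span heS
      rwa [h, Submodule.mem_bot] at this
  have hspan : ∀ x : ι → F, x ≠ 0 → ∃ s ∈ S, f x s ≠ 0 := by
    intro x hx
    by_contra hcon
    push Not at hcon
    refine hx (f_ext_right hf fun z => ?_)
    rw [f_zero_right hf]
    have : Submodule.span F S ≤ LinearMap.ker (formR hf x) := Submodule.span_le.2 fun s hs => by
      exact (f_eq_zero_comm hf).1 (hcon s hs)
    exact this (hspanS ▸ Submodule.mem_top)
  -- connectivity
  have hAdjS : ∀ a b, SpCentres.Adj f S a b → SpCentres.Adj f S b a := fun a b h =>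
    ⟨h.2.1, h.1, fun h' => h.2.2 ((f_eq_zero_comm hf).1 h')⟩
  let C : Set (ι → F) := {v | Relation.ReflTransGen (SpCentres.Adj f S) e v}
  have hCmv : ∀ v ∈ C, mv u v ∈ C := by
    intro v hv
    induction hv with
    | refl => change Relation.ReflTransGen _ e (mv u e); rw [hue]
    | @tail y z _ hyz ih =>
      exact Relation.ReflTransGen.tail ih ⟨hSmv u hu _ hyz.1, hSmv u hu _ hyz.2.1, by rw [mem_sp.1 (hH hu)]; exact hyz.2.2⟩
  have hCtop : Submodule.span F C = ⊤ := by
    obtain ⟨s, hs, hes⟩ := hspan e he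
    refine hhigh _ (fun v hv => ?_) s (Submodule.subset_span (Relation.ReflTransGen.single ⟨heS, hs, hes⟩))
      (fun h => hes ((f_eq_zero_comm hf).1 h))
    have : Submodule.span F C ≤ (Submodule.span F C).comap (mvLin u) := Submodule.span_le.2 fun s hs => by
      simp only [Submodule.comap_coe, Set.mem_preimage, mvLin, Matrix.toLin'_apply]
      exact Submodule.subset_span (hCmv s hs)
    have := this hv
    simpa only [Submodule.mem_comap, mvLin, Matrix.toLin'_apply] using this
  have hCall : ∀ s ∈ S, s ≠ 0 → s ∈ C := by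
    intro s hs hs0
    by_contra hcon
    refine hs0 (f_ext_right hf fun z => ?_)
    rw [f_zero_right hf]
    have : Submodule.span F C ≤ LinearMap.ker (formR hf s) := Submodule.span_le.2 fun v hv => by
      change f v s = 0
      by_contra hne
      refine hcon (Relation.ReflTransGen.tail hv ⟨?_, hs, hne⟩)
      rcases Relation.ReflTransGen.cases_tail hv with rfl | ⟨y, -, hy⟩
      · exact heS
      · exact hy.2.1
    exact this (hCtop ▸ Submodule.mem_top)
  have hconn : ∀ a ∈ S, ∀ b ∈ S, a ≠ 0 → b ≠ 0 → Relation.ReflTransGen (SpCentres.Adj f S) a b := by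
    intro a ha b hb ha0 hb0
    have hrev : ∀ v, Relation.ReflTransGen (SpCentres.Adj f S) e v → Relation.ReflTransGen (SpCentres.Adj f S) v e := by
      intro v hv
      induction hv with
      | refl => exact Relation.ReflTransGen.refl
      | tail _ hyz ih => exact Relation.ReflTransGen.head (hAdjS _ _ hyz) ih
    exact (hrev a (hCall a ha ha0)).trans (hCall b hb hb0)
  have hnz : ∀ k : GL ι F, mv k e ≠ 0 := fun k h0 => he (mv_inj k (by rw [h0, mv_zero]))
  refine preserving_le hf fun v d => SpCentres.centres_all hf S hline hsmul hzero hspan hconn (fun h2 => ?_) v d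
  obtain ⟨a, b, ha, hb, hne, hab, d', hd', hdd⟩ := hgood h2
  exact ⟨mv a e, hSmv a ha e heS, mv b e, hSmv b hb e heS, hnz a, hnz b, hne, hab, hdd ▸ hSmv d' hd' e heS⟩

end Cfsg.Agent.SpGen
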