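/-
An explicit regular unipotent symplectic map and its cyclic vector.
-/
import Cfsg.Agent.Lib.Generation.SpGenerate
import Cfsg.Agent.Lib.Transvec.SympStd
set_option autoImplicit false
set_option linter.unusedSectionVars false

namespace Cfsg.Agent.SpReg

open scoped Matrix
open Matrix Transvec

variable (n : ℕ) (F : Type*) [Field F]

abbrev V := Fin n ⊕ Fin n → F

/-- A vector from two sequences of coordinates. -/
def vec (a b : ℕ → F) : V n F := Sum.elim (fun i => a i) (fun i => b i)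

/-- One on the diagonal and the superdiagonal. -/
def bi : Matrix (Fin n) (Fin n) F := Matrix.of fun i j => if (j : ℕ) = i ∨ (j : ℕ) = i + 1 then 1 else 0

theorem bi_det : (bi n F).det = 1 := by
  rw [Matrix.det_of_upperTriangular]
  · refine Finset.prod_eq_one fun i _ => ?_
    simp [bi]
  · intro i j hij
    simp only [bi, Matrix.of_apply]
    have : (j : ℕ) < i := hij
    rw [if_neg]
    omega

variable {n} {F}

theorem bi_mulVec (y : Fin n → F) (i : Fin n) :
    (bi n F *ᵥ y) i = y i + if h : (i : ℕ) + 1 < n then y ⟨i + 1, h⟩ else 0 := by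
  simp only [Matrix.mulVec, dotProduct, bi, Matrix.of_apply, ite_mul, one_mul, zero_mul]
  rw [← Finset.sum_filter]
  split_ifs with h
  · have : Finset.univ.filter (fun j : Fin n => (j : ℕ) = i ∨ (j : ℕ) = i + 1) = {i, ⟨i + 1, h⟩} := by
      ext j; simp [Fin.ext_iff]
    rw [this, Finset.sum_pair (by simp [Fin.ext_iff])]
  · have : Finset.univ.filter (fun j : Fin n => (j : ℕ) = i ∨ (j : ℕ) = i + 1) = {i} := by
      ext j; simp [Fin.ext_iff]; omega
    rw [this, Finset.sum_singleton, add_zero]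

theorem biT_mulVec (y : Fin n → F) (i : Fin n) :
    ((bi n F)ᵀ *ᵥ y) i = y i + if 1 ≤ (i : ℕ) then y ⟨i - 1, by omega⟩ else 0 := by
  simp only [Matrix.mulVec, dotProduct, bi, Matrix.transpose_apply, Matrix.of_apply, ite_mul, one_mul, zero_mul]
  rw [← Finset.sum_filter]
  split_ifs with h
  · have : Finset.univ.filter (fun j : Fin n => (i : ℕ) = j ∨ (i : ℕ) = j + 1) = {i, ⟨i - 1, by omega⟩} := by
      ext j; simp [Fin.ext_iff]; omega
    rw [this, Finset.sum_pair (by simp [Fin.ext_iff]; omega)]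
  · have : Finset.univ.filter (fun j : Fin n => (i : ℕ) = j ∨ (i : ℕ) = j + 1) = {i} := by
      ext j; simp [Fin.ext_iff]; omega
    rw [this, Finset.sum_singleton, add_zero]

theorem bi_inj {y y' : Fin n → F} (h : bi n F *ᵥ y = bi n F *ᵥ y') : y = y' := by
  have hu : IsUnit (bi n F) := (Matrix.isUnit_iff_isUnit_det _).2 (by rw [bi_det]; exact isUnit_one)
  exact (Matrix.mulVec_injective_iff_isUnit.2 hu) h

variable (n F)

/-- The Levi factor. -/
noncomputable def levi : GL (Fin n ⊕ Fin n) F :=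
  Matrix.GeneralLinearGroup.mkOfDetNeZero (Matrix.fromBlocks (bi n F)⁻¹ 0 0 (bi n F)ᵀ) (by
    rw [Matrix.det_fromBlocks_zero₁₂, Matrix.det_transpose, Matrix.det_nonsing_inv, bi_det, Ring.inverse_one]
    simp)

theorem mv_levi (x : V n F) :
    mv (levi n F) x = Sum.elim ((bi n F)⁻¹ *ᵥ (x ∘ Sum.inl)) ((bi n F)ᵀ *ᵥ (x ∘ Sum.inr)) := by
  change Matrix.fromBlocks (bi n F)⁻¹ 0 0 (bi n F)ᵀ *ᵥ x = _
  rw [Matrix.fromBlocks_mulVec]
  simp

theorem sympForm_dot (u v : V n F) :
    sympForm n F u v = (u ∘ Sum.inr) ⬝ᵥ (v ∘ Sum.inl) - (u ∘ Sum.inl) ⬝ᵥ (v ∘ Sum.inr) := by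
  rw [sympForm_eq_sum, Finset.sum_sub_distrib]
  rfl

theorem levi_mem : levi n F ∈ preserving (Units.coeHom (Matrix (Fin n ⊕ Fin n) (Fin n ⊕ Fin n) F)) (sympForm n F) := by
  intro x y
  change sympForm n F (mv (levi n F) x) (mv (levi n F) y) = _
  rw [mv_levi, mv_levi, sympForm_dot, sympForm_dot]
  simp only [Sum.elim_comp_inl, Sum.elim_comp_inr]
  have hinv : bi n F * (bi n F)⁻¹ = 1 := Matrix.mul_nonsing_inv _ (by rw [bi_det]; exact isUnit_one)
  have key : ∀ a b : Fin n → F, ((bi n F)ᵀ *ᵥ a) ⬝ᵥ ((bi n F)⁻¹ *ᵥ b) = a ⬝ᵥ b := by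
    intro a b
    rw [Matrix.mulVec_transpose, ← Matrix.dotProduct_mulVec, Matrix.mulVec_mulVec, hinv, Matrix.one_mulVec]
  rw [key, dotProduct_comm ((bi n F)⁻¹ *ᵥ _), key, dotProduct_comm (y ∘ Sum.inr)]

variable {n F}

/-- The regular unipotent element. -/
noncomputable def uu (hn : 2 ≤ n) : GL (Fin n ⊕ Fin n) F :=
  levi n F * stv (sympForm_isSymplectic n F) (Pi.single (Sum.inl (⟨n - 1, by omega⟩ : Fin n)) 1) 1

theorem uu_mem (hn : 2 ≤ n) :
    uu (F := F) hn ∈ preserving (Units.coeHom (Matrix (Fin n ⊕ Fin n) (Fin n ⊕ Fin n) F)) (sympForm n F) :=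
  mul_mem (levi_mem n F) (stv_mem _ _ _)

theorem sympForm_single_inl (x : V n F) (j : Fin n) :
    sympForm n F x (Pi.single (Sum.inl j) 1) = x (Sum.inr j) := by
  rw [sympForm_eq_sum, Finset.sum_sub_distrib]
  simp [Pi.single_apply]

theorem sympForm_single_inr (x : V n F) (j : Fin n) :
    sympForm n F x (Pi.single (Sum.inr j) 1) = -x (Sum.inl j) := by
  rw [sympForm_eq_sum, Finset.sum_sub_distrib]
  simp [Pi.single_apply]

theorem uu_r (hn : 2 ≤ n) (x : V n F) (i : Fin n) :
    mv (uu hn) x (Sum.inr i) = x (Sum.inr i) + if 1 ≤ (i : ℕ) then x (Sum.inr ⟨i - 1, by omega⟩) else 0 := by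
  rw [uu, mv_mul, mv_levi, Sum.elim_inr, biT_mulVec]
  simp [mv_stv, Pi.single_apply]

theorem uu_l (hn : 2 ≤ n) (x : V n F) (i : Fin n) :
    mv (uu hn) x (Sum.inl i) + (if h : (i : ℕ) + 1 < n then mv (uu hn) x (Sum.inl ⟨i + 1, h⟩) else 0) =
      x (Sum.inl i) + if (i : ℕ) + 1 = n then x (Sum.inr i) else 0 := by
  set z := mv (stv (sympForm_isSymplectic n F) (Pi.single (Sum.inl (⟨n - 1, by omega⟩ : Fin n)) 1) 1) x with hz
  have h1 : bi n F *ᵥ (mv (uu hn) x ∘ Sum.inl) = z ∘ Sum.inl := by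
    rw [uu, mv_mul, mv_levi, Sum.elim_comp_inl, Matrix.mulVec_mulVec,
      Matrix.mul_nonsing_inv _ (by rw [bi_det]; exact isUnit_one), Matrix.one_mulVec, hz]
  have h2 := congrFun h1 i
  rw [bi_mulVec] at h2
  simp only [Function.comp_apply] at h2
  rw [h2, hz, mv_stv, sympForm_single_inl]
  simp only [one_mul, Pi.add_apply, Pi.smul_apply, smul_eq_mul]
  congr 1
  by_cases h : (i : ℕ) + 1 = n
  · have : i = ⟨n - 1, by omega⟩ := Fin.ext (by simp; omega)
    rw [if_pos h, ← this, Pi.single_eq_same, mul_one]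
  · rw [if_neg h, Pi.single_eq_of_ne, mul_zero]
    intro e
    have := congrArg Fin.val (Sum.inl_injective e)
    simp at this
    omega

theorem uu_vec (hn : 2 ≤ n) {a b a' b' : ℕ → F} (h0 : b' 0 = b 0)
    (hb : ∀ i, i + 1 < n → b' (i + 1) = b (i + 1) + b i)
    (ha : ∀ i, i + 1 < n → a' i + a' (i + 1) = a i) (hl : a' (n - 1) = a (n - 1) + b (n - 1)) :
    mv (uu hn) (vec n F a b) = vec n F a' b' := by
  funext j
  have hl' : ∀ i : Fin n, mv (uu hn) (vec n F a b) (Sum.inl i) = a' i := by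
    have : mv (uu hn) (vec n F a b) ∘ Sum.inl = fun i : Fin n => a' i := by
      refine bi_inj ?_
      funext i
      rw [bi_mulVec, bi_mulVec]
      simp only [Function.comp_apply]
      rw [uu_l hn]
      simp only [vec, Sum.elim_inl, Sum.elim_inr]
      by_cases h : (i : ℕ) + 1 < n
      · rw [if_neg (by omega), dif_pos h, add_zero, ha i h]
      · have hi : (i : ℕ) = n - 1 := by omega
        rw [if_pos (by omega), dif_neg h, add_zero, hi, hl]
    exact fun i => congrFun this i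
  rcases j with i | i
  · rw [hl']; rfl
  · rw [uu_r]
    simp only [vec, Sum.elim_inr]
    by_cases h : 1 ≤ (i : ℕ)
    · rw [if_pos h]
      have := hb ((i : ℕ) - 1) (by omega)
      rw [Nat.sub_add_cancel h] at this
      exact this.symm
    · rw [if_neg h, add_zero, show (i : ℕ) = 0 by omega, h0]

theorem sympForm_vec (a b a' b' : ℕ → F) :
    sympForm n F (vec n F a b) (vec n F a' b') = ∑ i ∈ Finset.range n, (b i * a' i - a i * b' i) := by
  rw [sympForm_eq_sum, ← Fin.sum_univ_eq_sum_range (fun i => b i * a' i - a i * b' i)]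
  rfl

/-! ### The cyclic structure -/

section cyclic

variable (hn : 2 ≤ n)

/-- `u - 1` as a linear map. -/
noncomputable def JJ : V n F →ₗ[F] V n F := Matrix.toLin' (((uu (F := F) hn : GL _ F) : Matrix _ _ F) - 1)

theorem JJ_apply (x : V n F) : JJ hn x = mv (uu hn) x - x := by
  simp [JJ, mv, Matrix.sub_mulVec]

/-- The first basis vector. -/
def e0 : V n F := Pi.single (Sum.inl (⟨0, by omega⟩ : Fin n)) 1

/-- The cyclic vector. -/
def f0 : V n F := Pi.single (Sum.inr (⟨0, by omega⟩ : Fin n)) 1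

theorem sympForm_e0 (x : V n F) : sympForm n F x (e0 hn) = x (Sum.inr ⟨0, by omega⟩) :=
  sympForm_single_inl x _

theorem vec_e0 : e0 (F := F) hn = vec n F (fun i => if i = 0 then 1 else 0) (fun _ => 0) := by
  funext j; rcases j with i | i <;> simp [e0, vec, Pi.single_apply, Fin.ext_iff]

theorem vec_f0 : f0 (F := F) hn = vec n F (fun _ => 0) (fun i => if i = 0 then 1 else 0) := by
  funext j; rcases j with i | i <;> simp [f0, vec, Pi.single_apply, Fin.ext_iff]

theorem uu_e0 : mv (uu hn) (e0 (F := F) hn) = e0 hn := by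
  rw [vec_e0]
  refine uu_vec hn rfl (fun i _ => by simp) (fun i _ => by simp) (by simp)

/-- Vectors in the first half whose last non-zero coordinate is at K. -/
def Tri (K : ℕ) (x : V n F) : Prop :=
  (∀ i, x (Sum.inr i) = 0) ∧ (∀ i : Fin n, K < (i : ℕ) → x (Sum.inl i) = 0) ∧
    ∀ i : Fin n, (i : ℕ) = K → x (Sum.inl i) ≠ 0

theorem tri_image {K : ℕ} {x : V n F} (h : Tri K x) :
    (∀ i, mv (uu hn) x (Sum.inr i) = 0) ∧ (∀ i : Fin n, K < (i : ℕ) → mv (uu hn) x (Sum.inl i) = 0) ∧
      ∀ i : Fin n, (i : ℕ) = K → mv (uu hn) x (Sum.inl i) = x (Sum.inl i) := by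
  obtain ⟨hr, hz, -⟩ := h
  have hz' : ∀ d, ∀ i : Fin n, n - (i : ℕ) = d → K < (i : ℕ) → mv (uu hn) x (Sum.inl i) = 0 := by
    intro d
    induction d using Nat.strong_induction_on with
    | _ d ih =>
      intro i hd hi
      have h1 := uu_l hn x i
      rw [hz i hi, zero_add] at h1
      by_cases h : (i : ℕ) + 1 < n
      · rw [dif_pos h, if_neg (by omega)] at h1
        rwa [ih (n - ((i : ℕ) + 1)) (by omega) ⟨i + 1, h⟩ rfl (by simp; omega), add_zero] at h1
      · rw [dif_neg h, if_pos (by omega), hr, add_zero] at h1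
        exact h1
  refine ⟨fun i => ?_, fun i hi => hz' _ i rfl hi, fun i hi => ?_⟩
  · rw [uu_r]; simp [hr]
  · have h1 := uu_l hn x i
    simp only [hr, ite_self, add_zero] at h1
    by_cases h : (i : ℕ) + 1 < n
    · rwa [dif_pos h, hz' _ ⟨i + 1, h⟩ rfl (by simp; omega), add_zero] at h1
    · rwa [dif_neg h, add_zero] at h1

theorem tri_JJ {K : ℕ} (hK : K + 1 < n) {x : V n F} (h : Tri (K + 1) x) : Tri K (JJ hn x) := by
  obtain ⟨h1, h2, h3⟩ := tri_image hn h
  refine ⟨fun i => by rw [JJ_apply, Pi.sub_apply, h1, h.1, sub_zero], fun i hi => ?_, fun i hi => ?_⟩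
  · rw [JJ_apply, Pi.sub_apply]
    by_cases hi' : (i : ℕ) = K + 1
    · rw [h3 i hi', sub_self]
    · rw [h2 i (by omega), h.2.1 i (by omega), sub_zero]
  · rw [JJ_apply, Pi.sub_apply]
    have e := uu_l hn x i
    rw [dif_pos (by omega), if_neg (by omega), add_zero, h3 ⟨i + 1, by omega⟩ (by simp; omega)] at e
    have := h.2.2 ⟨i + 1, by omega⟩ (by simp; omega)
    intro hzero
    apply this
    linear_combination e - hzero

theorem tri_zero {x : V n F} (h : Tri 0 x) : JJ hn x = 0 := by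
  obtain ⟨h1, h2, h3⟩ := tri_image hn h
  funext j
  rcases j with i | i
  · rw [JJ_apply, Pi.sub_apply, Pi.zero_apply]
    by_cases hi : (i : ℕ) = 0
    · rw [h3 i hi, sub_self]
    · rw [h2 i (by omega), h.2.1 i (by omega), sub_zero]
  · rw [JJ_apply, Pi.sub_apply, h1, h.1, sub_zero, Pi.zero_apply]

theorem pow_f0 (j : ℕ) (hj : j < n) :
    (JJ hn ^ j) (f0 (F := F) hn) = vec n F (fun _ => 0) (fun i => if i = j then 1 else 0) := by
  induction j with
  | zero => rw [pow_zero, Module.End.one_apply, vec_f0]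
  | succ j ih =>
    rw [pow_succ', Module.End.mul_apply, ih (by omega), JJ_apply]
    rw [uu_vec hn (a' := fun _ => 0) (b' := fun i => (if i = j + 1 then 1 else 0) + if i = j then 1 else 0)]
    · funext k; rcases k with i | i <;> simp [vec]
    · simp
    · intro i _
      by_cases h1 : i = j
      · subst h1; simp
      · simp [h1, add_comm]
    · intro i _; simp
    · have : n - 1 ≠ j := by omega
      simp [this]

theorem pow_tri (j : ℕ) (hj : j < n) : Tri (n - 1 - j) ((JJ hn ^ (n + j)) (f0 (F := F) hn)) := by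
  induction j with
  | zero =>
    rw [Nat.add_zero, Nat.sub_zero, show (JJ hn ^ n) (f0 (F := F) hn) = JJ hn ((JJ hn ^ (n - 1)) (f0 hn)) by
      rw [← Module.End.mul_apply, ← pow_succ', Nat.sub_add_cancel (by omega)], pow_f0 hn (n - 1) (by omega),
      JJ_apply]
    refine ⟨fun i => ?_, fun i hi => ?_, fun i hi => ?_⟩
    · rw [Pi.sub_apply, uu_r]
      simp only [vec, Sum.elim_inr]
      have := i.isLt
      split_ifs <;> simp <;> omega
    · have := i.isLt; omega
    · have e := uu_l hn (vec n F (fun _ => 0) (fun i => if i = n - 1 then 1 else 0)) i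
      rw [dif_neg (by omega), if_pos (by omega), add_zero] at e
      rw [Pi.sub_apply, e]
      simp [vec, hi]
  | succ j ih =>
    rw [← Nat.add_assoc, pow_succ', Module.End.mul_apply]
    have h := ih (by omega)
    rw [show n - 1 - j = n - 1 - (j + 1) + 1 by omega] at h
    exact tri_JJ hn (by omega) h

theorem top_ne_zero : (JJ hn ^ (2 * n - 1)) (f0 (F := F) hn) ≠ 0 := by
  have h := pow_tri (F := F) hn (n - 1) (by omega)
  rw [show n + (n - 1) = 2 * n - 1 by omega, Nat.sub_self] at h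
  intro e
  exact h.2.2 ⟨0, by omega⟩ rfl (by rw [e]; rfl)

theorem top_smul : ∃ c : F, c ≠ 0 ∧ (JJ hn ^ (2 * n - 1)) (f0 (F := F) hn) = c • e0 hn := by
  have h := pow_tri (F := F) hn (n - 1) (by omega)
  rw [show n + (n - 1) = 2 * n - 1 by omega, Nat.sub_self] at h
  refine ⟨_, h.2.2 ⟨0, by omega⟩ rfl, ?_⟩
  funext j
  rcases j with i | i
  · by_cases hi : (i : ℕ) = 0
    · have e : (⟨0, by omega⟩ : Fin n) = i := Fin.ext hi.symm
      simp [e0, e]
    · rw [h.2.1 i (by omega)]
      simp [e0, Pi.single_apply, Fin.ext_iff, hi]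
  · rw [h.1]
    simp [e0, Pi.single_apply]

theorem pow_two_n_f0 : (JJ hn ^ (2 * n)) (f0 (F := F) hn) = 0 := by
  have h := pow_tri (F := F) hn (n - 1) (by omega)
  rw [show n + (n - 1) = 2 * n - 1 by omega, Nat.sub_self] at h
  rw [show 2 * n = 2 * n - 1 + 1 by omega, pow_succ', Module.End.mul_apply]
  exact tri_zero hn h

omit hn in
theorem indep_of_chain {J : V n F →ₗ[F] V n F} {d : ℕ} {v : V n F} (h0 : (J ^ d) v = 0)
    (h1 : (J ^ (d - 1)) v ≠ 0) : LinearIndependent F fun k : Fin d => (J ^ (k : ℕ)) v := by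
  rw [Fintype.linearIndependent_iff]
  intro c hc
  by_contra hcon
  push Not at hcon
  obtain ⟨i, hi⟩ := hcon
  classical
  obtain ⟨m, hm, hmin⟩ := Finset.exists_min_image (Finset.univ.filter fun i : Fin d => c i ≠ 0) id ⟨i, by simpa using hi⟩
  have hm' : c m ≠ 0 := (Finset.mem_filter.1 hm).2
  have e := congrArg (J ^ (d - 1 - m)) hc
  rw [map_sum, map_zero, Finset.sum_eq_single m] at e
  · rw [map_smul, ← Module.End.mul_apply, ← pow_add, show d - 1 - m + m = d - 1 by omega, smul_eq_zero] at e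
    exact e.elim hm' h1
  · intro k _ hk
    by_cases hck : c k = 0
    · simp [hck]
    have hmk : m ≤ k := hmin k (by simp [hck])
    have hlt : (m : ℕ) < k := lt_of_le_of_ne hmk fun e => hk (Fin.ext e.symm)
    rw [map_smul, ← Module.End.mul_apply, ← pow_add,
      show d - 1 - m + k = (k - m - 1) + d by omega, pow_add, Module.End.mul_apply, h0, map_zero, smul_zero]
  · simp

theorem chain_span {v : V n F} (h0 : (JJ hn ^ (2 * n)) v = 0) (h1 : (JJ hn ^ (2 * n - 1)) v ≠ 0) :
    Submodule.span F (Set.range fun k : Fin (2 * n) => (JJ hn ^ (k : ℕ)) v) = ⊤ :=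
  (indep_of_chain h0 h1).span_eq_top_of_card_eq_finrank' (by rw [Fintype.card_fin, finrank_symp])

theorem JJ_nil : JJ (F := F) hn ^ (2 * n) = 0 := by
  refine LinearMap.ext_on (chain_span hn (pow_two_n_f0 hn) (top_ne_zero hn)) ?_
  rintro _ ⟨k, rfl⟩
  dsimp only
  rw [LinearMap.zero_apply, ← Module.End.mul_apply, ← pow_add, add_comm, pow_add, Module.End.mul_apply,
    pow_two_n_f0, map_zero]

theorem f_JJ_e0 (y : V n F) : sympForm n F (JJ hn y) (e0 hn) = 0 := by
  have hu := SpGen.mem_sp.1 (uu_mem (F := F) hn) y (e0 hn)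
  rw [uu_e0] at hu
  rw [JJ_apply, f_sub_left (sympForm_isSymplectic n F), hu, sub_self]

theorem cyclic_of_ne {v : V n F} (hv : sympForm n F v (e0 hn) ≠ 0) :
    (JJ hn ^ (2 * n - 1)) v ≠ 0 := by
  obtain ⟨c, hc⟩ := (Submodule.mem_span_range_iff_exists_fun F).1
    (show v ∈ Submodule.span F (Set.range fun k : Fin (2 * n) => (JJ hn ^ (k : ℕ)) (f0 hn)) by
      rw [chain_span hn (pow_two_n_f0 hn) (top_ne_zero hn)]; exact Submodule.mem_top)
  have hc0 : c ⟨0, by omega⟩ ≠ 0 := by
    intro h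
    apply hv
    rw [← hc, f_sum_left (sympForm_isSymplectic n F)]
    refine Finset.sum_eq_zero fun k _ => ?_
    rw [(sympForm_isSymplectic n F).bilinear.smul_left]
    by_cases hk : (k : ℕ) = 0
    · rw [show k = ⟨0, by omega⟩ from Fin.ext hk, h, zero_mul]
    · rw [show (k : ℕ) = (k : ℕ) - 1 + 1 by omega, pow_succ', Module.End.mul_apply, f_JJ_e0, mul_zero]
  rw [← hc, map_sum, Finset.sum_eq_single ⟨0, by omega⟩]
  · rw [map_smul, pow_zero, Module.End.one_apply]
    exact smul_ne_zero hc0 (top_ne_zero hn)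
  · intro k _ hk
    have hk' : (k : ℕ) ≠ 0 := fun e => hk (Fin.ext e)
    rw [map_smul, ← Module.End.mul_apply, ← pow_add, show 2 * n - 1 + k = (k - 1 : ℕ) + 2 * n by omega, pow_add,
      Module.End.mul_apply, pow_two_n_f0, map_zero, smul_zero]
  · simp

theorem JJ_mem {W : Submodule F (V n F)} (hW : ∀ v ∈ W, mv (uu hn) v ∈ W) (k : ℕ) {v : V n F} (hv : v ∈ W) :
    (JJ hn ^ k) v ∈ W := by
  induction k with
  | zero => exact hv
  | succ k ih =>
    rw [pow_succ', Module.End.mul_apply, JJ_apply]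
    exact W.sub_mem (hW _ ih) ih

theorem high {W : Submodule F (V n F)} (hW : ∀ v ∈ W, mv (uu hn) v ∈ W) {v : V n F} (hv : v ∈ W)
    (hve : sympForm n F v (e0 hn) ≠ 0) : W = ⊤ := by
  rw [eq_top_iff, ← chain_span hn (LinearMap.congr_fun (JJ_nil hn) v) (cyclic_of_ne hn hve), Submodule.span_le]
  rintro _ ⟨k, rfl⟩
  exact JJ_mem hn hW _ hv

theorem low {W : Submodule F (V n F)} (hW : ∀ v ∈ W, mv (uu hn) v ∈ W) (hne : W ≠ ⊥) : e0 hn ∈ W := by
  classical
  obtain ⟨v, hv, hv0⟩ := W.ne_bot_iff.1 hne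
  obtain ⟨c, hc⟩ := (Submodule.mem_span_range_iff_exists_fun F).1
    (show v ∈ Submodule.span F (Set.range fun k : Fin (2 * n) => (JJ hn ^ (k : ℕ)) (f0 hn)) by
      rw [chain_span hn (pow_two_n_f0 hn) (top_ne_zero hn)]; exact Submodule.mem_top)
  have hs : (Finset.univ.filter fun i : Fin (2 * n) => c i ≠ 0).Nonempty := by
    by_contra h
    rw [Finset.not_nonempty_iff_eq_empty] at h
    apply hv0
    rw [← hc]
    refine Finset.sum_eq_zero fun k _ => ?_
    have : c k = 0 := by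
      by_contra hck
      have : k ∈ Finset.univ.filter fun i : Fin (2 * n) => c i ≠ 0 := by simp [hck]
      rw [h] at this; simp at this
    rw [this, zero_smul]
  obtain ⟨m, hm, hmin⟩ := Finset.exists_min_image _ id hs
  have hm' : c m ≠ 0 := (Finset.mem_filter.1 hm).2
  have hmem := JJ_mem hn hW (2 * n - 1 - m) hv
  rw [← hc, map_sum, Finset.sum_eq_single m] at hmem
  · obtain ⟨d, hd, hd'⟩ := top_smul (F := F) hn
    rw [map_smul, ← Module.End.mul_apply, ← pow_add, show 2 * n - 1 - m + m = 2 * n - 1 by omega, hd', smul_smul] at hmem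
    exact (W.smul_mem_iff (mul_ne_zero hm' hd)).1 hmem
  · intro k _ hk
    by_cases hck : c k = 0
    · simp [hck]
    have hmk : m ≤ k := hmin k (by simp [hck])
    have hlt : (m : ℕ) < k := lt_of_le_of_ne hmk fun e => hk (Fin.ext e.symm)
    rw [map_smul, ← Module.End.mul_apply, ← pow_add,
      show 2 * n - 1 - m + k = (k - m - 1 : ℕ) + 2 * n by omega, pow_add, Module.End.mul_apply, pow_two_n_f0, map_zero,
      smul_zero]
  · simp

theorem pow_mem_span (v : V n F) (k : ℕ) :
    (JJ hn ^ k) v ∈ Submodule.span F (Set.range fun i : Fin (k + 1) => mv (uu hn ^ (i : ℕ)) v) := by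
  induction k with
  | zero =>
    refine Submodule.subset_span ⟨0, ?_⟩
    simp [mv_one]
  | succ k ih =>
    rw [pow_succ', Module.End.mul_apply, JJ_apply]
    refine Submodule.sub_mem _ ?_ (Submodule.span_mono ?_ ih)
    · have : Submodule.span F (Set.range fun i : Fin (k + 1) => mv (uu hn ^ (i : ℕ)) v) ≤
          (Submodule.span F (Set.range fun i : Fin (k + 1 + 1) => mv (uu hn ^ (i : ℕ)) v)).comap (mvLin (uu hn)) := by
        rw [Submodule.span_le]
        rintro _ ⟨i, rfl⟩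
        simp only [Submodule.comap_coe, Set.mem_preimage, mvLin, Matrix.toLin'_apply]
        refine Submodule.subset_span ⟨i.succ, ?_⟩
        simp only [Fin.val_succ, pow_succ']
        exact mv_mul _ _ _
      have := this ih
      simpa only [Submodule.mem_comap, mvLin, Matrix.toLin'_apply] using this
    · rintro _ ⟨i, rfl⟩
      exact ⟨i.castSucc, rfl⟩

theorem indep_pow {v : V n F} (hv : sympForm n F v (e0 hn) ≠ 0) :
    LinearIndependent F fun k : Fin (Fintype.card (Fin n ⊕ Fin n)) => mv (uu hn ^ (k : ℕ)) v := by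
  refine linearIndependent_of_top_le_span_of_card_eq_finrank ?_ (by rw [Fintype.card_fin, Module.finrank_fintype_fun_eq_card])
  rw [← chain_span hn (LinearMap.congr_fun (JJ_nil hn) v) (cyclic_of_ne hn hv), Submodule.span_le]
  rintro _ ⟨k, rfl⟩
  refine Submodule.span_mono ?_ (pow_mem_span hn v k)
  rintro _ ⟨i, rfl⟩
  exact ⟨⟨i, by simp only [Fintype.card_sum, Fintype.card_fin]; have := i.isLt; have := k.isLt; omega⟩, rfl⟩

theorem uu_regular : IsNilpotent (((uu (F := F) hn : GL _ F) : Matrix (Fin n ⊕ Fin n) (Fin n ⊕ Fin n) F) - 1) ∧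
    (((uu (F := F) hn : GL _ F) : Matrix (Fin n ⊕ Fin n) (Fin n ⊕ Fin n) F) - 1) ^ (2 * n - 1) ≠ 0 := by
  refine ⟨⟨2 * n, ?_⟩, fun h => top_ne_zero (F := F) hn ?_⟩
  · apply Matrix.toLin'.injective
    rw [Matrix.toLin'_pow, map_zero]
    exact JJ_nil hn
  · rw [JJ, ← Matrix.toLin'_pow, h, map_zero, LinearMap.zero_apply]

end cyclic

end Cfsg.Agent.SpReg
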