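/-
Three conjugates of a regular unipotent generating the isometry group of an alternating form.
-/
import Cfsg.Agent.Lib.Generation.SpRegular
set_option autoImplicit false
set_option linter.unusedSectionVars false

namespace Cfsg.Agent.SpWitness

open scoped Matrix
open Matrix Transvec SpReg

variable {F : Type*} [Field F]

theorem exists_nu [Fintype F] :
    ∃ ν : F, ν ≠ 0 ∧ ((2 : F) ≠ 0 → 4 + 2 * ν ≠ 0) ∧ ∀ R : Subring F, ν ^ 2 ∈ R → R = ⊤ := by
  classical
  obtain ⟨l, hl⟩ := IsCyclic.exists_generator (α := Fˣ)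
  have hpow : ∀ m : Fˣ, (∀ x, x ∈ Subgroup.zpowers m) → ∀ R : Subring F, (m : F) ^ 2 ∈ R → R = ⊤ := by
    intro m hm R hR
    have hgen : (m : F) ∈ R → R = ⊤ := by
      intro hmR
      refine top_le_iff.1 fun x _ => ?_
      by_cases hx : x = 0
      · subst hx; exact zero_mem _
      obtain ⟨k, hk⟩ := mem_powers_iff_mem_zpowers.2 (hm (Units.mk0 x hx))
      have h := congrArg Units.val hk
      simp only [Units.val_pow_eq_pow_val, Units.val_mk0] at h
      exact h ▸ pow_mem hmR k
    refine hgen ?_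
    by_contra hmR
    -- R is a subfield with F = R + R m
    have hinv : ∀ r ∈ R, r⁻¹ ∈ R := by
      intro r hr
      by_cases h0 : r = 0
      · rw [h0, _root_.inv_zero]; exact zero_mem _
      have e : r * r ^ (Fintype.card F - 2) = 1 := by
        rw [← pow_succ', show Fintype.card F - 2 + 1 = Fintype.card F - 1 by
          have := Fintype.one_lt_card (α := F); omega]
        exact FiniteField.pow_card_sub_one_eq_one r h0
      rw [inv_eq_of_mul_eq_one_right e]
      exact pow_mem hr _
    have hdecomp : ∀ x : F, ∃ a ∈ R, ∃ b ∈ R, x = a + b * m := by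
      intro x
      by_cases hx : x = 0
      · exact ⟨0, zero_mem _, 0, zero_mem _, by rw [hx, zero_mul, add_zero]⟩
      obtain ⟨k, hk⟩ := mem_powers_iff_mem_zpowers.2 (hm (Units.mk0 x hx))
      have h := congrArg Units.val hk
      simp only [Units.val_pow_eq_pow_val, Units.val_mk0] at h
      rcases Nat.even_or_odd' k with ⟨j, rfl | rfl⟩
      · exact ⟨x, h ▸ by rw [pow_mul]; exact pow_mem hR j, 0, zero_mem _, by rw [zero_mul, add_zero]⟩
      · exact ⟨0, zero_mem _, ((m : F) ^ 2) ^ j, pow_mem hR j, by rw [zero_add, ← h, pow_succ, pow_mul]⟩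
    have hinjRR : Function.Injective fun p : R × R => (p.1 : F) + p.2 * m := by
      rintro ⟨⟨a, ha⟩, ⟨b, hb⟩⟩ ⟨⟨a', ha'⟩, ⟨b', hb'⟩⟩ e
      simp only at e
      have hbb : b = b' := by
        by_contra hne
        apply hmR
        have : (m : F) = (a' - a) * (b - b')⁻¹ := by
          rw [eq_mul_inv_iff_mul_eq₀ (sub_ne_zero.2 hne)]
          linear_combination e
        rw [this]
        exact mul_mem (sub_mem ha' ha) (hinv _ (sub_mem hb hb'))
      subst hbb
      have : a = a' := by linear_combination e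
      subst this
      rfl
    have hcard : Fintype.card F = Fintype.card R * Fintype.card R := by
      rw [← Fintype.card_prod]
      refine (Fintype.card_of_bijective ⟨hinjRR, fun x => ?_⟩).symm
      obtain ⟨a, ha, b, hb, rfl⟩ := hdecomp x
      exact ⟨(⟨a, ha⟩, ⟨b, hb⟩), rfl⟩
    -- the squares lie in R
    have hsq : Fintype.card F + 1 ≤ 2 * Fintype.card R := by
      let T : Finset F := (Finset.univ : Finset F).filter fun x => x ∈ R ∧ x ≠ 0
      have hT : T.card + 1 = Fintype.card R := by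
        have : insert (0 : F) T = (Finset.univ : Finset F).filter fun x => x ∈ R := by
          ext x
          by_cases hx : x = 0
          · simp [hx]
          · simp [T, hx]
        have h0 : (0 : F) ∉ T := by simp [T]
        rw [← Finset.card_insert_of_notMem h0, this, Fintype.card_subtype]
      have hmap : ((Finset.univ : Finset F).filter fun x => x ≠ 0).card ≤ 2 * T.card := by
        refine Finset.card_le_mul_card_image_of_maps_to (f := fun x => x ^ 2) ?_ 2 ?_
        · intro x hx
          simp only [Finset.mem_filter, Finset.mem_univ, true_and] at hx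
          simp only [T, Finset.mem_filter, Finset.mem_univ, true_and]
          refine ⟨?_, pow_ne_zero 2 hx⟩
          obtain ⟨k, hk⟩ := mem_powers_iff_mem_zpowers.2 (hm (Units.mk0 x hx))
          have h := congrArg Units.val hk
          simp only [Units.val_pow_eq_pow_val, Units.val_mk0] at h
          rw [← h, ← pow_mul, mul_comm, pow_mul]
          exact pow_mem hR k
        · intro y _
          refine le_trans (Finset.card_le_card (fun x hx => ?_)) (Polynomial.card_nthRoots 2 y |>.trans' (Multiset.toFinset_card_le _))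
          simp only [Finset.mem_filter] at hx
          rw [Multiset.mem_toFinset, Polynomial.mem_nthRoots (by norm_num)]
          exact hx.2
      rw [Finset.filter_ne', Finset.card_erase_of_mem (Finset.mem_univ _), Finset.card_univ] at hmap
      omega
    have h2 : 2 ≤ Fintype.card R := by
      have := Fintype.one_lt_card (α := R)
      omega
    nlinarith
  by_cases h : (2 : F) ≠ 0 ∧ 4 + 2 * (l : F) = 0
  · refine ⟨(l⁻¹ : Fˣ), Units.ne_zero _, fun _ e => ?_, hpow l⁻¹ (fun x => by rw [Subgroup.zpowers_inv]; exact hl x)⟩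
    have h1 : (l : F) = -2 := mul_left_cancel₀ h.1 (by linear_combination h.2)
    have h2 : ((l⁻¹ : Fˣ) : F) = -2 := mul_left_cancel₀ h.1 (by linear_combination e)
    have h3 : (l : F) * ((l⁻¹ : Fˣ) : F) = 1 := by rw [← Units.val_mul, mul_inv_cancel, Units.val_one]
    rw [h1, h2] at h3
    have h30 : (3 : F) = 0 := by linear_combination h3
    have hl1 : (l : F) = 1 := by linear_combination h1 - h30
    have hl' : l = 1 := Units.ext hl1
    have h31 : (-1 : F) = 1 := by
      obtain ⟨k, hk⟩ := Subgroup.mem_zpowers_iff.1 (hl (-1))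
      have := congrArg Units.val hk
      rw [hl', _root_.one_zpow, Units.val_one, Units.val_neg, Units.val_one] at this
      exact this.symm
    exact h.1 (by linear_combination -h31)
  · exact ⟨l, l.ne_zero, fun h2 e => h ⟨h2, e⟩, hpow l hl⟩

variable {n : ℕ} (hn : 2 ≤ n)

/-- Binomial coefficients in the field. -/
abbrev bc (k j : ℕ) : F := (Nat.choose k j : F)

theorem bc_succ (k j : ℕ) : (bc (k + 1) (j + 1) : F) = bc k j + bc k (j + 1) := by
  rw [bc, Nat.choose_succ_succ', Nat.cast_add]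

theorem pow_f0_r (k : ℕ) (i : Fin n) :
    mv (uu hn ^ k) (f0 (F := F) hn) (Sum.inr i) = bc k i := by
  induction k generalizing i with
  | zero =>
    rw [pow_zero, mv_one]
    simp only [f0, Pi.single_apply, Sum.inr.injEq, Fin.ext_iff, bc]
    rcases Nat.eq_zero_or_pos (i : ℕ) with h | h
    · simp [h]
    · rw [Nat.choose_eq_zero_of_lt h, if_neg (by omega), Nat.cast_zero]
  | succ k ih =>
    rw [pow_succ', mv_mul, uu_r, ih]
    by_cases h : 1 ≤ (i : ℕ)
    · obtain ⟨j, hj⟩ : ∃ j, (i : ℕ) = j + 1 := ⟨(i : ℕ) - 1, by omega⟩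
      rw [if_pos h, ih]
      simp only [hj, Nat.add_sub_cancel, bc_succ]
      ring
    · rw [if_neg h, show (i : ℕ) = 0 by omega]
      simp [bc]

theorem pow_e2 (hn3 : 3 ≤ n) (k : ℕ) :
    mv (uu hn ^ k) (SpReg.vec n F (fun i => if i = 2 then 1 else 0) (fun _ => 0)) =
      SpReg.vec n F (fun i => if i = 2 then 1 else if i = 1 then -(k : F) else if i = 0 then bc (k + 1) 2 else 0)
        (fun _ => 0) := by
  induction k with
  | zero =>
    rw [pow_zero, mv_one]
    congr 1
    funext i
    split_ifs <;> simp [bc]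
  | succ k ih =>
    rw [pow_succ', mv_mul, ih]
    refine uu_vec hn rfl (fun i _ => by simp) (fun i _ => ?_) ?_
    · rcases i with _ | _ | _ | i
      · simp [bc_succ (k + 1) 1, bc]; ring
      · simp
      · simp
      · simp
    · rcases (show n - 1 = 2 ∨ 3 ≤ n - 1 by omega) with h | h
      · simp [h]
      · simp [show n - 1 ≠ 2 by omega, show n - 1 ≠ 1 by omega, show n - 1 ≠ 0 by omega]

theorem pow_two (h2 : n = 2) (a0 a1 b0 b1 : F) (k : ℕ) :
    mv (uu hn ^ k) (SpReg.vec n F (fun i => if i = 0 then a0 else a1) (fun i => if i = 0 then b0 else b1)) =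
      SpReg.vec n F (fun i => if i = 0 then a0 - k * a1 - bc (k + 1) 2 * b1 - bc (k + 1) 3 * b0
          else a1 + k * b1 + bc k 2 * b0)
        (fun i => if i = 0 then b0 else b1 + k * b0) := by
  induction k with
  | zero => simp [bc, mv_one, Nat.choose_eq_zero_of_lt]
  | succ k ih =>
    rw [pow_succ', mv_mul, ih]
    refine uu_vec hn rfl (fun i hi => ?_) (fun i hi => ?_) ?_
    · obtain rfl : i = 0 := by omega
      simp; ring
    · obtain rfl : i = 0 := by omega
      simp [bc_succ (k + 1) 2, bc_succ (k + 1) 1, bc_succ k 1, bc]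
      ring
    · simp [h2, bc_succ k 1, bc]
      ring

theorem two_mul_pow (u : GL (Fin n ⊕ Fin n) F) (hu : u ∈ preserving (Units.coeHom (Matrix _ _ F)) (sympForm n F))
    (he : mv u (e0 hn) = e0 hn) (c : F) (y : V n F) (k : ℕ) :
    mv ((u * stv (sympForm_isSymplectic n F) (e0 hn) c) ^ k) y =
      mv (u ^ k) y + ((k : F) * (c * sympForm n F y (e0 hn))) • e0 hn := by
  have hf := sympForm_isSymplectic n F
  induction k with
  | zero => simp [mv_one]
  | succ k ih =>
    rw [pow_succ', mv_mul, ih, mv_mul, mv_stv, hf.bilinear.add_left, hf.bilinear.smul_left, hf.alternating,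
      mul_zero, add_zero, mv_add, mv_add, mv_smul, mv_smul, he, pow_succ', mv_mul]
    have : ∀ m, sympForm n F (mv (u ^ m) y) (e0 hn) = sympForm n F y (e0 hn) := by
      intro m
      induction m with
      | zero => rw [pow_zero, mv_one]
      | succ m ihm =>
        rw [pow_succ', mv_mul]
        conv_lhs => rw [← he]
        rw [SpGen.mem_sp.1 hu, ihm]
    rw [this]
    push_cast
    module

theorem exists_g [Fintype F] (h22 : ¬ (n = 2 ∧ Fintype.card F = 2)) :
    ∃ c : F, c ≠ 0 ∧ ∃ g ∈ preserving (Units.coeHom (Matrix (Fin n ⊕ Fin n) (Fin n ⊕ Fin n) F)) (sympForm n F),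
      g * uu hn * g⁻¹ = uu hn * stv (sympForm_isSymplectic n F) (e0 hn) c := by
  classical
  have hf := sympForm_isSymplectic n F
  have mk : ∀ (c : F) (y : V n F), sympForm n F y (e0 hn) = 1 →
      (∀ k : ℕ, sympForm n F (f0 hn) (mv (uu hn ^ k) (f0 hn)) = sympForm n F y (mv (uu hn ^ k) y) + k * c) →
      ∃ g ∈ preserving (Units.coeHom (Matrix (Fin n ⊕ Fin n) (Fin n ⊕ Fin n) F)) (sympForm n F),
        g * uu hn * g⁻¹ = uu hn * stv hf (e0 hn) c := by
    intro c y hy h
    refine SpGen.exists_conj hf (uu_mem hn) (mul_mem (uu_mem hn) (stv_mem _ _ _)) (x := f0 hn) (y := y)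
      (indep_pow hn ?_) fun k => ?_
    · rw [sympForm_e0]; simp [f0]
    · rw [two_mul_pow hn _ (uu_mem hn) (uu_e0 hn), hf.bilinear.add_right, hf.bilinear.smul_right, h k, hy]
      ring
  have hfe : sympForm n F (f0 hn) (e0 hn) = 1 := by rw [sympForm_e0]; simp [f0]
  by_cases hn3 : 3 ≤ n
  · refine ⟨-1, neg_ne_zero.2 one_ne_zero,
      mk _ (f0 hn + SpReg.vec n F (fun i => if i = 2 then 1 else 0) (fun _ => 0)) ?_ fun k => ?_⟩
    · rw [hf.bilinear.add_left, hfe, sympForm_e0]
      simp [SpReg.vec]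
    · rw [mv_add, hf.bilinear.add_left, hf.bilinear.add_right, hf.bilinear.add_right, pow_e2 hn hn3]
      have e1 : sympForm n F (f0 hn) (SpReg.vec n F (fun i => if i = 2 then 1 else if i = 1 then -(k : F) else if i = 0 then bc (k + 1) 2 else 0) (fun _ => 0)) = bc (k + 1) 2 := by
        rw [hf.skew, show f0 (F := F) hn = Pi.single (Sum.inr (⟨0, by omega⟩ : Fin n)) 1 from rfl, sympForm_single_inr]
        simp [SpReg.vec]
      have e2 : SpReg.vec n F (fun i => if i = 2 then (1 : F) else 0) (fun _ => 0) = Pi.single (Sum.inl (⟨2, by omega⟩ : Fin n)) 1 := by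
        funext j; rcases j with i | i <;> simp [SpReg.vec, Pi.single_apply, Fin.ext_iff]
      have e3 : sympForm n F (SpReg.vec n F (fun i => if i = 2 then 1 else 0) (fun _ => 0)) (mv (uu hn ^ k) (f0 hn)) = -bc k 2 := by
        rw [hf.skew, e2, sympForm_single_inl, pow_f0_r]
      have e4 : sympForm n F (SpReg.vec n F (fun i => if i = 2 then 1 else 0) (fun _ => 0))
          (SpReg.vec n F (fun i => if i = 2 then 1 else if i = 1 then -(k : F) else if i = 0 then bc (k + 1) 2 else 0) (fun _ => 0)) = 0 := by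
        rw [sympForm_vec]; simp
      rw [e1, e3, e4, bc_succ k 1]
      simp [bc]
      ring
  · have h2 : n = 2 := by omega
    subst h2
    obtain ⟨r, hr⟩ : ∃ r : F, r - r * r ≠ 0 := by
      by_contra hcon
      push Not at hcon
      apply h22
      refine ⟨rfl, ?_⟩
      have hle : (Finset.univ : Finset F) ⊆ {0, 1} := by
        intro x _
        have h : x * (1 - x) = 0 := by linear_combination hcon x
        rcases mul_eq_zero.1 h with h | h
        · simp [h]
        · simp [(sub_eq_zero.1 h).symm]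
      have := (Finset.card_le_card hle).trans Finset.card_le_two
      rw [Finset.card_univ] at this
      have := Fintype.one_lt_card (α := F)
      omega
    refine ⟨r - r * r, hr, mk _ (SpReg.vec 2 F (fun i => if i = 0 then 0 else 0) (fun i => if i = 0 then 1 else r)) ?_ fun k => ?_⟩
    · rw [sympForm_e0]; simp [SpReg.vec]
    · rw [show f0 (F := F) hn = SpReg.vec 2 F (fun i => if i = 0 then 0 else 0) (fun i => if i = 0 then 1 else 0) by
        rw [vec_f0]; congr 1; funext i; simp, pow_two hn rfl, pow_two hn rfl, sympForm_vec, sympForm_vec]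
      simp [Finset.sum_range_succ, bc_succ k 1, bc]
      ring

theorem span3 {a b c : V n F} (h : ∀ p q r : F, p • a + q • b + r • c = 0 → p = 0 ∧ q = 0 ∧ r = 0) :
    LinearIndependent F ![a, b, c] := by
  rw [Fintype.linearIndependent_iff]
  intro g hg
  rw [Fin.sum_univ_three] at hg
  simp only [Matrix.cons_val_zero, Matrix.cons_val_one, Matrix.cons_val_two, Matrix.tail_cons, Matrix.head_cons] at hg
  obtain ⟨h1, h2, h3⟩ := h _ _ _ hg
  intro i
  fin_cases i <;> assumption

theorem gram3 {a b c a' b' c' : V n F} (h1 : sympForm n F a' b' = sympForm n F a b)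
    (h2 : sympForm n F a' c' = sympForm n F a c) (h3 : sympForm n F b' c' = sympForm n F b c) :
    ∀ i j, sympForm n F (![a', b', c'] i) (![a', b', c'] j) = sympForm n F (![a, b, c] i) (![a, b, c] j) := by
  have hf := sympForm_isSymplectic n F
  intro i j
  fin_cases i <;> fin_cases j <;>
    simp [hf.alternating, h1, h2, h3, hf.skew b' a', hf.skew c' a', hf.skew c' b', hf.skew b a, hf.skew c a,
      hf.skew c b]

/-- The witnesses. -/
theorem exists_witness [Fintype F] (h22 : ¬ (n = 2 ∧ Fintype.card F = 2)) :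
    ∃ g h : GL (Fin n ⊕ Fin n) F,
      g ∈ preserving (Units.coeHom (Matrix (Fin n ⊕ Fin n) (Fin n ⊕ Fin n) F)) (sympForm n F) ∧
      h ∈ preserving (Units.coeHom (Matrix (Fin n ⊕ Fin n) (Fin n ⊕ Fin n) F)) (sympForm n F) ∧
      preserving (Units.coeHom (Matrix (Fin n ⊕ Fin n) (Fin n ⊕ Fin n) F)) (sympForm n F) ≤
        Subgroup.closure {uu hn, g * uu hn * g⁻¹, h * uu hn * h⁻¹} := by
  classical
  have hf := sympForm_isSymplectic n F
  obtain ⟨c, hc, g, hg, hgu⟩ := exists_g hn h22
  obtain ⟨ν, hν0, hν2, hν⟩ := exists_nu (F := F)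
  set Sp := preserving (Units.coeHom (Matrix (Fin n ⊕ Fin n) (Fin n ⊕ Fin n) F)) (sympForm n F) with hSp
  have fin : ∀ (h : GL (Fin n ⊕ Fin n) F), h ∈ Sp →
      sympForm n F (mv h⁻¹ (e0 hn)) (e0 hn) ≠ 0 →
      (∃ x ∈ Subgroup.closure ({uu hn, h * uu hn * h⁻¹} : Set (GL (Fin n ⊕ Fin n) F)), mv x (e0 hn) = ν • e0 hn) →
      (Fintype.card F = 2 → ∃ a b d : GL (Fin n ⊕ Fin n) F,
        a ∈ Subgroup.closure ({uu hn, h * uu hn * h⁻¹} : Set (GL (Fin n ⊕ Fin n) F)) ∧
        b ∈ Subgroup.closure ({uu hn, h * uu hn * h⁻¹} : Set (GL (Fin n ⊕ Fin n) F)) ∧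
        d ∈ Subgroup.closure ({uu hn, h * uu hn * h⁻¹} : Set (GL (Fin n ⊕ Fin n) F)) ∧
        mv a (e0 hn) + mv b (e0 hn) ≠ 0 ∧ sympForm n F (mv a (e0 hn)) (mv b (e0 hn)) = 0 ∧
        mv d (e0 hn) = mv a (e0 hn) + mv b (e0 hn)) →
      ∃ g h : GL (Fin n ⊕ Fin n) F, g ∈ Sp ∧ h ∈ Sp ∧
        Sp ≤ Subgroup.closure {uu hn, g * uu hn * g⁻¹, h * uu hn * h⁻¹} := by
    intro h hh hcyc ⟨x, hx, hxe⟩ hgood
    refine ⟨g, h, hg, hh, ?_⟩
    set H := Subgroup.closure ({uu hn, g * uu hn * g⁻¹, h * uu hn * h⁻¹} : Set (GL (Fin n ⊕ Fin n) F)) with hH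
    have hsub : Subgroup.closure ({uu hn, h * uu hn * h⁻¹} : Set (GL (Fin n ⊕ Fin n) F)) ≤ H :=
      Subgroup.closure_mono (by intro z hz; simp only [Set.mem_insert_iff, Set.mem_singleton_iff] at hz ⊢; tauto)
    have hT : stv hf (e0 hn) c ∈ H := by
      have h1 : g * uu hn * g⁻¹ ∈ H := Subgroup.subset_closure (by simp)
      have h2 : uu hn ∈ H := Subgroup.subset_closure (by simp)
      have := H.mul_mem (H.inv_mem h2) h1
      rwa [hgu, inv_mul_cancel_left] at this
    refine SpGen.all_stv hf H ?_ (uu hn) h (Subgroup.subset_closure (by simp)) (Subgroup.subset_closure (by simp))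
      (e0 hn) ?_ (uu_e0 hn) (fun W hW hne => low hn hW hne) (fun W hW v hv hve => high hn hW hv hve) hcyc c hc hT
      ν hν0 hν x (hsub hx) hxe ?_
    · rw [hH, Subgroup.closure_le]
      intro z hz
      simp only [Set.mem_insert_iff, Set.mem_singleton_iff] at hz
      rcases hz with rfl | rfl | rfl
      · exact uu_mem hn
      · exact mul_mem (mul_mem hg (uu_mem hn)) (inv_mem hg)
      · exact mul_mem (mul_mem hh (uu_mem hn)) (inv_mem hh)
    · intro h0
      have := congrFun h0 (Sum.inl ⟨0, by omega⟩)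
      simp [e0] at this
    · intro h2
      rw [Nat.card_eq_fintype_card] at h2
      obtain ⟨a, b, d, ha, hb, hd, h1, h3, h4⟩ := hgood h2
      exact ⟨a, b, hsub ha, hsub hb, h1, h3, d, hsub hd, h4⟩
  -- the word
  have word : ∀ (h : GL (Fin n ⊕ Fin n) F) (x z0 v : V n F) (j : ℕ), mv h x = z0 → mv h (mv (uu hn) x) = e0 hn →
      mv h (mv (uu hn ^ (j + 1)) x) = ν • v → mv (uu hn) v = z0 →
      mv (h * uu hn * h⁻¹ * uu hn * (h * uu hn * h⁻¹) ^ j) (e0 hn) = ν • e0 hn := by
    intro h x z0 v j h0 h1 h3 hv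
    have e : ∀ m, mv ((h * uu hn * h⁻¹) ^ m) (e0 hn) = mv h (mv (uu hn ^ (m + 1)) x) := by
      intro m
      induction m with
      | zero => rw [pow_zero, mv_one, zero_add, pow_one, h1]
      | succ m ih => rw [pow_succ', mv_mul, ih, mv_mul, mv_mul, mv_inv_mv, ← mv_mul (uu hn), ← pow_succ']
    rw [mv_mul, mv_mul, e, h3, mv_smul, hv, mv_smul, mv_mul, mv_mul, ← h0, mv_inv_mv, h1]
  have wmem : ∀ (h : GL (Fin n ⊕ Fin n) F) (j : ℕ), h * uu hn * h⁻¹ * uu hn * (h * uu hn * h⁻¹) ^ j ∈
      Subgroup.closure ({uu hn, h * uu hn * h⁻¹} : Set (GL (Fin n ⊕ Fin n) F)) := fun h j =>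
    mul_mem (mul_mem (Subgroup.subset_closure (by simp)) (Subgroup.subset_closure (by simp)))
      (pow_mem (Subgroup.subset_closure (by simp)) j)
  have hcyc : ∀ (h : GL (Fin n ⊕ Fin n) F) (x : V n F), mv h (mv (uu hn) x) = e0 hn →
      x (Sum.inr ⟨0, by omega⟩) ≠ 0 → sympForm n F (mv h⁻¹ (e0 hn)) (e0 hn) ≠ 0 := by
    intro h x h1 hx
    have e : mv h⁻¹ (e0 hn) = mv (uu hn) x := by rw [← h1, mv_inv_mv]
    rw [e, sympForm_e0, uu_r]
    simpa using hx
  by_cases hn3 : 3 ≤ n
  · let x0 : V n F := SpReg.vec n F (fun _ => 0) (fun i => if i = 0 then 1 else 0)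
    have hx1 : mv (uu hn) x0 = SpReg.vec n F (fun _ => 0) (fun i => if i ≤ 1 then 1 else 0) := by
      refine uu_vec hn (by simp) (fun i _ => ?_) (fun i _ => by simp) ?_
      · rcases i with _ | i <;> simp
      · simp [show n - 1 ≠ 0 by omega]
    have hx2 : mv (uu hn ^ 2) x0 = SpReg.vec n F (fun _ => 0) (fun i => if i = 0 then 1 else if i = 1 then 2 else if i = 2 then 1 else 0) := by
      rw [pow_succ', pow_one, mv_mul, hx1]
      refine uu_vec hn (by simp) (fun i _ => ?_) (fun i _ => by simp) ?_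
      · rcases i with _ | _ | i <;> simp
        norm_num
      · simp [show ¬ (n - 1 ≤ 1) by omega]
    let z0 : V n F := SpReg.vec n F (fun i => if i = 2 then 1 else 0) (fun _ => 0)
    let v : V n F := SpReg.vec n F (fun i => if i = 1 ∨ i = 2 then 1 else 0) (fun _ => 0)
    have hv : mv (uu hn) v = z0 := by
      refine uu_vec hn rfl (fun i _ => by simp) (fun i _ => ?_) ?_
      · rcases i with _ | _ | _ | i <;> simp
      · rcases (show n - 1 = 2 ∨ 3 ≤ n - 1 by omega) with h | h
        · simp [h]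
        · simp [show n - 1 ≠ 2 by omega, show n - 1 ≠ 1 by omega]
    have ev : ∀ (p : V n F) (i : ℕ) (hi : i < n) (q : F), p = 0 → q = p (Sum.inl ⟨i, hi⟩) → q = 0 :=
      fun p i hi q hp hq => by rw [hq, hp]; rfl
    obtain ⟨h, hh, hh'⟩ := SpGen.exists_extend hf ![x0, mv (uu hn) x0, mv (uu hn ^ 2) x0]
      ![z0, e0 hn, ν • v] (span3 fun p q r hpq => by
        rw [hx1, hx2] at hpq
        have h0 := congrFun hpq (Sum.inr ⟨0, by omega⟩)
        have h1 := congrFun hpq (Sum.inr ⟨1, by omega⟩)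
        have h2 := congrFun hpq (Sum.inr ⟨2, by omega⟩)
        simp [x0, SpReg.vec] at h0 h1 h2
        subst h2
        simp at h1
        subst h1
        simp at h0
        exact ⟨h0, rfl, rfl⟩)
      (span3 fun p q r hpq => by
        rw [vec_e0] at hpq
        have h0 := congrFun hpq (Sum.inl ⟨0, by omega⟩)
        have h1 := congrFun hpq (Sum.inl ⟨1, by omega⟩)
        have h2 := congrFun hpq (Sum.inl ⟨2, by omega⟩)
        simp [z0, v, SpReg.vec, hν0] at h0 h1 h2
        subst h1
        simp at h2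
        exact ⟨h2, h0, rfl⟩)
      (gram3 (by rw [hx1, vec_e0, sympForm_vec, sympForm_vec]; simp)
        (by rw [hx2, hf.bilinear.smul_right, sympForm_vec, sympForm_vec]; simp)
        (by rw [hx1, hx2, vec_e0, hf.bilinear.smul_right, sympForm_vec, sympForm_vec]; simp))
    have h0 : mv h x0 = z0 := hh' 0
    have h1 : mv h (mv (uu hn) x0) = e0 hn := hh' 1
    have h2 : mv h (mv (uu hn ^ 2) x0) = ν • v := hh' 2
    refine fin h hh (hcyc h x0 h1 (by simp [x0, SpReg.vec])) ⟨_, wmem h 1, word h x0 z0 v 1 h0 h1 h2 hv⟩ fun hF => ?_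
    have hF2 : (2 : F) = 0 := by
      have := Nat.cast_card_eq_zero F
      rw [hF] at this
      exact_mod_cast this
    have hwz : mv ((h * uu hn * h⁻¹)⁻¹) (e0 hn) = z0 := by
      rw [← h1, mv_eq_iff, inv_inv, mv_mul, mv_mul, ← h0, mv_inv_mv]
    refine ⟨1, (h * uu hn * h⁻¹)⁻¹, uu hn ^ 2 * (h * uu hn * h⁻¹)⁻¹, one_mem _,
      inv_mem (Subgroup.subset_closure (by simp)),
      mul_mem (pow_mem (Subgroup.subset_closure (by simp)) 2) (inv_mem (Subgroup.subset_closure (by simp))), ?_, ?_, ?_⟩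
    · rw [mv_one, hwz]
      intro e
      have := congrFun e (Sum.inl ⟨2, by omega⟩)
      simp [z0, SpReg.vec, vec_e0] at this
    · rw [mv_one, hwz, vec_e0, sympForm_vec]; simp
    · rw [mv_mul, hwz, mv_one, pow_e2 hn hn3, vec_e0]
      funext j
      rcases j with i | i
      · simp only [SpReg.vec, z0, Pi.add_apply, Sum.elim_inl]
        rcases Nat.eq_zero_or_pos (i : ℕ) with hi | hi
        · simp [hi, bc]
          linear_combination hF2
        · have : (i : ℕ) ≠ 0 := by omega
          simp [this, hF2]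
      · simp [SpReg.vec, z0]
  · have h2 : n = 2 := by omega
    subst h2
    have noF : Fintype.card F ≠ 2 := fun h => h22 ⟨rfl, h⟩
    let vv : F → F → F → F → V 2 F := fun a0 a1 b0 b1 =>
      SpReg.vec 2 F (fun i => if i = 0 then a0 else a1) (fun i => if i = 0 then b0 else b1)
    have he : e0 (F := F) hn = vv 1 0 0 0 := by
      rw [vec_e0]; simp only [vv]; congr 1; funext i; simp
    have upd : ∀ (a0 a1 b0 b1 : F) (k : ℕ), mv (uu hn ^ k) (vv a0 a1 b0 b1) =
        vv (a0 - k * a1 - bc (k + 1) 2 * b1 - bc (k + 1) 3 * b0) (a1 + k * b1 + bc k 2 * b0) b0 (b1 + k * b0) :=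
      fun a0 a1 b0 b1 k => pow_two hn rfl a0 a1 b0 b1 k
    have fv : ∀ a0 a1 b0 b1 c0 c1 d0 d1 : F, sympForm 2 F (vv a0 a1 b0 b1) (vv c0 c1 d0 d1) =
        b0 * c0 - a0 * d0 + (b1 * c1 - a1 * d1) := by
      intro a0 a1 b0 b1 c0 c1 d0 d1
      simp [vv, sympForm_vec, Finset.sum_range_succ]
      ring
    have coord : ∀ (a0 a1 b0 b1 : F), vv a0 a1 b0 b1 = 0 → a0 = 0 ∧ a1 = 0 ∧ b0 = 0 ∧ b1 = 0 := by
      intro a0 a1 b0 b1 h
      refine ⟨?_, ?_, ?_, ?_⟩
      · simpa [vv, SpReg.vec] using congrFun h (Sum.inl 0)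
      · simpa [vv, SpReg.vec] using congrFun h (Sum.inl 1)
      · simpa [vv, SpReg.vec] using congrFun h (Sum.inr 0)
      · simpa [vv, SpReg.vec] using congrFun h (Sum.inr 1)
    have lin : ∀ (p q r a0 a1 b0 b1 c0 c1 d0 d1 s0 s1 t0 t1 : F),
        p • vv a0 a1 b0 b1 + q • vv c0 c1 d0 d1 + r • vv s0 s1 t0 t1 =
          vv (p * a0 + q * c0 + r * s0) (p * a1 + q * c1 + r * s1) (p * b0 + q * d0 + r * t0) (p * b1 + q * d1 + r * t1) := by
      intros
      funext j
      rcases j with i | i <;> fin_cases i <;> simp [vv, SpReg.vec]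
    have sm : ∀ t a0 a1 b0 b1 : F, t • vv a0 a1 b0 b1 = vv (t * a0) (t * a1) (t * b0) (t * b1) := by
      intros
      funext j
      rcases j with i | i <;> fin_cases i <;> simp [vv, SpReg.vec]
    by_cases hc2 : (2 : F) = 0
    · haveI : CharP F 2 := CharTwo.of_one_ne_zero_of_two_eq_zero one_ne_zero hc2
      obtain ⟨s, hs⟩ := FiniteField.isSquare_of_char_two (ringChar.eq F 2) ν⁻¹
      have hs' : ν * (s * s) = 1 := by rw [← hs, mul_inv_cancel₀ hν0]
      have hs0 : s ≠ 0 := fun h => by rw [h, mul_zero, mul_zero] at hs'; exact zero_ne_one hs'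
      have hx1 : mv (uu hn) (vv 0 0 1 0) = vv 0 0 1 1 := by
        rw [← pow_one (uu hn), upd]; congr 1 <;> simp [bc]
      have hx2 : mv (uu hn ^ 2) (vv 0 0 1 0) = vv (-1) 1 1 2 := by
        rw [upd]; congr 1 <;> simp [bc]
      have hv : mv (uu hn) (vv 0 (-s) 0 s) = vv 0 0 0 s := by
        rw [← pow_one (uu hn), upd]; congr 1 <;> simp [bc]
      obtain ⟨h, hh, hh'⟩ := SpGen.exists_extend hf ![vv 0 0 1 0, mv (uu hn) (vv 0 0 1 0), mv (uu hn ^ 2) (vv 0 0 1 0)]
        ![vv 0 0 0 s, e0 hn, ν • vv 0 (-s) 0 s] (span3 fun p q r hpq => by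
          rw [hx1, hx2, lin] at hpq
          obtain ⟨h1, -, h3, h4⟩ := coord _ _ _ _ hpq
          have hr : r = 0 := by linear_combination -h1
          subst hr
          have hq : q = 0 := by linear_combination h4
          subst hq
          exact ⟨by linear_combination h3, rfl, rfl⟩)
        (span3 fun p q r hpq => by
          rw [he, sm ν, lin] at hpq
          obtain ⟨h1, h2, -, h4⟩ := coord _ _ _ _ hpq
          have hq : q = 0 := by linear_combination h1
          have hr : r = 0 := by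
            have : r * (ν * s) = 0 := by linear_combination -h2
            simpa [hν0, hs0] using this
          subst hr
          have hp : p = 0 := by
            have : p * s = 0 := by linear_combination h4
            simpa [hs0] using this
          exact ⟨hp, hq, rfl⟩)
        (gram3 (by rw [hx1, he, fv, fv]; ring)
          (by rw [hx2, hf.bilinear.smul_right, fv, fv]; linear_combination -hs')
          (by rw [hx1, hx2, he, hf.bilinear.smul_right, fv, fv]; ring))
      have h1 : mv h (mv (uu hn) (vv 0 0 1 0)) = e0 hn := hh' 1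
      exact fin h hh (hcyc h _ h1 (by simp [vv, SpReg.vec]))
        ⟨_, wmem h 1, word h (vv 0 0 1 0) _ _ 1 (hh' 0) h1 (hh' 2) hv⟩ fun hF => absurd hF noF
    · have hd := hν2 hc2
      obtain ⟨β, hβ⟩ : ∃ β : F, β * (4 + 2 * ν) = -1 := ⟨-1 / (4 + 2 * ν), div_mul_cancel₀ _ hd⟩
      have hβ0 : β ≠ 0 := fun h => by rw [h, zero_mul] at hβ; exact one_ne_zero (by linear_combination hβ)
      obtain ⟨γ, hγ⟩ : ∃ γ : F, γ = -2 * β := ⟨_, rfl⟩
      have hγ0 : γ ≠ 0 := by rw [hγ]; exact mul_ne_zero (neg_ne_zero.2 hc2) hβ0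
      obtain ⟨b, hb⟩ : ∃ b : F, b * (2 * ν * γ) = -6 * β - 4 :=
        ⟨(-6 * β - 4) / (2 * ν * γ), div_mul_cancel₀ _ (mul_ne_zero (mul_ne_zero hc2 hν0) hγ0)⟩
      have hx1 : mv (uu hn) (vv 0 β 1 0) = vv (-β) β 1 1 := by
        rw [← pow_one (uu hn), upd]; congr 1 <;> simp [bc]
      have hx3 : mv (uu hn ^ 3) (vv 0 β 1 0) = vv (-3 * β - 4) (β + 3) 1 3 := by
        rw [upd]; congr 1 <;> simp [bc, show Nat.choose 3 2 = 3 from rfl, show Nat.choose 4 3 = 4 from rfl]
      have hv : mv (uu hn) (vv b (b + γ) γ (-γ)) = vv 0 b γ 0 := by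
        rw [← pow_one (uu hn), upd]; congr 1 <;> simp [bc]
      obtain ⟨h, hh, hh'⟩ := SpGen.exists_extend hf ![vv 0 β 1 0, mv (uu hn) (vv 0 β 1 0), mv (uu hn ^ 3) (vv 0 β 1 0)]
        ![vv 0 b γ 0, e0 hn, ν • vv b (b + γ) γ (-γ)] (span3 fun p q r hpq => by
          rw [hx1, hx3, lin] at hpq
          obtain ⟨h1, -, h3, h4⟩ := coord _ _ _ _ hpq
          have h44 : (4 : F) ≠ 0 := by
            intro h; exact hc2 (mul_self_eq_zero.1 (by linear_combination h))
          have hr : r = 0 := by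
            have : r * 4 = 0 := by linear_combination -h1 - β * h4
            simpa [h44] using this
          subst hr
          have hq : q = 0 := by linear_combination h4
          subst hq
          exact ⟨by linear_combination h3, rfl, rfl⟩)
        (span3 fun p q r hpq => by
          rw [he, sm ν, lin] at hpq
          obtain ⟨h1, -, h3, h4⟩ := coord _ _ _ _ hpq
          have hr : r = 0 := by
            have : r * (ν * γ) = 0 := by linear_combination -h4
            simpa [hν0, hγ0] using this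
          subst hr
          have hp : p = 0 := by
            have : p * γ = 0 := by linear_combination h3
            simpa [hγ0] using this
          exact ⟨hp, by linear_combination h1, rfl⟩)
        (gram3 (by rw [hx1, he, fv, fv, hγ]; ring)
          (by rw [hx3, hf.bilinear.smul_right, fv, fv]; linear_combination hb)
          (by rw [hx1, hx3, he, hf.bilinear.smul_right, fv, fv, hγ]; linear_combination hβ))
      have h1 : mv h (mv (uu hn) (vv 0 β 1 0)) = e0 hn := hh' 1
      exact fin h hh (hcyc h _ h1 (by simp [vv, SpReg.vec]))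
        ⟨_, wmem h 2, word h (vv 0 β 1 0) _ _ 2 (hh' 0) h1 (hh' 2) hv⟩ fun hF => absurd hF noF

end Cfsg.Agent.SpWitness
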