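/-
Three conjugates of a regular unipotent generating SU_n, n odd at least five.
-/
import Cfsg.Agent.Lib.Generation.SURegular
import Cfsg.Agent.Lib.Generation.SpWitness
import Cfsg.Agent.Lib.Classical.Hermitian
import Cfsg.Agent.Lib.Transvec.HermOrth
set_option autoImplicit false
set_option linter.unusedSectionVars false

namespace Cfsg.Agent.SUGen

open scoped Matrix
open Matrix Cfsg.Agent.Transvec Cfsg.Agent.Transvec.Herm

variable {ι : Type} [Fintype ι] [DecidableEq ι] {F : Type*} [Field F] [Finite F]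
variable {σ : F ≃+* F} {f : (ι → F) → (ι → F) → F}
variable {u : GL ι F} {n m : ℕ} {e e₂ b₂ v xh : ι → F} (R : Reg σ f u n m e e₂ b₂ v xh)

include R

theorem f_u (k : ℕ) (p q : ι → F) : f (mv (u ^ k) p) (mv (u ^ k) q) = f p q := (pow_mem R.iso k) p q

theorem exists_start (β : F) : ∃ x, f x e = 1 ∧ f x e₂ = β := by
  have := R.dim; have := R.two_le
  have hf := R.form
  set x₁ := (f xh e)⁻¹ • xh
  have h1 : f x₁ e = 1 := by rw [hf.smul_left, inv_mul_cancel₀ (f_xh_e R)]
  have hz : f (NP u 1 xh) e₂ ≠ 0 := by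
    rw [R.e₂_def, neg_right hf, neg_ne_zero, f_NP_shift R, NP_comm, show 1 + (n - 2) = n - 1 by omega,
      ← R.e_def, zpow_e R]
    exact mul_ne_zero (pow_ne_zero _ (neg_ne_zero.2 one_ne_zero)) (f_xh_e R)
  refine ⟨x₁ + ((β - f x₁ e₂) / f (NP u 1 xh) e₂) • NP u 1 xh, ?_, ?_⟩
  · rw [hf.add_left, h1, hf.smul_left, f_Ne R, mul_zero, add_zero]
  · rw [hf.add_left, hf.smul_left ((β - f x₁ e₂) / f (NP u 1 xh) e₂), div_mul_cancel₀ _ hz, add_sub_cancel]

theorem exists_Q (hq : 3 ≤ Nat.card (fixedField σ)) :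
    ∃ x, f x e = 1 ∧ f (NP u 2 x) (NP u 2 x) ≠ 0 := by
  have := R.dim; have := R.two_le
  have hf := R.form
  obtain ⟨x₀, hx₀, -⟩ := exists_start R 0
  by_cases h0 : f (NP u 2 x₀) (NP u 2 x₀) ≠ 0
  · exact ⟨x₀, hx₀, h0⟩
  push Not at h0
  set w := NP u (m - 2) xh
  have hw : NP u 2 w = v := by rw [R.v_def, ← NP_add, show 2 + (m - 2) = m by omega]
  by_cases hwe : f w e = 0
  swap
  · refine ⟨(f w e)⁻¹ • w, by rw [hf.smul_left, inv_mul_cancel₀ hwe], ?_⟩
    rw [map_smul, hw, hf.smul_left, smul_right hf]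
    exact mul_ne_zero (inv_ne_zero hwe)
      (mul_ne_zero ((map_ne_zero_iff σ σ.injective).2 (inv_ne_zero hwe)) (f_vv R))
  obtain ⟨k, hk0, hk1, hk⟩ : ∃ k : F, k ≠ 0 ∧ k ≠ 1 ∧ σ k = k := by
    by_contra h
    push Not at h
    haveI := Fintype.ofFinite (fixedField σ)
    classical
    have hinj : Function.Injective fun x : fixedField σ => (decide (x = 0) : Bool) := by
      intro a b hab
      simp only [decide_eq_decide] at hab
      by_cases ha : a = 0
      · rw [ha, hab.1 ha]
      · have hb : b ≠ 0 := fun h => ha (hab.2 h)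
        have e : ∀ x : fixedField σ, x ≠ 0 → x = 1 := fun x hx => Subtype.ext (by
          by_contra hne
          exact h x (fun e => hx (Subtype.ext e)) hne x.2)
        rw [e a ha, e b hb]
    have := Nat.card_le_card_of_injective _ hinj
    rw [Nat.card_eq_fintype_card (α := Bool), Fintype.card_bool] at this
    omega
  set y := NP u 2 x₀
  have key : ∀ γ : F, f (NP u 2 (x₀ + γ • w)) (NP u 2 (x₀ + γ • w)) =
      σ γ * f y v + γ * f v y + γ * σ γ * f v v := by
    intro γ
    rw [map_add, map_smul, hw]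
    simp only [hf.add_left, add_right hf, hf.smul_left, smul_right hf, show f (NP u 2 x₀) (NP u 2 x₀) = 0 from h0, y]
    ring
  have hxe : ∀ γ : F, f (x₀ + γ • w) e = 1 := fun γ => by
    rw [hf.add_left, hf.smul_left, hx₀, hwe, mul_zero, add_zero]
  by_contra hcon
  push Not at hcon
  have h1 := key 1
  rw [hcon _ (hxe 1), map_one] at h1
  have h2 := key k
  rw [hcon _ (hxe k), hk] at h2
  refine f_vv R ?_
  have h3 : (k * k - k) * f v v = 0 := by linear_combination k * h1 - h2
  exact (mul_eq_zero.1 h3).resolve_left fun h => hk1 (mul_left_cancel₀ hk0 (by linear_combination h))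

theorem Q_eq (x : ι → F) :
    (3 * PV f u 1 x + σ (PV f u 1 x) - PV f u 2 x) + σ (3 * PV f u 1 x + σ (PV f u 1 x) - PV f u 2 x) =
      -f (NP u 2 x) (NP u 2 x) := by
  have hf := R.form
  have e : NP u 2 x = mv (u ^ 2) x - (2 : F) • mv u x + x := by
    rw [show (2 : ℕ) = 1 + 1 from rfl, NP_succ, NP_one, mv_sub, pow_two, mv_mul]
    module
  have h1 : f (mv u x) (mv u x) = f x x := R.iso x x
  have h2 : f (mv (u ^ 2) x) (mv (u ^ 2) x) = f x x := f_u R 2 x x
  have h3 : f (mv (u ^ 2) x) (mv u x) = f (mv u x) x := by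
    rw [pow_two, mv_mul]; exact R.iso _ _
  have h4 : f (mv u x) (mv (u ^ 2) x) = f x (mv u x) := by
    rw [pow_two, mv_mul]; exact R.iso _ _
  rw [e, PV, PV, pow_one]
  simp only [hf.add_left, sub_left hf, add_right hf, sub_right hf, hf.smul_left, smul_right hf, map_add, map_sub,
    map_mul, map_ofNat, hf.involutive, h1, h2, h3, h4, self_fixed hf]
  rw [← hf.herm (mv (u ^ 2) x) x, ← hf.herm (mv u x) x]
  ring

theorem exists_J (hq : Nat.card (fixedField σ) = 2) :
    ∃ x, f x e = 1 ∧ PV f u 1 x + σ (PV f u 3 x) ≠ 0 := by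
  have := R.dim; have := R.two_le
  have hf := R.form
  obtain ⟨-, h2⟩ := two_fixed hq
  have hJ : ∀ x, PV f u 1 x + σ (PV f u 3 x) = f (mv (u ^ 3) x) (NP u 4 x) := by
    intro x
    have e : NP u 4 x = mv (u ^ 4) x + x := by
      have e4 : NP u 4 x = mv (u ^ 4) x + x + (2 : F) • (-(2 : F) • mv (u ^ 3) x + (3 : F) • mv (u ^ 2) x -
          (2 : F) • mv u x) := by
        rw [show (4 : ℕ) = 0 + 1 + 1 + 1 + 1 from rfl, NP_succ, NP_succ, NP_succ, NP_succ, NP_zero]
        simp only [mv_sub, pow_succ', pow_zero, mul_one, mv_mul]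
        module
      rw [e4, h2, zero_smul, add_zero]
    have h4 : f (mv (u ^ 3) x) (mv (u ^ 4) x) = f x (mv u x) := by
      rw [show u ^ 4 = u ^ 3 * u from pow_succ u 3, mv_mul]; exact f_u R 3 _ _
    rw [e, add_right hf, h4, PV, PV, pow_one, map_sub, self_fixed hf, ← hf.herm]
    linear_combination -(f x x) * h2
  obtain ⟨x₀, hx₀, -⟩ := exists_start R 0
  by_cases h0 : PV f u 1 x₀ + σ (PV f u 3 x₀) ≠ 0
  · exact ⟨x₀, hx₀, h0⟩
  rw [not_not, hJ] at h0
  by_cases hm : m = 2
  · exfalso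
    obtain ⟨c, hc, hcx⟩ := NP_top R (x := x₀) (by rw [hx₀]; exact one_ne_zero)
    rw [show (4 : ℕ) = n - 1 by omega, hcx, smul_right hf] at h0
    have : f (mv (u ^ 3) x₀) e = 1 := by
      have h := f_u R 3 x₀ e
      rwa [show mv (u ^ 3) e = e by have := zpow_e R ((3 : ℕ) : ℤ); rwa [zpow_natCast] at this, hx₀] at h
    rw [this, mul_one] at h0
    exact hc ((map_eq_zero_iff σ σ.injective).1 h0)
  set w := NP u (n - 5) xh with hw
  have hw4 : NP u 4 w = e := by rw [hw, ← NP_add, R.e_def, show 4 + (n - 5) = n - 1 by omega]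
  have hwe : f w e = 0 := by rw [hw, R.e_def]; exact f_NP_zero R _ _ _ _ (by omega)
  have hex : f e x₀ = 1 := by rw [hf.herm, hx₀, map_one]
  have he3 : mv (u ^ 3) e = e := by have := zpow_e R ((3 : ℕ) : ℤ); rwa [zpow_natCast] at this
  have hA : f (mv (u ^ 3) w) e = 0 := by
    have := f_u R 3 w e
    rwa [he3, hwe] at this
  have hB : f (mv (u ^ 3) x₀) e = 1 := by
    have := f_u R 3 x₀ e
    rwa [he3, hx₀] at this
  have hC : f (mv (u ^ 3) w) (NP u 4 x₀) = 1 := by
    have h := f_NP_shift R (n - 5) 4 (mv (u ^ ((3 : ℕ) : ℤ)) xh) x₀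
    rw [NP_comm, zpow_natCast, ← hw] at h
    rw [h, show n - 5 + 4 = n - 1 by omega]
    obtain ⟨c, hc, hcx⟩ := NP_top R (x := x₀) (by rw [hx₀]; exact one_ne_zero)
    rw [NP_comm, hcx, mv_smul, zpow_e R, smul_right hf]
    have hxh : f (mv (u ^ 3) xh) e = f xh e := by
      have := f_u R 3 xh e
      rwa [he3] at this
    -- compare with e = N^(n-1) xh
    obtain ⟨d, z, hd⟩ := exists_decomp R x₀
    have hd1 : d * f xh e = 1 := by
      rw [← hx₀, hd, hf.add_left, hf.smul_left, f_Ne R, add_zero]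
    have hcd : c = d := by
      rw [hd, map_add, map_smul, ← R.e_def, ← NP_add, NP_big R (by omega), add_zero] at hcx
      exact (smul_left_injective F R.e_ne hcx).symm
    have hσ : σ (f xh e) * σ d = 1 := by rw [← map_mul, mul_comm, hd1, map_one]
    -- the twisted value
    have htw : f e xh = (-1 : F) ^ (n - 1) * f xh e := by
      rw [R.e_def]
      have h := f_NP_shift R (n - 1) 0 xh xh
      rw [NP_zero, add_zero, NP_comm, ← R.e_def, zpow_e R] at h
      rw [← R.e_def, h]
    rw [hxh, hcd]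
    have hs : ∀ k : ℕ, (-1 : F) ^ k = 1 := fun k => by
      rw [show (-1 : F) = 1 by linear_combination -h2, one_pow]
    rw [hs, one_mul] at htw ⊢
    rw [← hf.herm, htw] at hσ
    linear_combination hσ
  obtain ⟨γ, hγ⟩ := exists_trace hf.ne_refl hf.involutive (1 : F) (map_one σ)
  refine ⟨x₀ + γ • w, by rw [hf.add_left, hf.smul_left, hx₀, hwe, mul_zero, add_zero], ?_⟩
  rw [hJ, mv_add, mv_smul, map_add, map_smul, hw4]
  simp only [hf.add_left, add_right hf, hf.smul_left, smul_right hf, h0, hA, hB, hC, mul_zero, mul_one, add_zero,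
    zero_add]
  rw [add_comm, hγ]
  exact one_ne_zero

/-- The conjugate giving a transvection. -/
theorem exists_conj_transvection :
    ∃ g ∈ preserving (Units.coeHom (Matrix ι ι F)) f ⊓ Geo.specialLinear ι F, ∃ c : F, c ≠ 0 ∧ σ c = -c ∧
      u * (g * u * g⁻¹)⁻¹ = htv R.form e (f_ee R) c := by
  have hf := R.form
  obtain ⟨t, ht⟩ : ∃ t : F, σ t ≠ t := by
    by_contra h
    push Not at h
    exact hf.ne_refl (RingEquiv.ext h)
  obtain ⟨g, hg, hgE⟩ := exists_isEich hf (u := e) (y := t • e₂) (l := 0) (f_ee R)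
    (by rw [hf.smul_left, f_e₂e R, mul_zero])
    (by rw [hf.smul_left, smul_right hf, f_e₂e₂ R, map_zero]; ring)
  refine ⟨g, hg, σ t - t, sub_ne_zero.2 ht, by rw [map_sub, hf.involutive]; ring, ?_⟩
  suffices H : u * g * u⁻¹ = htv hf e (f_ee R) (σ t - t) * g by
    rw [show u * (g * u * g⁻¹)⁻¹ = (u * g * u⁻¹) * g⁻¹ by group, H, mul_inv_cancel_right]
  have hE := isEich_conj hf (g := u) (fun x z => R.iso x z) hgE
  rw [u_e R, mv_smul, u_e₂ R] at hE
  refine ext_mv fun z => ?_
  rw [mv_mul (htv hf e (f_ee R) (σ t - t)) g, mv_htv, hE z, hgE z]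
  simp only [hf.add_left, hf.smul_left, sub_right hf, smul_right hf, f_ee R, f_e₂e R, mul_zero, add_zero, zero_mul,
    zero_sub]
  module

/-- A full root group from one transvection and a multiplier. -/
theorem full_root {M : Subgroup (GL ι F)} (hMf : M ≤ preserving (Units.coeHom (Matrix ι ι F)) f) {c : F}
    (hc0 : c ≠ 0) (hc : σ c = -c) (hT : htv R.form e (f_ee R) c ∈ M)
    (hν : (∀ S : Subring (fixedField σ), S = ⊤) ∨ ∃ ν : fixedField σ, (∀ S : Subring (fixedField σ), ν ^ 2 ∈ S → S = ⊤) ∧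
      ∃ g ∈ M, mv g e = (ν : F) • e) :
    e ∈ hCentres R.form M := by
  have hf := R.form
  let A : AddSubgroup (fixedField σ) :=
    { carrier := {r | htv hf e (f_ee R) ((r : F) * c) ∈ M}
      zero_mem' := by
        change htv hf e (f_ee R) (((0 : fixedField σ) : F) * c) ∈ M
        rw [show ((0 : fixedField σ) : F) = 0 from rfl, zero_mul, htv_zero]; exact M.one_mem
      add_mem' := fun {r s} hr hs => by
        change htv hf e (f_ee R) (((r + s : fixedField σ) : F) * c) ∈ M
        rw [show ((r + s : fixedField σ) : F) = (r : F) + s from rfl, add_mul, ← htv_add]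
        exact M.mul_mem hr hs
      neg_mem' := fun {r} hr => by
        change htv hf e (f_ee R) (((-r : fixedField σ) : F) * c) ∈ M
        have : htv hf e (f_ee R) (((-r : fixedField σ) : F) * c) = (htv hf e (f_ee R) ((r : F) * c))⁻¹ := by
          rw [eq_inv_iff_mul_eq_one, htv_add, show ((-r : fixedField σ) : F) = -(r : F) from rfl, neg_mul,
            neg_add_cancel, htv_zero]
        rw [this]; exact M.inv_mem hr }
  let S : Subring (fixedField σ) :=
    { carrier := {r | ∀ t ∈ A, r * t ∈ A}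
      one_mem' := fun t ht => by rwa [one_mul]
      mul_mem' := fun {p q} hp hq t ht => by rw [mul_assoc]; exact hp _ (hq _ ht)
      zero_mem' := fun t _ => by rw [zero_mul]; exact A.zero_mem
      add_mem' := fun {p q} hp hq t ht => by rw [add_mul]; exact A.add_mem (hp _ ht) (hq _ ht)
      neg_mem' := fun {p} hp t ht => by rw [neg_mul]; exact A.neg_mem (hp _ ht) }
  have hS : S = ⊤ := by
    rcases hν with h | ⟨ν, hν, g, hg, hge⟩
    · exact h S
    refine hν S fun t ht => ?_
    change htv hf e (f_ee R) (((ν ^ 2 * t : fixedField σ) : F) * c) ∈ M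
    have h := M.mul_mem (M.mul_mem hg (show htv hf e (f_ee R) ((t : F) * c) ∈ M from ht)) (M.inv_mem hg)
    have key : g * htv hf e (f_ee R) ((t : F) * c) * g⁻¹ =
        htv hf e (f_ee R) (((ν ^ 2 * t : fixedField σ) : F) * c) := by
      rw [htv_conj hf (fun x y => hMf hg x y)]
      refine ext_mv fun x => ?_
      rw [mv_htv, mv_htv, hge, smul_right hf, smul_smul, show σ (ν : F) = ν from ν.2]
      congr 2
      push_cast
      ring
    rwa [key] at h
  refine ⟨f_ee R, fun d hd => ?_⟩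
  have hfix : σ (d / c) = d / c := by rw [map_div₀, hd, hc, neg_div_neg_eq]
  have h1 : (1 : fixedField σ) ∈ A := by
    change htv hf e (f_ee R) (((1 : fixedField σ) : F) * c) ∈ M
    rw [show ((1 : fixedField σ) : F) = 1 from rfl, one_mul]; exact hT
  have h : (⟨d / c, hfix⟩ : fixedField σ) * 1 ∈ A :=
    (show (⟨d / c, hfix⟩ : fixedField σ) ∈ S from hS ▸ Subring.mem_top _) 1 h1
  rw [mul_one] at h
  have h' : htv hf e (f_ee R) (d / c * c) ∈ M := h
  rwa [div_mul_cancel₀ _ hc0] at h'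

/-- Witt extension inside SU, three prescribed images orthogonal to an anisotropic vector. -/
theorem exists_su_map (hdet : ∀ g ∈ preserving (Units.coeHom (Matrix ι ι F)) f,
      (g : Matrix ι ι F).det * σ (g : Matrix ι ι F).det = 1)
    {k : ℕ} (x y : Fin k → ι → F) (hx : LinearIndependent F x) (hy : LinearIndependent F y)
    (hxy : ∀ i j, f (x i) (x j) = f (y i) (y j)) {b : ι → F} (hb : f b b ≠ 0) (hby : ∀ i, f (y i) b = 0) :
    ∃ g ∈ preserving (Units.coeHom (Matrix ι ι F)) f ⊓ Geo.specialLinear ι F, ∀ i, mv g (x i) = y i := by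
  have hf := R.form
  have hh : Hermitian.IsHerm σ.toRingHom f :=
    ⟨fun h => hf.ne_refl (RingEquiv.ext fun a => RingHom.congr_fun h a), hf.involutive, hf.add_left, hf.smul_left,
      fun p q => hf.herm _ _, fun p hp => by
        by_contra hne
        obtain ⟨z, hz⟩ := (hf.nondegenerate p hne).2
        exact hz (hp z)⟩
  obtain ⟨G, hG, hGx⟩ := hh.exists_iso_of_gram hx hy hxy
  let g₀ : GL ι F := SpGen.glOf G
  have hg₀ : g₀ ∈ preserving (Units.coeHom (Matrix ι ι F)) f := fun p q => by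
    change f (mv g₀ p) (mv g₀ q) = f p q
    rw [SpGen.mv_glOf, SpGen.mv_glOf]; exact hG p q
  set δ := (g₀ : Matrix ι ι F).det with hδ
  have hδN := hdet g₀ hg₀
  rw [← hδ] at hδN
  have hδ0 : δ ≠ 0 := fun h => by rw [h, zero_mul] at hδN; exact zero_ne_one hδN
  set μ := δ⁻¹
  have hμN : μ * σ μ = 1 := by rw [map_inv₀, ← mul_inv, hδN, inv_one]
  set φ : Module.Dual F (ι → F) := ((μ - 1) / f b b) • formH hf b with hφ
  have hφb : φ b = μ - 1 := by rw [hφ, LinearMap.smul_apply, formH_apply, smul_eq_mul, div_mul_cancel₀ _ hb]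
  have hdetd : (tvMat b φ).det = μ := by rw [det_tvMat, hφb]; ring
  let d : GL ι F := Matrix.GeneralLinearGroup.mkOfDetNeZero (tvMat b φ) (by rw [hdetd]; exact inv_ne_zero hδ0)
  have hd : ∀ p, mv d p = p + ((μ - 1) / f b b * f p b) • b := fun p => by
    change tvMat b φ *ᵥ p = _
    rw [tvMat_mulVec, hφ, LinearMap.smul_apply, formH_apply, smul_eq_mul]
  have hdiso : d ∈ preserving (Units.coeHom (Matrix ι ι F)) f := fun p q => by
    change f (mv d p) (mv d q) = f p q
    rw [hd, hd]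
    simp only [hf.add_left, add_right hf, hf.smul_left, smul_right hf, map_mul, map_div₀, map_sub, map_one,
      self_fixed hf]
    rw [← hf.herm b q]
    field_simp
    linear_combination (f p b * f b q) * hμN
  refine ⟨d * g₀, ⟨mul_mem hdiso hg₀, ?_⟩, fun i => ?_⟩
  · refine MonoidHom.mem_ker.2 (Units.ext ?_)
    change ((d * g₀ : GL ι F) : Matrix ι ι F).det = 1
    rw [Units.val_mul, Matrix.det_mul]
    change (tvMat b φ).det * δ = 1
    rw [hdetd, inv_mul_cancel₀ hδ0]
  · rw [mv_mul, SpGen.mv_glOf, hGx, hd, hby, mul_zero, zero_smul, add_zero]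

/-- An anisotropic vector orthogonal to the four standard targets. -/
theorem exists_perp {x : ι → F} (hx : f x e ≠ 0) :
    ∃ b, f b b ≠ 0 ∧ f e b = 0 ∧ f e₂ b = 0 ∧ f x b = 0 ∧ f (mv u⁻¹ x) b = 0 := by
  have hf := R.form
  have hex : f e x ≠ 0 := fun h => hx ((f_eq_zero_comm hf).1 h)
  have hi : ∀ z, f z (mv u⁻¹ x) = f (mv u z) x := fun z => (shift_one R z x).symm
  set β := (f v (mv u⁻¹ x) - f v x) / f e x with hβ
  set α := -(f v x + β * f e₂ x) / f e x with hα
  refine ⟨v + α • e + β • e₂, ?_, ?_, ?_, ?_, ?_⟩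
  · simp only [hf.add_left, add_right hf, hf.smul_left, smul_right hf, f_ve R, f_ve₂ R, f_ee R, f_ee₂ R,
      f_e₂e R, f_e₂e₂ R, (f_eq_zero_comm hf).1 (f_ve R), (f_eq_zero_comm hf).1 (f_ve₂ R), mul_zero, add_zero]
    exact f_vv R
  · simp only [add_right hf, smul_right hf, (f_eq_zero_comm hf).1 (f_ve R), f_ee R, f_ee₂ R, mul_zero, add_zero]
  · simp only [add_right hf, smul_right hf, (f_eq_zero_comm hf).1 (f_ve₂ R), f_e₂e R, f_e₂e₂ R, mul_zero,
      add_zero]
  · refine (f_eq_zero_comm hf).1 ?_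
    simp only [hf.add_left, hf.smul_left, hα]
    field_simp
    ring
  · refine (f_eq_zero_comm hf).1 ?_
    simp only [hf.add_left, hf.smul_left, hi e, hi e₂, u_e R, u_e₂ R, sub_left hf, hα, hβ]
    field_simp
    ring

theorem indep_src {x : ι → F} (hx : f x e = 1) : ∀ a b c d : F,
    a • x + b • NP u 1 x + c • NP u 2 x + d • NP u 4 x = 0 → a = 0 ∧ b = 0 ∧ c = 0 ∧ d = 0 := by
  have := R.dim; have := R.two_le
  intro a b c d h
  have hli := Fintype.linearIndependent_iff.1 (li_of R (x := x) (by rw [hx]; exact one_ne_zero))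
  set g : Fin n → F := fun i => if (i : ℕ) = 0 then a else if (i : ℕ) = 1 then b else if (i : ℕ) = 2 then c
    else if (i : ℕ) = 4 then d else 0 with hg
  have hs : ∑ i : Fin n, g i • NP u (i : ℕ) x = 0 := by
    rw [← Finset.sum_subset (Finset.subset_univ
      ({⟨0, by omega⟩, ⟨1, by omega⟩, ⟨2, by omega⟩, ⟨4, by omega⟩} : Finset (Fin n)))]
    · rw [Finset.sum_insert (by simp [Fin.ext_iff]), Finset.sum_insert (by simp [Fin.ext_iff]),
        Finset.sum_insert (by simp [Fin.ext_iff]), Finset.sum_singleton]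
      simp only [hg, NP_zero]
      norm_num
      rw [← h]; abel
    · intro i _ hi
      simp only [Finset.mem_insert, Finset.mem_singleton, Fin.ext_iff, not_or] at hi
      simp [hg, hi.1, hi.2.1, hi.2.2.1, hi.2.2.2]
  have h0 := hli g hs
  exact ⟨by simpa [hg] using h0 ⟨0, by omega⟩, by simpa [hg] using h0 ⟨1, by omega⟩,
    by simpa [hg] using h0 ⟨2, by omega⟩, by simpa [hg] using h0 ⟨4, by omega⟩⟩

theorem li_three {a b c : ι → F} (h : ∀ p q r : F, p • a + q • b + r • c = 0 → p = 0 ∧ q = 0 ∧ r = 0) :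
    LinearIndependent F ![a, b, c] := by
  rw [Fintype.linearIndependent_iff]
  intro g hg
  rw [Fin.sum_univ_three] at hg
  obtain ⟨h0, h1, h2⟩ := h (g 0) (g 1) (g 2) hg
  intro i
  fin_cases i <;> assumption

theorem gram_three {a b c a' b' c' : ι → F} (ha : f a a = f a' a') (hb : f b b = f b' b') (hc : f c c = f c' c')
    (hab : f a b = f a' b') (hac : f a c = f a' c') (hbc : f b c = f b' c') :
    ∀ i j, f (![a, b, c] i) (![a, b, c] j) = f (![a', b', c'] i) (![a', b', c'] j) := by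
  have hf := R.form
  intro i j
  fin_cases i <;> fin_cases j <;>
    simp only [Fin.zero_eta, Fin.mk_one, Fin.reduceFinMk, Matrix.cons_val_zero, Matrix.cons_val_one, Matrix.cons_val] <;>
    first
      | assumption
      | (rw [hf.herm, hab, ← hf.herm])
      | (rw [hf.herm, hac, ← hf.herm])
      | (rw [hf.herm, hbc, ← hf.herm])

/-- A vector v' with f(v', e) = a and f(y, y) non-zero for y = (u - 1) v'. -/
theorem exists_target {a : F} (ha : a ≠ 0) (β ψ : F) (hψ : ψ + σ ψ ≠ 0) :
    ∃ v', f v' v' = 0 ∧ f v' e = a ∧ f v' e₂ = β ∧ f v' (mv u v') = a * σ a * ψ ∧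
      f (mv u v' - v') (mv u v' - v') ≠ 0 := by
  have hf := R.form
  obtain ⟨x, hx, hxe₂⟩ := exists_start R (β / a)
  obtain ⟨x', hiso, hxe, hxe₂', h1, -, -⟩ := exists_shift R hx (ψ - PV f u 1 x)
  rw [add_sub_cancel] at h1
  have e1 : f (a • x') (mv u (a • x')) = a * σ a * ψ := by
    rw [mv_smul, hf.smul_left, smul_right hf, h1]; ring
  have e0 : f (a • x') (a • x') = 0 := by rw [hf.smul_left, smul_right hf, hiso, mul_zero, mul_zero]
  refine ⟨a • x', e0, by rw [hf.smul_left, hxe, mul_one],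
    by rw [hf.smul_left, hxe₂', hxe₂, mul_div_cancel₀ _ ha], e1, ?_⟩
  rw [sub_left hf, sub_right hf, sub_right hf, show f (mv u (a • x')) (mv u (a • x')) = f (a • x') (a • x') from R.iso _ _,
    e0, hf.herm (mv u (a • x')) (a • x'), e1, map_mul, map_mul, hf.involutive]
  intro h
  exact mul_ne_zero (mul_ne_zero ha ((map_ne_zero_iff σ σ.injective).2 ha)) hψ (by linear_combination -h)

theorem exists_witness (hdet : ∀ g ∈ preserving (Units.coeHom (Matrix ι ι F)) f,
      (g : Matrix ι ι F).det * σ (g : Matrix ι ι F).det = 1) :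
    ∃ g ∈ preserving (Units.coeHom (Matrix ι ι F)) f ⊓ Geo.specialLinear ι F,
    ∃ h ∈ preserving (Units.coeHom (Matrix ι ι F)) f ⊓ Geo.specialLinear ι F,
      ∀ M : Subgroup (GL ι F), M ≤ preserving (Units.coeHom (Matrix ι ι F)) f → u ∈ M → g * u * g⁻¹ ∈ M →
        h * u * h⁻¹ ∈ M → ∀ z, f z z = 0 → z ∈ hCentres R.form M := by
  classical
  have := R.dim; have := R.two_le
  have hf := R.form
  obtain ⟨g, hg, c, hc0, hc, hT⟩ := exists_conj_transvection R
  refine ⟨g, hg, ?_⟩
  suffices H : ∃ h ∈ preserving (Units.coeHom (Matrix ι ι F)) f ⊓ Geo.specialLinear ι F, ∃ x v',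
      f x e = 1 ∧ mv h x = v' ∧ mv h (mv u x) = e ∧ f v' e ≠ 0 ∧ f (mv u v' - v') (mv u v' - v') ≠ 0 ∧
      (Nat.card (fixedField σ) = 2 → mv h (mv (u ^ 4) x) = e₂) ∧
      ((∀ S : Subring (fixedField σ), S = ⊤) ∨ ∃ ν : fixedField σ,
        (∀ S : Subring (fixedField σ), ν ^ 2 ∈ S → S = ⊤) ∧ mv h (mv u⁻¹ x) = (ν : F) • mv u⁻¹ v') by
    obtain ⟨h, hh, x, v', hx, hhx, hhux, hve, hT', htwo, hν⟩ := H
    refine ⟨h, hh, fun M hMf huM hgM hwM => ?_⟩
    have hTM : htv hf e (f_ee R) c ∈ M := hT ▸ M.mul_mem huM (M.inv_mem hgM)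
    set w := h * u * h⁻¹ with hwdef
    have hwi : w⁻¹ = h * u⁻¹ * h⁻¹ := by rw [hwdef]; group
    have hwv : mv w v' = e := by rw [hwdef, mv_mul, mv_mul, ← hhx, mv_inv_mv, hhux]
    have hwie : mv w⁻¹ e = v' := by rw [← hwv, mv_inv_mv]
    have he : e ∈ hCentres hf M := by
      refine full_root R hMf hc0 hc hTM ?_
      rcases hν with hP | ⟨ν, hν, hhν⟩
      · exact Or.inl hP
      refine Or.inr ⟨ν, hν, w * u * w⁻¹ * w⁻¹, M.mul_mem (M.mul_mem (M.mul_mem hwM huM) (M.inv_mem hwM))
        (M.inv_mem hwM), ?_⟩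
      have hwiv : mv w⁻¹ v' = (ν : F) • mv u⁻¹ v' := by
        rw [hwi, mv_mul, mv_mul, ← hhx, mv_inv_mv, hhν, hhx]
      rw [mv_mul, mv_mul, mv_mul, hwie, hwiv, mv_smul, mv_mv_inv, mv_smul, hwv]
    have hv : v' ∈ hCentres hf M := hwie ▸ hCentres_mv hf hMf (M.inv_mem hwM) he
    have hcyc : f (mv h⁻¹ e) e ≠ 0 := by
      rw [← hhux, mv_inv_mv]
      have h1 := R.iso x e
      change f (mv u x) (mv u e) = f x e at h1
      rw [u_e R] at h1
      rw [hhux, h1, hx]; exact one_ne_zero
    refine all_centres hf hMf u h huM hwM (e₂ := e₂) (u_e R) he (low R) hcyc hv hve hT' fun hq => ⟨?_, f_e₂e R, u_e₂ R⟩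
    have e3 : mv (w ^ 3) e = e₂ := by
      rw [hwdef, conj_pow, mv_mul, mv_mul, ← hhux, mv_inv_mv, ← mv_mul (u ^ 3) u, ← pow_succ, htwo hq]
    exact e3 ▸ hCentres_mv hf hMf (M.pow_mem hwM 3) he
  have huinv : ∀ k : ℕ, f (mv (u ^ k) e) (mv (u ^ k) e) = 0 := fun k => by rw [f_u R, f_ee R]
  have hux : ∀ x : ι → F, mv u x = x + NP u 1 x := fun x => by rw [NP_one, add_sub_cancel]
  have huu : ∀ x : ι → F, f (mv u x) (mv u x) = f x x := fun x => R.iso x x
  have huii : ∀ x : ι → F, f (mv u⁻¹ x) (mv u⁻¹ x) = f x x := fun x => (M_inv R.iso) x x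
  by_cases hP : ∀ S : Subring (fixedField σ), S = ⊤
  · by_cases hq : Nat.card (fixedField σ) = 2
    · -- four elements
      obtain ⟨h1, h2⟩ := two_fixed hq
      obtain ⟨x₀, hx₀, hJ⟩ := exists_J R hq
      obtain ⟨x, hxx, hxe, -, e1, -, e3⟩ := exists_shift R hx₀ (-σ (PV f u 3 x₀))
      have ea : f x (mv u x) ≠ 0 := by
        rw [e1]; intro h; exact hJ (by linear_combination h + σ (PV f u 3 x₀) * h2)
      have eb : f x (mv (u ^ 3) x) = 0 := by
        rw [e3, map_neg, hf.involutive]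
        linear_combination -(3 * σ (PV f u 3 x₀) + PV f u 3 x₀) * h2
      obtain ⟨ψ, hψ⟩ := exists_trace hf.ne_refl hf.involutive (1 : F) (map_one σ)
      obtain ⟨v', hvv, hve, hve₂, -, hT'⟩ := exists_target R ea (f x (mv (u ^ 4) x)) ψ (by rw [hψ]; exact one_ne_zero)
      have hve0 : f v' e ≠ 0 := hve ▸ ea
      obtain ⟨b, hbb, hbe, hbe₂, hbv, -⟩ := exists_perp R hve0
      have e4 : mv (u ^ 4) x = x + NP u 4 x := by
        have e4 : NP u 4 x = mv (u ^ 4) x + x + (2 : F) • (-(2 : F) • mv (u ^ 3) x + (3 : F) • mv (u ^ 2) x -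
            (2 : F) • mv u x) - (2 : F) • x + (2 : F) • x := by
          rw [show (4 : ℕ) = 0 + 1 + 1 + 1 + 1 from rfl, NP_succ, NP_succ, NP_succ, NP_succ, NP_zero]
          simp only [mv_sub, pow_succ', pow_zero, mul_one, mv_mul]
          module
        rw [e4, h2, zero_smul, zero_smul, add_zero, sub_zero, add_zero,
          show x + (mv (u ^ 4) x + x) = mv (u ^ 4) x + (1 + 1 : F) • x by module,
          show (1 + 1 : F) = 0 by linear_combination h2, zero_smul, add_zero]
      have hsrc : LinearIndependent F ![x, mv u x, mv (u ^ 4) x] := li_three R fun p q r h => by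
        rw [hux, e4] at h
        obtain ⟨hp, hq, -, hr⟩ := indep_src R hxe (p + q + r) q 0 r (by rw [← h]; module)
        exact ⟨by linear_combination hp - hq - hr, hq, hr⟩
      have htgt : LinearIndependent F ![v', e, e₂] := li_three R fun p q r h => by
        have h1 := congrArg (fun z => f z e) h
        simp only [hf.add_left, hf.smul_left, f_ee R, f_e₂e R, zero_left hf, mul_zero, add_zero] at h1
        have hp : p = 0 := (mul_eq_zero.1 h1).resolve_right hve0
        subst hp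
        rw [zero_smul, zero_add] at h
        have h2 := congrArg (mv u) h
        rw [mv_add, mv_smul, mv_smul, u_e R, u_e₂ R, mv_zero] at h2
        have hr : r • e = 0 := by
          have : q • e + r • e₂ - (q • e + r • (e₂ - e)) = 0 := by rw [h, h2, sub_zero]
          rw [← this]; module
        have hr0 : r = 0 := (smul_eq_zero.1 hr).resolve_right R.e_ne
        subst hr0
        rw [zero_smul, add_zero] at h
        exact ⟨rfl, (smul_eq_zero.1 h).resolve_right R.e_ne, rfl⟩
      have hgram := gram_three R (a := x) (b := mv u x) (c := mv (u ^ 4) x) (a' := v') (b' := e) (c' := e₂)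
        (hxx.trans hvv.symm) ((huu x).trans (hxx.trans (f_ee R).symm))
        ((f_u R 4 x x).trans (hxx.trans (f_e₂e₂ R).symm)) hve.symm hve₂.symm (by
          rw [f_ee₂ R, show mv (u ^ 4) x = mv u (mv (u ^ 3) x) by rw [← mv_mul, ← pow_succ'],
            show f (mv u x) (mv u (mv (u ^ 3) x)) = f x (mv (u ^ 3) x) from R.iso _ _, eb])
      obtain ⟨h, hh, hhi⟩ := exists_su_map R hdet _ _ hsrc htgt hgram hbb (by
        intro i; fin_cases i
        · exact hbv
        · exact hbe
        · exact hbe₂)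
      exact ⟨h, hh, x, v', hxe, hhi 0, hhi 1, hve0, hT', fun _ => hhi 2, Or.inl hP⟩
    · -- prime field
      obtain ⟨x₀, hx₀, -⟩ := exists_start R 0
      obtain ⟨x, hxx, hxe, -, e1, -, -⟩ := exists_shift R hx₀ (1 - PV f u 1 x₀)
      rw [add_sub_cancel] at e1
      obtain ⟨ψ, hψ⟩ := exists_trace hf.ne_refl hf.involutive (1 : F) (map_one σ)
      obtain ⟨v', hvv, hve, -, -, hT'⟩ := exists_target R (one_ne_zero (α := F)) 0 ψ (by rw [hψ]; exact one_ne_zero)
      have hve0 : f v' e ≠ 0 := hve ▸ one_ne_zero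
      obtain ⟨b, hbb, hbe, -, hbv, -⟩ := exists_perp R hve0
      have hsrc : LinearIndependent F ![x, mv u x] := by
        rw [LinearIndependent.pair_iff]
        intro p q h
        rw [hux] at h
        obtain ⟨hp, hq, -, -⟩ := indep_src R hxe (p + q) q 0 0 (by rw [← h]; module)
        exact ⟨by linear_combination hp - hq, hq⟩
      have htgt : LinearIndependent F ![v', e] := by
        rw [LinearIndependent.pair_iff]
        intro p q h
        have h1 := congrArg (fun z => f z e) h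
        simp only [hf.add_left, hf.smul_left, f_ee R, zero_left hf, mul_zero, add_zero] at h1
        have hp : p = 0 := (mul_eq_zero.1 h1).resolve_right hve0
        subst hp
        rw [zero_smul, zero_add] at h
        exact ⟨rfl, (smul_eq_zero.1 h).resolve_right R.e_ne⟩
      have hgram : ∀ i j, f (![x, mv u x] i) (![x, mv u x] j) = f (![v', e] i) (![v', e] j) := by
        have hb' : f (mv u x) x = f e v' := by rw [hf.herm, e1, hf.herm e v', hve]
        intro i j
        fin_cases i <;> fin_cases j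
        · exact hxx.trans hvv.symm
        · exact e1.trans hve.symm
        · exact hb'
        · exact (huu x).trans (hxx.trans (f_ee R).symm)
      obtain ⟨h, hh, hhi⟩ := exists_su_map R hdet _ _ hsrc htgt hgram hbb (by
        intro i; fin_cases i
        · exact hbv
        · exact hbe)
      exact ⟨h, hh, x, v', hxe, hhi 0, hhi 1, hve0, hT', fun h2 => absurd h2 hq, Or.inl hP⟩
  -- a multiplier
  haveI := Fintype.ofFinite (fixedField σ)
  obtain ⟨ν, hν0, -, hν⟩ := SpWitness.exists_nu (F := fixedField σ)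
  have hν2 : (ν : F) ≠ 2 := fun h => hP fun S => hν S (by
    have : ν = ((2 : ℕ) : fixedField σ) := Subtype.ext (by rw [h]; rfl)
    rw [this]; exact pow_mem (natCast_mem S 2) 2)
  have hν4 : (ν : F) ≠ 4 := fun h => hP fun S => hν S (by
    have : ν = ((4 : ℕ) : fixedField σ) := Subtype.ext (by rw [h]; rfl)
    rw [this]; exact pow_mem (natCast_mem S 4) 2)
  have hq3 : 3 ≤ Nat.card (fixedField σ) := by
    have h2 : 2 ≤ Nat.card (fixedField σ) := Finite.one_lt_card
    by_contra hlt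
    refine hP fun S => Subring.ext fun z => ⟨fun _ => Subring.mem_top z, fun _ => ?_⟩
    rcases self_of_one (show Nat.card (fixedField σ) = 2 by omega) z.2 with h | h
    · rw [show z = 0 from Subtype.ext h]; exact S.zero_mem
    · rw [show z = 1 from Subtype.ext h]; exact S.one_mem
  have hσν : σ (ν : F) = ν := ν.2
  have hν0' : (ν : F) ≠ 0 := fun h => hν0 (Subtype.ext h)
  obtain ⟨x₀, hx₀, hQ⟩ := exists_Q R hq3
  obtain ⟨K, hK⟩ : ∃ K, K = 3 * PV f u 1 x₀ + σ (PV f u 1 x₀) - PV f u 2 x₀ := ⟨_, rfl⟩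
  have hKQ : K + σ K ≠ 0 := by rw [hK, Q_eq R]; exact neg_ne_zero.2 hQ
  set D := (3 - (ν : F)) * (3 - (ν : F)) - 1
  have hD : D ≠ 0 := by
    intro h
    rcases mul_eq_zero.1 (show (2 - (ν : F)) * (4 - (ν : F)) = 0 by linear_combination h) with h | h
    · exact hν2 (sub_eq_zero.1 h).symm
    · exact hν4 (sub_eq_zero.1 h).symm
  set w₁ := ((3 - (ν : F)) * K - σ K) / D with hw₁
  have hσw : σ w₁ = ((3 - (ν : F)) * σ K - K) / D := by
    rw [hw₁, map_div₀, map_sub, map_mul, map_sub, map_ofNat, hσν, hf.involutive]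
    congr 1
    simp only [D, map_sub, map_mul, map_ofNat, map_one, hσν]
  have hweq : (3 - (ν : F)) * w₁ + σ w₁ = K := by rw [hσw, hw₁]; field_simp; simp only [D]; ring
  have hwtr : w₁ + σ w₁ ≠ 0 := by
    have : w₁ + σ w₁ = (2 - (ν : F)) * (K + σ K) / D := by rw [hσw, hw₁]; field_simp; ring
    rw [this]
    exact div_ne_zero (mul_ne_zero (sub_ne_zero.2 (Ne.symm hν2)) hKQ) hD
  have hw0 : w₁ ≠ 0 := fun h => hwtr (by rw [h, map_zero, add_zero])
  clear_value w₁
  obtain ⟨x, hxx, hxe, -, e1, e2, -⟩ := exists_shift R hx₀ (w₁ - PV f u 1 x₀)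
  rw [add_sub_cancel] at e1
  rw [map_sub] at e2
  have e2' : f x (mv (u ^ 2) x) = (ν : F) * w₁ := by rw [e2]; linear_combination hweq + hK
  have hσw0 : σ w₁ ≠ 0 := (map_ne_zero_iff σ σ.injective).2 hw0
  obtain ⟨v', hvv, hve, -, hvu, hT'⟩ := exists_target R hw0 0 (1 / ((ν : F) * σ w₁)) (by
    rw [map_div₀, map_one, map_mul, hσν, hf.involutive]
    have : 1 / ((ν : F) * σ w₁) + 1 / ((ν : F) * w₁) = (w₁ + σ w₁) / ((ν : F) * σ w₁ * w₁) := by
      field_simp
    rw [this]
    exact div_ne_zero hwtr (mul_ne_zero (mul_ne_zero hν0' hσw0) hw0))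
  have hvu' : f v' (mv u v') * (ν : F) = w₁ := by rw [hvu]; field_simp
  have hve0 : f v' e ≠ 0 := hve ▸ hw0
  obtain ⟨b, hbb, hbe, -, hbv, hbv'⟩ := exists_perp R hve0
  have hvinv : f v' (mv u⁻¹ v') = σ (f v' (mv u v')) := by rw [← shift_one R, hf.herm]
  have hsrc : LinearIndependent F ![x, mv u x, mv u⁻¹ x] := li_three R fun p q r h => by
    have h' := congrArg (mv u) h
    rw [mv_add, mv_add, mv_smul, mv_smul, mv_smul, mv_mv_inv, mv_zero] at h'
    have e2n : mv u (mv u x) = x + (2 : F) • NP u 1 x + NP u 2 x := by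
      rw [show (2 : ℕ) = 1 + 1 from rfl, NP_succ 1, NP_one, mv_sub]; module
    rw [e2n, hux] at h'
    obtain ⟨h0, h1, h2, -⟩ := indep_src R hxe (p + q + r) (p + 2 * q) q 0 (by rw [← h']; module)
    exact ⟨by linear_combination h1 - 2 * h2, h2, by linear_combination h0 - h1 + h2⟩
  have htgt : LinearIndependent F ![v', e, (ν : F) • mv u⁻¹ v'] := li_three R fun p q r h => by
    have h' := congrArg (mv u) h
    rw [mv_add, mv_add, mv_smul, mv_smul, mv_smul, mv_smul, mv_mv_inv, u_e R, mv_zero] at h'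
    set y := mv u v' - v' with hy
    have huv : mv u v' = v' + y := by rw [hy, add_sub_cancel]
    have hye : f y e = 0 := by rw [hy, ← NP_one]; exact f_Ne R v'
    have hh : (p + r * (ν : F)) • v' + p • y + q • e = 0 := by rw [← h', huv]; module
    have h1 := congrArg (fun z => f z e) hh
    simp only [hf.add_left, hf.smul_left, f_ee R, hye, zero_left hf, mul_zero, add_zero] at h1
    have hpr : p + r * (ν : F) = 0 := (mul_eq_zero.1 h1).resolve_right hve0
    rw [hpr, zero_smul, zero_add] at hh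
    have h2 := congrArg (fun z => f z y) hh
    simp only [hf.add_left, hf.smul_left, (f_eq_zero_comm hf).1 hye, zero_left hf, mul_zero, add_zero] at h2
    have hp : p = 0 := (mul_eq_zero.1 h2).resolve_right hT'
    subst hp
    rw [zero_smul, zero_add] at hh
    exact ⟨rfl, (smul_eq_zero.1 hh).resolve_right R.e_ne, by simpa [hν0'] using hpr⟩
  have hgram := gram_three R (a := x) (b := mv u x) (c := mv u⁻¹ x) (a' := v') (b' := e)
    (c' := (ν : F) • mv u⁻¹ v') (hxx.trans hvv.symm) ((huu x).trans (hxx.trans (f_ee R).symm))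
    (by rw [huii, hxx, hf.smul_left, smul_right hf, huii, hvv, mul_zero, mul_zero])
    (e1.trans hve.symm)
    (by
      rw [smul_right hf, hσν, hvinv, ← shift_one R x x, hf.herm (mv u x) x, e1]
      conv_lhs => rw [← hvu', map_mul, hσν]
      ring)
    (by
      rw [smul_right hf, hσν, ← shift_one R (mv u x) x, ← mv_mul, ← pow_two, hf.herm (mv (u ^ 2) x) x, e2',
        map_mul, hσν, ← shift_one R e v', u_e R, hf.herm e v', hve])
  obtain ⟨h, hh, hhi⟩ := exists_su_map R hdet _ _ hsrc htgt hgram hbb (by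
    intro i; fin_cases i
    · exact hbv
    · exact hbe
    · show f ((ν : F) • mv u⁻¹ v') b = 0
      rw [hf.smul_left, hbv', mul_zero])
  exact ⟨h, hh, x, v', hxe, hhi 0, hhi 1, hve0, hT', fun h2 => by omega, Or.inr ⟨ν, hν, hhi 2⟩⟩
where
  M_inv {g : GL ι F} (hg : g ∈ preserving (Units.coeHom (Matrix ι ι F)) f) (x y : ι → F) :
      f (mv g⁻¹ x) (mv g⁻¹ y) = f x y := (inv_mem hg) x y

end Cfsg.Agent.SUGen
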