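/-
`SL_n(F)`, `n ≥ 4`, is generated by two conjugate regular unipotent elements `u` and `v = g u g⁻¹`,
with `u` the full upper shift and `g` a lower corner transvection.

The key identity: with `w = u⁻¹ v`, the commutator of `v⁻¹ w v` and `u⁻¹ w u` is a transvection.
-/
import Mathlib
import Cfsg.Agent.Lib.Generation.RegularUnipotent

set_option autoImplicit false

open Matrix

namespace Cfsg.Agent.TwoRegular

open Cfsg.Agent.RegUnipotentGen

variable {F : Type*} [Field F] {N : ℕ}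

theorem val_mul {ι : Type*} [Fintype ι] [DecidableEq ι] (A B : SpecialLinearGroup ι F) :
    (A * B).1 = A.1 * B.1 := rfl

theorem val_one {ι : Type*} [Fintype ι] [DecidableEq ι] : (1 : SpecialLinearGroup ι F).1 = 1 := rfl

/-- The shift. -/
abbrev sh (N : ℕ) (F : Type*) [Field F] : SpecialLinearGroup (Fin (N + 1)) F := regU (N + 1) F

/-- The orbit of the last basis vector. -/
def av (j : ℤ) : Fin (N + 1) → F := (sh N F ^ j).1 *ᵥ Pi.single (Fin.last N) 1

/-- The orbit of the first coordinate functional. -/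
def ch (i : ℤ) : Fin (N + 1) → F := Pi.single 0 1 ᵥ* (sh N F ^ (-i)).1

/-- The corner entries of the powers of the shift. -/
def cc (N : ℕ) (F : Type*) [Field F] (j : ℤ) : F := (av j : Fin (N + 1) → F) 0

theorem av_zero : (av 0 : Fin (N + 1) → F) = Pi.single (Fin.last N) 1 := by
  rw [av, zpow_zero, val_one, one_mulVec]

theorem ch_zero : (ch 0 : Fin (N + 1) → F) = Pi.single 0 1 := by
  rw [ch, neg_zero, zpow_zero, val_one, vecMul_one]

theorem sh_mulVec (i j : ℤ) : (sh N F ^ i).1 *ᵥ av j = av (i + j) := by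
  rw [av, av, mulVec_mulVec, ← val_mul, ← _root_.zpow_add]

theorem vecMul_sh (i j : ℤ) : ch i ᵥ* (sh N F ^ (-j)).1 = ch (i + j) := by
  rw [ch, ch, vecMul_vecMul, ← val_mul, ← _root_.zpow_add, neg_add]

theorem ch_dot_av (i k : ℤ) : (ch i : Fin (N + 1) → F) ⬝ᵥ av k = cc N F (k - i) := by
  rw [ch, ← dotProduct_mulVec, sh_mulVec, single_dotProduct, one_mul, cc, neg_add_eq_sub]

theorem upperN_val (x : Fin (N + 1) → F) (i : Fin (N + 1)) :
    ((sh N F).1 *ᵥ x) i = x i + if h : (i : ℕ) + 1 < N + 1 then x ⟨i + 1, h⟩ else 0 := by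
  change ((1 + upperN (N + 1) F) *ᵥ x) i = _
  rw [add_mulVec, one_mulVec, Pi.add_apply, upperN_mulVec]

theorem av_nat (j : ℕ) (i : Fin (N + 1)) : (av (j : ℤ) : Fin (N + 1) → F) i = (j.choose (N - i) : F) := by
  induction j generalizing i with
  | zero =>
    rw [Nat.cast_zero, av_zero]
    by_cases h : i = Fin.last N
    · subst h; simp
    · rw [Pi.single_eq_of_ne h, Nat.choose_eq_zero_of_lt, Nat.cast_zero]
      have := i.isLt
      have : (i : ℕ) ≠ N := fun e => h (Fin.ext e)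
      omega
  | succ j ih =>
    rw [show (((j + 1 : ℕ) : ℤ)) = 1 + (j : ℤ) by push_cast; ring, ← sh_mulVec, zpow_one, upperN_val, ih]
    split_ifs with h
    · rw [ih, show N - (i : ℕ) = (N - (i + 1)) + 1 by omega, Nat.choose_succ_succ' j, Nat.cast_add, add_comm]
    · rw [show N - (i : ℕ) = 0 by omega]; simp

theorem av_negSucc (m : ℕ) (i : Fin (N + 1)) :
    (av (-(m : ℤ)) : Fin (N + 1) → F) i = (-1) ^ (N - i) * ((N - i + m - 1).choose (N - i) : F) := by
  induction m generalizing i with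
  | zero =>
    rw [Nat.cast_zero, neg_zero, av_zero]
    by_cases h : i = Fin.last N
    · subst h; simp
    · rw [Pi.single_eq_of_ne h, Nat.choose_eq_zero_of_lt, Nat.cast_zero, mul_zero]
      have := i.isLt
      have : (i : ℕ) ≠ N := fun e => h (Fin.ext e)
      omega
  | succ m ih =>
    obtain ⟨z, hz⟩ : ∃ z : Fin (N + 1) → F, z = fun i : Fin (N + 1) =>
        (-1) ^ (N - i) * ((N - i + (m + 1) - 1).choose (N - i) : F) := ⟨_, rfl⟩
    have hstep : (sh N F).1 *ᵥ z = av (-(m : ℤ)) := by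
      funext k
      rw [upperN_val, ih, hz]
      simp only []
      split_ifs with h
      · obtain ⟨d, hd⟩ : ∃ d, N - (k : ℕ) = d + 1 := ⟨N - k - 1, by omega⟩
        rw [show N - ((k : ℕ) + 1) = d by omega, hd,
          show d + 1 + (m + 1) - 1 = (d + m) + 1 by omega, show d + (m + 1) - 1 = d + m by omega,
          show d + 1 + m - 1 = d + m by omega, Nat.choose_succ_succ' (d + m), pow_succ, Nat.cast_add]
        ring
      · rw [show N - (k : ℕ) = 0 by omega]; simp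
    have : (av (-((m + 1 : ℕ) : ℤ)) : Fin (N + 1) → F) = z := by
      rw [show (-((m + 1 : ℕ) : ℤ)) = (-1 : ℤ) + -(m : ℤ) by push_cast; ring, ← sh_mulVec, ← hstep,
        mulVec_mulVec, ← val_mul, _root_.zpow_neg_one, inv_mul_cancel, val_one, one_mulVec]
    rw [this, hz]

theorem cc_nat (j : ℕ) : cc N F j = (j.choose N : F) := by
  rw [cc, av_nat]; simp

theorem cc_lt {j : ℤ} (h0 : 0 ≤ j) (hj : j < N) : cc N F j = 0 := by
  lift j to ℕ using h0
  rw [cc_nat, Nat.choose_eq_zero_of_lt (by omega), Nat.cast_zero]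

theorem cc_N : cc N F N = 1 := by rw [cc_nat, Nat.choose_self, Nat.cast_one]

theorem cc_neg (m : ℕ) : cc N F (-(m : ℤ)) = (-1) ^ N * ((N + m - 1).choose N : F) := by
  rw [cc, av_negSucc]; simp

theorem cc_neg_one : cc N F (-1) = (-1) ^ N := by
  rw [show (-1 : ℤ) = -((1 : ℕ) : ℤ) by simp, cc_neg]; simp

/-- Lucas for a power of the prime. -/
theorem choose_pow_add (p : ℕ) [Fact p.Prime] [CharP F p] : ∀ (a q k s t : ℕ), s < p ^ a → t < p ^ a →
    ((p ^ a * q + s).choose (p ^ a * k + t) : F) = (q.choose k : F) * (s.choose t : F) := by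
  have hp : p.Prime := Fact.out
  intro a
  induction a with
  | zero =>
    intro q k s t hs ht
    simp only [pow_zero, Nat.lt_one_iff] at hs ht
    subst hs; subst ht; simp
  | succ a ih =>
    intro q k s t hs ht
    have e1 : ∀ q s : ℕ, (p ^ (a + 1) * q + s) % p = s % p := fun q s => by
      rw [pow_succ', mul_assoc, Nat.mul_add_mod]
    have e2 : ∀ q s : ℕ, (p ^ (a + 1) * q + s) / p = p ^ a * q + s / p := fun q s => by
      rw [pow_succ', mul_assoc, Nat.mul_add_div hp.pos]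
    have hc : ∀ x y : ℕ, (x.choose y : F) = ((x % p).choose (y % p) : F) * ((x / p).choose (y / p) : F) := by
      intro x y
      rw [← Nat.cast_mul, CharP.natCast_eq_natCast F p]
      exact Choose.choose_modEq_choose_mod_mul_choose_div_nat
    rw [hc, e1, e1, e2, e2, ih q k _ _ (Nat.div_lt_of_lt_mul (by rwa [← pow_succ']))
      (Nat.div_lt_of_lt_mul (by rwa [← pow_succ'])), hc s t]
    ring

theorem conj_val (h : SpecialLinearGroup (Fin (N + 1)) F) (a φ : Fin (N + 1) → F) (h0 : φ ⬝ᵥ a = 0) :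
    (h * tv a φ h0 * h⁻¹).1 = 1 + vecMulVec (h.1 *ᵥ a) (φ ᵥ* (h⁻¹).1) := by
  rw [val_mul, val_mul, tv_val, mul_add, mul_one, add_mul, ← val_mul, mul_inv_cancel, val_one,
    mul_vecMulVec, vecMulVec_mul]

theorem inv_val (a φ : Fin (N + 1) → F) (h0 : φ ⬝ᵥ a = 0) :
    ((tv a φ h0)⁻¹).1 = 1 + vecMulVec (-a) φ := by
  have h1 : tv a φ h0 * tv (-a) φ (by rw [dotProduct_neg, h0, neg_zero]) = 1 := by
    apply sl_ext
    change (tv a φ h0).1 * (tv _ φ _).1 = 1
    rw [tv_val, tv_val, neg_vecMulVec, add_mul, one_mul, mul_add, mul_one, mul_neg, tv_mul_apply, h0]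
    simp
  rw [inv_eq_of_mul_eq_one_right h1, tv_val]

variable (hN : 3 ≤ N) (lam : F)

theorem ch_av_zero_zero (hN : 3 ≤ N) : (ch 0 : Fin (N + 1) → F) ⬝ᵥ (lam • av 0) = 0 := by
  rw [dotProduct_smul, ch_dot_av, cc_lt (by omega) (by omega), smul_zero]

/-- The corner transvection. -/
def corner (hN : 3 ≤ N) : SpecialLinearGroup (Fin (N + 1)) F := tv (lam • av 0) (ch 0) (ch_av_zero_zero lam hN)

theorem conj_corner (hN : 3 ≤ N) (j : ℤ) : (sh N F ^ j * corner lam hN * (sh N F ^ j)⁻¹).1 =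
    1 + vecMulVec (lam • av j) (ch j) := by
  rw [corner, conj_val, mulVec_smul, sh_mulVec, add_zero, ← _root_.zpow_neg, vecMul_sh, zero_add]

/-- The group generated by the shift and its conjugate. -/
def gen (hN : 3 ≤ N) : Subgroup (SpecialLinearGroup (Fin (N + 1)) F) :=
  Subgroup.closure {sh N F, corner lam hN * sh N F * (corner lam hN)⁻¹}

theorem sh_mem : sh N F ∈ gen lam hN := Subgroup.subset_closure (by simp)

/-- `w = u⁻¹ v`. -/
def ww (hN : 3 ≤ N) : SpecialLinearGroup (Fin (N + 1)) F :=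
  (sh N F)⁻¹ * (corner lam hN * sh N F * (corner lam hN)⁻¹)

theorem ww_mem : ww lam hN ∈ gen lam hN :=
  mul_mem (inv_mem (sh_mem hN lam)) (Subgroup.subset_closure (by simp))

theorem ww_mulVec (x : Fin (N + 1) → F) :
    (ww lam hN).1 *ᵥ x = x - (lam * (ch 0 ⬝ᵥ x)) • av 0 + (lam * (ch (-1) ⬝ᵥ x)) • av (-1) := by
  have h1 : ww lam hN = ((sh N F)⁻¹ * corner lam hN * (sh N F)⁻¹⁻¹) * (corner lam hN)⁻¹ := by
    rw [ww]; group
  rw [h1, val_mul, corner, conj_val, inv_val, inv_inv,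
    show (sh N F)⁻¹ = sh N F ^ (-1 : ℤ) from (_root_.zpow_neg_one _).symm]
  rw [mulVec_smul, sh_mulVec, show (-1 : ℤ) + 0 = -1 by ring]
  have e : (ch 0 : Fin (N + 1) → F) ᵥ* (sh N F).1 = ch (-1) := by
    have := vecMul_sh (N := N) (F := F) 0 (-1)
    rwa [neg_neg, zpow_one, zero_add] at this
  have e1 : (ch (-1) : Fin (N + 1) → F) ⬝ᵥ av 0 = 0 := by
    rw [ch_dot_av, cc_lt (by omega) (by omega)]
  rw [e]
  simp only [← mulVec_mulVec, add_mulVec, one_mulVec, vecMulVec_mulVec, op_smul_eq_smul, neg_smul, smul_neg,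
    dotProduct_add, dotProduct_neg, dotProduct_smul, e1, smul_eq_mul, mul_zero, neg_zero, add_zero, smul_smul]
  module

theorem tr_mem : InG (gen lam hN) ((-lam ^ 3) • av 0) (ch (-2)) := by
  have hd : (ch (-2) : Fin (N + 1) → F) ⬝ᵥ ((-lam ^ 3) • av 0) = 0 := by
    rw [dotProduct_smul, ch_dot_av, cc_lt (by omega) (by omega), smul_zero]
  refine ⟨hd, ?_⟩
  obtain ⟨u, hu⟩ : ∃ u, u = sh N F := ⟨_, rfl⟩
  obtain ⟨g, hg⟩ : ∃ g, g = corner lam hN := ⟨_, rfl⟩
  obtain ⟨t1, ht1⟩ : ∃ t1, t1 = u⁻¹ * g * u := ⟨_, rfl⟩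
  obtain ⟨t2, ht2⟩ : ∃ t2, t2 = u⁻¹ * u⁻¹ * g * (u * u) := ⟨_, rfl⟩
  have hum : u ∈ gen lam hN := hu ▸ sh_mem hN lam
  have hvm : g * u * g⁻¹ ∈ gen lam hN := by subst hu hg; exact Subgroup.subset_closure (by simp)
  obtain ⟨A, hA⟩ : ∃ A, A = g * t1⁻¹ * g⁻¹ * (g * t2 * g⁻¹) := ⟨_, rfl⟩
  obtain ⟨B, hB⟩ : ∃ B, B = t2 * t1⁻¹ := ⟨_, rfl⟩
  have hAm : A ∈ gen lam hN := by
    have : A = (g * u * g⁻¹)⁻¹ * (u⁻¹ * (g * u * g⁻¹)) * (g * u * g⁻¹) := by
      subst hA ht1 ht2; group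
    rw [this]
    exact mul_mem (mul_mem (inv_mem hvm) (mul_mem (inv_mem hum) hvm)) hvm
  have hBm : B ∈ gen lam hN := by
    have : B = u⁻¹ * (u⁻¹ * (g * u * g⁻¹)) * u := by subst hB ht1 ht2; group
    rw [this]
    exact mul_mem (mul_mem (inv_mem hum) (mul_mem (inv_mem hum) hvm)) hum
  suffices h : tv _ _ hd = A * B * (B * A)⁻¹ by
    rw [h]; exact mul_mem (mul_mem hAm hBm) (inv_mem (mul_mem hBm hAm))
  rw [eq_mul_inv_iff_mul_eq]
  apply sl_ext
  have dz : ∀ i k : ℤ, 0 ≤ k - i → k - i < N → (ch i : Fin (N + 1) → F) ⬝ᵥ av k = 0 := fun i k h1 h2 => by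
    rw [ch_dot_av, cc_lt h1 h2]
  have vt1 : t1.1 = 1 + vecMulVec (lam • av (-1)) (ch (-1)) := by
    rw [← conj_corner lam hN, ht1, hu, hg, _root_.zpow_neg_one, inv_inv]
  have vt2 : t2.1 = 1 + vecMulVec (lam • av (-2)) (ch (-2)) := by
    rw [← conj_corner lam hN, ht2, hu, hg, show (-2 : ℤ) = -1 + -1 from rfl, _root_.zpow_add, _root_.zpow_neg_one,
      _root_.mul_inv_rev, inv_inv]
  have d11 : (ch (-1) : Fin (N + 1) → F) ⬝ᵥ av (-1) = 0 := dz _ _ (by omega) (by omega)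
  have d10 : (ch (-1) : Fin (N + 1) → F) ⬝ᵥ av 0 = 0 := dz _ _ (by omega) (by omega)
  have d22 : (ch (-2) : Fin (N + 1) → F) ⬝ᵥ av (-2) = 0 := dz _ _ (by omega) (by omega)
  have d21 : (ch (-2) : Fin (N + 1) → F) ⬝ᵥ av (-1) = 0 := dz _ _ (by omega) (by omega)
  have d20 : (ch (-2) : Fin (N + 1) → F) ⬝ᵥ av 0 = 0 := dz _ _ (by omega) (by omega)
  have d12 : (ch (-1) : Fin (N + 1) → F) ⬝ᵥ av (-2) = (-1) ^ N := by
    rw [ch_dot_av, show (-2 : ℤ) - -1 = -1 by norm_num, cc_neg_one]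
  have d01 : (ch 0 : Fin (N + 1) → F) ⬝ᵥ av (-1) = (-1) ^ N := by
    rw [ch_dot_av, sub_zero, cc_neg_one]
  have vt1i : (t1⁻¹).1 = 1 + vecMulVec (-(lam • av (-1))) (ch (-1)) := by
    have h0 : (ch (-1) : Fin (N + 1) → F) ⬝ᵥ (lam • av (-1)) = 0 := by
      rw [dotProduct_smul, d11, smul_zero]
    rw [← inv_val _ _ h0]
    exact congrArg (fun x => (x⁻¹).1) (sl_ext (vt1.trans (tv_val _ _ h0).symm))
  obtain ⟨c2, hc2⟩ : ∃ c2, (ch 0 : Fin (N + 1) → F) ⬝ᵥ av (-2) = c2 := ⟨_, rfl⟩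
  have vg : g.1 = 1 + vecMulVec (lam • av 0) (ch 0) := by rw [hg, corner, tv_val]
  have vgi : (g⁻¹).1 = 1 + vecMulVec (-(lam • av 0)) (ch 0) := by rw [hg, corner, inv_val]
  have vA1 : (g * t1⁻¹ * g⁻¹).1 =
      1 + vecMulVec (-lam • (av (-1) + (lam * (-1) ^ N) • av 0)) (ch (-1)) := by
    rw [val_mul, val_mul, vt1i, mul_add, mul_one, add_mul, mul_vecMulVec, vecMulVec_mul, ← val_mul,
      mul_inv_cancel, val_one, vg, vgi]
    congr 2
    · simp only [add_mulVec, one_mulVec, vecMulVec_mulVec, op_smul_eq_smul, dotProduct_neg, dotProduct_smul,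
        d01, smul_eq_mul]
      module
    · simp only [vecMul_add, vecMul_one, vecMul_vecMulVec, dotProduct_neg, dotProduct_smul, d10]
      simp
  have vA2 : (g * t2 * g⁻¹).1 = 1 + vecMulVec (lam • (av (-2) + (lam * c2) • av 0)) (ch (-2)) := by
    rw [val_mul, val_mul, vt2, mul_add, mul_one, add_mul, mul_vecMulVec, vecMulVec_mul, ← val_mul,
      mul_inv_cancel, val_one, vg, vgi]
    congr 2
    · simp only [add_mulVec, one_mulVec, vecMulVec_mulVec, op_smul_eq_smul, dotProduct_smul, hc2,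
        smul_eq_mul]
      module
    · simp only [vecMul_add, vecMul_one, vecMul_vecMulVec, dotProduct_neg, dotProduct_smul, d20]
      simp
  rw [val_mul, tv_val, val_mul, val_mul, hA, hB, val_mul, val_mul, vA1, vA2, vt2, vt1i]
  have hsq : ((-1 : F) ^ N) * (-1) ^ N = 1 := by rw [← mul_pow]; simp
  simp only [add_mul, mul_add, one_mul, mul_one, tv_mul_apply, add_vecMulVec, smul_vecMulVec, neg_vecMulVec,
    dotProduct_add, dotProduct_smul, dotProduct_neg, d11, d10, d22, d21, d20, d12, smul_eq_mul, mul_zero,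
    zero_mul, add_zero, zero_add, neg_zero, zero_smul, smul_zero, mul_neg, neg_mul, smul_mul_assoc, mul_smul_comm,
    smul_add, smul_neg]
  generalize hs : ((-1 : F) ^ N) = σ at hsq ⊢
  match_scalars <;>
    first | ring1 | linear_combination (lam ^ 3) * hsq | linear_combination (-(lam ^ 3)) * hsq

end Cfsg.Agent.TwoRegular
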