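/-
`⟨u, g u g⁻¹⟩ = SL_{N+1}(F)` when the corner entry generates the field.
-/
import Mathlib
import Cfsg.Agent.Lib.Generation.TwoRegular

set_option autoImplicit false

open Matrix

namespace Cfsg.Agent.TwoRegular

open Cfsg.Agent.RegUnipotentGen

variable {F : Type*} [Field F] {N : ℕ} (hN : 3 ≤ N) (lam : F)

/-- The scalars available on the `k`-th centre for the first coordinate functional. -/
def sc (k : ℤ) : AddSubgroup F where
  carrier := {c | InG (gen lam hN) (c • av k) (ch 0)}
  zero_mem' := by simp only [Set.mem_setOf_eq, zero_smul]; exact InG.zero _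
  add_mem' := fun {a b} ha hb => by simp only [Set.mem_setOf_eq, add_smul] at *; exact ha.add hb
  neg_mem' := fun {a} ha => by simp only [Set.mem_setOf_eq, neg_smul] at *; exact ha.neg

theorem mem_sc {k : ℤ} {c : F} : c ∈ sc hN lam k ↔ InG (gen lam hN) (c • av k) (ch 0) := Iff.rfl

theorem sign_mem {k : ℤ} {c : F} (m : ℕ) (h : (-1) ^ m * c ∈ sc hN lam k) : c ∈ sc hN lam k := by
  rcases neg_one_pow_eq_or F m with e | e <;> rw [e] at h
  · rwa [one_mul] at h
  · rw [neg_one_mul] at h; exact neg_neg c ▸ neg_mem h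

theorem tr_shift (i : ℤ) : InG (gen lam hN) ((-lam ^ 3) • av (i + 2)) (ch i) := by
  have hm : sh N F ^ (i + 2) ∈ gen lam hN := zpow_mem (sh_mem hN lam) _
  have h := (tr_mem hN lam).conj hm
  rw [mulVec_smul, sh_mulVec, add_zero, ← _root_.zpow_neg, vecMul_sh,
    show (-2 : ℤ) + (i + 2) = i by ring] at h
  exact h

theorem gamma_mem : lam ^ 3 ∈ sc hN lam 2 := by
  have h := tr_shift hN lam 0
  rw [zero_add] at h
  have := (sc hN lam 2).neg_mem (x := -lam ^ 3) h
  rwa [neg_neg] at this

theorem wrap {i k : ℤ} {c : F} (h0 : 0 ≤ i + 2) (h1 : i + 2 < N) (hc : c ∈ sc hN lam k) :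
    lam ^ 3 * (cc N F (k - i) * c) ∈ sc hN lam (i + 2) := by
  have h := (tr_shift hN lam i).comm hc (by
    rw [dotProduct_smul, ch_dot_av, sub_zero, cc_lt h0 h1, smul_zero])
  rw [dotProduct_smul, ch_dot_av, smul_smul] at h
  have h2 : c * cc N F (k - i) * (-lam ^ 3) ∈ sc hN lam (i + 2) := h
  have h3 := neg_mem h2
  convert h3 using 1
  ring

theorem hop {i k : ℤ} {c : F} (h1 : 1 ≤ i) (h2 : i < N) (hc : c ∈ sc hN lam k) :
    InG (gen lam hN) ((-(c * (lam * cc N F (k - i)))) • av i +
      (c * (lam * cc N F (k - i + 1))) • av (i - 1)) (ch 0) := by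
  obtain ⟨h, hh⟩ : ∃ h, h = sh N F ^ i * ww lam hN * (sh N F ^ i)⁻¹ := ⟨_, rfl⟩
  have hm : h ∈ gen lam hN := hh ▸ mul_mem (mul_mem (zpow_mem (sh_mem hN lam) _) (ww_mem hN lam))
    (inv_mem (zpow_mem (sh_mem hN lam) _))
  have hv : ∀ x : Fin (N + 1) → F, h.1 *ᵥ x =
      x - (lam * (ch i ⬝ᵥ x)) • av i + (lam * (ch (i - 1) ⬝ᵥ x)) • av (i - 1) := by
    intro x
    have e : ∀ j : ℤ, ch j ⬝ᵥ ((sh N F ^ i)⁻¹.1 *ᵥ x) = ch (i + j) ⬝ᵥ x := fun j => by
      rw [dotProduct_mulVec, ← _root_.zpow_neg, vecMul_sh, add_comm j i]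
    rw [hh, val_mul, val_mul, ← mulVec_mulVec, ← mulVec_mulVec, ww_mulVec, mulVec_add, mulVec_sub, mulVec_smul,
      mulVec_smul, mulVec_mulVec, ← val_mul, mul_inv_cancel, val_one, one_mulVec, sh_mulVec, sh_mulVec,
      e, e, add_zero, ← sub_eq_add_neg]
  have hf : (ch 0 : Fin (N + 1) → F) ᵥ* h.1 = ch 0 := by
    refine dotProduct_eq _ _ fun x => ?_
    rw [← dotProduct_mulVec, hv, dotProduct_add, dotProduct_sub, dotProduct_smul, dotProduct_smul,
      ch_dot_av, ch_dot_av, cc_lt (by omega) (by omega), cc_lt (by omega) (by omega)]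
    simp
  have hfi : (ch 0 : Fin (N + 1) → F) ᵥ* (h⁻¹).1 = ch 0 := by
    conv_lhs => rw [← hf]
    rw [vecMul_vecMul, ← val_mul, mul_inv_cancel, val_one, vecMul_one]
  have hc' := InG.conj hc hm
  rw [hfi, hv, dotProduct_smul, dotProduct_smul, ch_dot_av, ch_dot_av,
    show k - (i - 1) = k - i + 1 by ring] at hc'
  have h4 := hc'.add hc.neg
  convert h4 using 1
  simp only [smul_eq_mul]
  module

theorem step {k : ℤ} {c : F} (h0 : 0 ≤ k) (h1 : k + 1 < N) (hc : c ∈ sc hN lam k) :
    lam * c ∈ sc hN lam (k + 1) := by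
  have h := hop hN lam (i := k + 1) (by omega) h1 hc
  rw [show k - (k + 1) = -1 by ring, cc_neg_one, show (-1 : ℤ) + 1 = 0 by norm_num,
    cc_lt le_rfl (by omega), mul_zero, mul_zero, zero_smul, add_zero] at h
  refine sign_mem hN lam N ?_
  have h2 : -(c * (lam * (-1) ^ N)) ∈ sc hN lam (k + 1) := h
  have h3 := neg_mem h2
  convert h3 using 1
  ring

theorem steps {k : ℤ} {c : F} (h0 : 0 ≤ k) (hc : c ∈ sc hN lam k) : ∀ m : ℕ, k + m < N →
    lam ^ m * c ∈ sc hN lam (k + m) := by
  intro m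
  induction m with
  | zero => intro _; simpa using hc
  | succ m ih =>
    intro hm
    push_cast at hm
    have h := step hN lam (by omega) (by omega) (ih (by omega))
    rw [← mul_assoc, ← pow_succ'] at h
    rw [show k + ((m + 1 : ℕ) : ℤ) = k + m + 1 by push_cast; ring]
    exact h

theorem last_to_one {c : F} (hc : c ∈ sc hN lam ((N : ℤ) - 1)) : lam ^ 3 * c ∈ sc hN lam 1 := by
  have h := wrap hN lam (i := -1) (by norm_num) (by omega) hc
  rw [show (N : ℤ) - 1 - -1 = N by ring, cc_N, one_mul] at h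
  exact h

theorem one_to_zero {c : F} (hc : c ∈ sc hN lam 1) : lam ^ N * c ∈ sc hN lam 0 := by
  have h := steps hN lam (by norm_num) hc (N - 3) (by omega)
  have h2 := wrap hN lam (i := -2) (by norm_num) (by omega) h
  rw [show (1 : ℤ) + (N - 3 : ℕ) - -2 = N by omega, cc_N, one_mul, ← mul_assoc, ← pow_add,
    show 3 + (N - 3) = N by omega] at h2
  exact h2

theorem choose_q (p : ℕ) [Fact p.Prime] [CharP F p] {a q : ℕ} (hq : 1 ≤ q) (hn : N + 1 = p ^ a * q) :
    ((N + (p ^ a + 1) - 1).choose N : F) = q ∧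
      (2 ≤ p ^ a → ((N + p ^ a - 1).choose N : F) = 0) := by
  have hr : 1 ≤ p ^ a := Nat.one_le_pow _ _ (Fact.out : p.Prime).pos
  constructor
  · rw [show N + (p ^ a + 1) - 1 = N + p ^ a by omega, Nat.choose_symm_add,
      show N + p ^ a = p ^ a * q + (p ^ a - 1) by omega]
    have := choose_pow_add (F := F) p a q 1 (p ^ a - 1) 0 (by omega) (by omega)
    simpa using this
  · intro h2
    rw [show N + p ^ a - 1 = N + (p ^ a - 1) by omega, Nat.choose_symm_add,
      show N + (p ^ a - 1) = p ^ a * q + (p ^ a - 2) by omega]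
    have := choose_pow_add (F := F) p a q 0 (p ^ a - 2) (p ^ a - 1) (by omega) (by omega)
    simpa [Nat.choose_eq_zero_of_lt (show p ^ a - 2 < p ^ a - 1 by omega)] using this

set_option maxHeartbeats 1600000 in
theorem gen_eq_top [Finite F] (hgen : ∀ S : Subring F, lam ∈ S → S = ⊤) (hl : lam ≠ 0) :
    gen lam hN = ⊤ := by
  classical
  haveI := Fintype.ofFinite F
  obtain ⟨p, hp⟩ := CharP.exists F
  haveI : Fact p.Prime := ⟨CharP.char_is_prime F p⟩
  obtain ⟨a, q, hq, hn⟩ := Nat.exists_eq_pow_mul_and_not_dvd (n := N + 1) (by omega) p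
    (Fact.out : p.Prime).ne_one
  obtain ⟨r, hr⟩ : ∃ r, r = p ^ a := ⟨_, rfl⟩
  -- stabiliser of the scalars
  let St : Subring F :=
    { carrier := {x | ∀ c ∈ sc hN lam 0, x * c ∈ sc hN lam 0}
      one_mem' := fun c hc => by rwa [one_mul]
      mul_mem' := fun {x y} hx hy c hc => by rw [mul_assoc]; exact hx _ (hy _ hc)
      zero_mem' := fun c _ => by rw [zero_mul]; exact zero_mem _
      add_mem' := fun {x y} hx hy c hc => by rw [add_mul]; exact add_mem (hx _ hc) (hy _ hc)
      neg_mem' := fun {x} hx c hc => by rw [neg_mul]; exact neg_mem (hx _ hc) }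
  have hn1 : lam ^ (N + 1) ∈ St := by
    intro c hc
    have h0 := step hN lam le_rfl (by omega) hc
    rw [zero_add] at h0
    have h := one_to_zero hN lam h0
    rwa [← mul_assoc, ← pow_succ] at h
  have hinv : ∀ z ∈ St, z⁻¹ ∈ St := by
    intro z hz
    by_cases h0 : z = 0
    · rw [h0, _root_.inv_zero]; exact zero_mem _
    have h1 : z⁻¹ = z ^ (Fintype.card F - 2) := by
      refine inv_eq_of_mul_eq_one_right ?_
      have h2 := Fintype.one_lt_card (α := F)
      rw [← pow_succ', show Fintype.card F - 2 + 1 = Fintype.card F - 1 by omega,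
        FiniteField.pow_card_sub_one_eq_one z h0]
    rw [h1]; exact pow_mem hz _
  have hlr : lam ^ r ∈ St := by
    by_cases hq1 : q = 1
    · rwa [hr, show p ^ a = N + 1 by rw [hn, hq1, mul_one]]
    have hq0 : 1 ≤ q := Nat.one_le_iff_ne_zero.2 (fun e => hq (e ▸ dvd_zero p))
    have hr1 : 1 ≤ r := hr ▸ Nat.one_le_pow _ _ (Fact.out : p.Prime).pos
    have hrN : r + 1 < N := by
      have h2 : 2 * r ≤ N + 1 := by rw [hn, ← hr, mul_comm 2]; exact Nat.mul_le_mul_left r (by omega)
      by_contra hcon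
      have hr2 : r = 2 := by omega
      have hq2 : q = 2 := by nlinarith [hr2, hr, hn]
      have hp2 : p = 2 := by
        have := (Nat.prime_dvd_prime_iff_eq (Fact.out : p.Prime) Nat.prime_two).1
        apply this
        rw [← hr2, hr]
        rcases a with _ | a
        · simp at hr; omega
        · exact dvd_pow_self p (by omega)
      exact hq (by rw [hp2, hq2])
    have hqF : (q : F) ≠ 0 := fun e => hq ((CharP.cast_eq_zero_iff F p q).1 e)
    obtain ⟨e1, e2⟩ := choose_q (F := F) p hq0 hn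
    have hz : (q : F) * lam ^ (2 * (N + 1) - r) ∈ St := by
      intro c hc
      have h := hop hN lam (i := ((r + 1 : ℕ) : ℤ)) (by omega) (by omega) hc
      have ec1 : cc N F (0 - ((r + 1 : ℕ) : ℤ)) = (-1) ^ N * (q : F) := by
        rw [zero_sub, cc_neg, hr, e1]
      have hsub : c * (lam * cc N F (0 - ((r + 1 : ℕ) : ℤ) + 1)) ∈ sc hN lam (((r + 1 : ℕ) : ℤ) - 1) := by
        rw [show 0 - ((r + 1 : ℕ) : ℤ) + 1 = -(r : ℤ) by push_cast; ring, cc_neg,
          show ((r + 1 : ℕ) : ℤ) - 1 = (r : ℤ) by push_cast; ring]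
        rcases Nat.lt_or_ge r 2 with h1 | h1
        · have : r = 1 := by omega
          subst this
          refine sign_mem hN lam N ?_
          have hh : ((N + 1 - 1).choose N : F) = 1 := by
            rw [Nat.add_sub_cancel, Nat.choose_self, Nat.cast_one]
          rw [hh]
          have := step hN lam le_rfl (by omega) hc
          rw [zero_add] at this
          have e : ((-1 : F) ^ N) * ((-1) ^ N) = 1 := by rw [← mul_pow]; simp
          rwa [show (-1) ^ N * (c * (lam * ((-1) ^ N * 1))) = lam * c by linear_combination (c * lam) * e]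
        · rw [hr, e2 (hr ▸ h1), mul_zero, mul_zero, mul_zero]; exact zero_mem _
      have h3 := h.add (InG.neg hsub)
      rw [ec1, add_neg_cancel_right] at h3
      have h4 : -(c * (lam * ((-1) ^ N * (q : F)))) ∈ sc hN lam ((r + 1 : ℕ) : ℤ) := h3
      have h5 : (q : F) * lam * c ∈ sc hN lam ((r + 1 : ℕ) : ℤ) := by
        refine sign_mem hN lam N ?_
        convert neg_mem h4 using 1
        ring
      have h6 := steps hN lam (by omega) h5 (N - 2 - r) (by omega)
      rw [show ((r + 1 : ℕ) : ℤ) + ((N - 2 - r : ℕ) : ℤ) = (N : ℤ) - 1 by omega] at h6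
      have h7 := one_to_zero hN lam (last_to_one hN lam h6)
      convert h7 using 1
      rw [show 2 * (N + 1) - r = N + (3 + ((N - 2 - r) + 1)) by omega, pow_add, pow_add, pow_succ]
      ring
    have : lam ^ r = lam ^ (N + 1) * lam ^ (N + 1) * ((q : F) * ((q : F) * lam ^ (2 * (N + 1) - r))⁻¹) := by
      have hw : lam ^ (2 * (N + 1) - r) ≠ 0 := pow_ne_zero _ hl
      field_simp
      rw [← pow_add, ← pow_mul, mul_comm (N + 1) 2, show r + (2 * (N + 1) - r) = 2 * (N + 1) by omega]
    rw [this]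
    exact mul_mem (mul_mem hn1 hn1) (mul_mem (natCast_mem St q) (hinv _ hz))
  have hlam : lam ∈ St := by
    obtain ⟨e, -, he⟩ := FiniteField.card F p
    have h1 : lam ^ (p ^ ((e : ℕ) * a)) = lam := by
      rw [pow_mul p (e : ℕ) a, ← he, FiniteField.pow_card_pow]
    have ha : a ≤ (e : ℕ) * a := Nat.le_mul_of_pos_left a e.pos
    rw [← h1, show p ^ ((e : ℕ) * a) = r * p ^ ((e : ℕ) * a - a) by rw [hr, ← pow_add]; congr 1; omega,
      pow_mul]
    exact pow_mem hlr _
  have hall : ∀ x : F, x ∈ St := fun x => by rw [hgen St hlam]; exact Subring.mem_top x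
  have hzero : ∀ c : F, c ∈ sc hN lam 0 := by
    intro c
    have h1 := steps hN lam (by norm_num) (gamma_mem hN lam) (N - 3) (by omega)
    rw [show (2 : ℤ) + ((N - 3 : ℕ) : ℤ) = (N : ℤ) - 1 by omega] at h1
    have h2 := one_to_zero hN lam (last_to_one hN lam h1)
    have hne : lam ^ N * (lam ^ 3 * (lam ^ (N - 3) * lam ^ 3)) ≠ 0 := by simp [hl]
    have := hall (c / (lam ^ N * (lam ^ 3 * (lam ^ (N - 3) * lam ^ 3)))) _ h2
    rwa [div_mul_cancel₀ _ hne] at this
  have hk : ∀ k : ℕ, k < N → ∀ c : F, InG (gen lam hN) (c • av (k : ℤ)) (ch 0) := by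
    intro k hk c
    have h := steps hN lam le_rfl (hzero (c / lam ^ k)) k (by omega)
    rw [zero_add, mul_div_cancel₀ _ (pow_ne_zero _ hl)] at h
    exact h
  obtain ⟨e, he⟩ : ∃ e : ℕ → ℕ → Fin (N + 1) → F, e = fun j (k : ℕ) =>
      (sh N F ^ (k : ℤ)).1 *ᵥ Pi.single (⟨N - j, by omega⟩ : Fin (N + 1)) 1 := ⟨_, rfl⟩
  have hP : ∀ j k : ℕ, j + k < N → ∀ c : F, InG (gen lam hN) (c • e j k) (ch 0) := by
    intro j
    induction j with
    | zero =>
      intro k hk' c
      have := hk k (by omega) c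
      rw [he]
      exact this
    | succ j ih =>
      intro k hjk c
      have h1 : e (j + 1) k = e j (k + 1) - e j k := by
        rw [he]
        simp only []
        rw [show (((k + 1 : ℕ)) : ℤ) = (k : ℤ) + 1 by push_cast; ring, _root_.zpow_add, zpow_one, val_mul,
          ← mulVec_mulVec, ← mulVec_sub]
        congr 1
        funext i
        rw [Pi.sub_apply, upperN_val]
        simp only [Pi.single_apply, Fin.ext_iff]
        have := i.isLt
        split_ifs <;> first | omega | simp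
      rw [h1, smul_sub, sub_eq_add_neg]
      exact (ih (k + 1) (by omega) c).add (ih k (by omega) c).neg
  have hfull : FullAt (gen lam hN) (ch 0) := by
    intro x hx
    rw [ch_zero, single_dotProduct, one_mul] at hx
    have hsum : x = ∑ i, x i • (Pi.single i (1 : F) : Fin (N + 1) → F) := by
      funext j; simp [Finset.sum_apply, Pi.single_apply]
    rw [hsum]
    refine Finset.sum_induction _ (fun v => InG (gen lam hN) v (ch 0)) (fun _ _ h1 h2 => h1.add h2)
      (InG.zero _) fun i _ => ?_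
    by_cases hi : i = 0
    · subst hi; rw [hx, zero_smul]; exact InG.zero _
    have hi' : (i : ℕ) ≠ 0 := fun e => hi (Fin.ext e)
    have := hP (N - i) 0 (by omega) (x i)
    rw [he] at this
    simp only [Nat.cast_zero, zpow_zero, val_one, one_mulVec] at this
    have hidx : (⟨N - (N - i), by omega⟩ : Fin (N + 1)) = i := Fin.ext (by simp only []; omega)
    rwa [hidx] at this
  haveI : Nontrivial (Fin (N + 1)) := Fin.nontrivial_iff_two_le.2 (by omega)
  refine eq_top_of_fullAt fun j => ?_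
  have : ∀ m : ℕ, ∀ hm : m < N + 1, FullAt (gen lam hN) (Pi.single (⟨m, hm⟩ : Fin (N + 1)) 1) := by
    intro m
    induction m with
    | zero => intro _; rw [show (⟨0, by omega⟩ : Fin (N + 1)) = 0 from rfl, ← ch_zero]; exact hfull
    | succ m ih =>
      intro hm
      have h1 := ((ih (by omega)).conj (sh_mem hN lam)).add ((ih (by omega)).smul (-1))
      convert h1 using 1
      funext i
      change _ = ((Pi.single _ 1 : Fin (N + 1) → F) ᵥ* (1 + upperN (N + 1) F)) i + _
      rw [vecMul_add, vecMul_one, single_one_vecMul]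
      simp only [Pi.add_apply, Pi.smul_apply, Pi.single_apply, Matrix.row, upperN, of_apply, Fin.ext_iff]
      have := i.isLt
      split_ifs <;> first | omega | simp
  exact this j.1 j.2

end Cfsg.Agent.TwoRegular
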